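import Mathlib

set_option autoImplicit false

namespace Cfsg.Agent.Helper22

open Nat

/-- The 2-adic valuation of `n!`. -/
def nilG (n : ℕ) : ℕ := padicValNat 2 n.factorial

theorem nilG_two_mul (m : ℕ) : nilG (2 * m) = m + nilG m := by
  unfold nilG
  rw [padicValNat_factorial_mul, add_comm]

theorem nilG_two_mul_add_one (m : ℕ) : nilG (2 * m + 1) = m + nilG m := by
  unfold nilG
  rw [padicValNat_factorial_mul_add m (by norm_num : 1 < 2), padicValNat_factorial_mul, add_comm]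

theorem nilG_rec (n : ℕ) : nilG n = n / 2 + nilG (n / 2) := by
  rcases Nat.even_or_odd' n with ⟨m, rfl | rfl⟩
  · rw [nilG_two_mul, Nat.mul_div_cancel_left m (by norm_num)]
  · rw [nilG_two_mul_add_one]
    have h : (2 * m + 1) / 2 = m := by omega
    rw [h]

theorem nilG_zero : nilG 0 = 0 := by simp [nilG]

theorem nilG_one : nilG 1 = 0 := by simp [nilG]

theorem nilG_add_le (a b : ℕ) : nilG a + nilG b ≤ nilG (a + b) := by
  unfold nilG
  have h := Nat.factorial_mul_factorial_dvd_factorial_add a b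
  rw [← padicValNat.mul (Nat.factorial_ne_zero a) (Nat.factorial_ne_zero b)]
  rw [← padicValNat_dvd_iff_le (Nat.factorial_ne_zero (a + b))]
  exact dvd_trans pow_padicValNat_dvd h

theorem nilG_mono {a b : ℕ} (h : a ≤ b) : nilG a ≤ nilG b := by
  have h1 := nilG_add_le a (b - a)
  rw [Nat.add_sub_cancel' h] at h1
  omega

theorem nilG_add_ge (a b : ℕ) :
    nilG a + nilG b + ((a + b) / 2 - a / 2 - b / 2) + ((a + b) / 4 - a / 4 - b / 4) ≤
      nilG (a + b) := by
  have h1 := nilG_rec a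
  have h2 := nilG_rec (a / 2)
  have h3 := nilG_rec b
  have h4 := nilG_rec (b / 2)
  have h5 := nilG_rec (a + b)
  have h6 := nilG_rec ((a + b) / 2)
  have e1 : a / 2 / 2 = a / 4 := by omega
  have e2 : b / 2 / 2 = b / 4 := by omega
  have e3 : (a + b) / 2 / 2 = (a + b) / 4 := by omega
  rw [e1] at h2
  rw [e2] at h4
  rw [e3] at h6
  have h7 := nilG_add_le (a / 4) (b / 4)
  have h8 : nilG (a / 4 + b / 4) ≤ nilG ((a + b) / 4) := nilG_mono (by omega)
  omega

/-- The bound for nilpotent subgroups of the symmetric group of degree `n`. -/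
def nilM (n : ℕ) : ℕ := if n % 4 = 3 then 3 * 2 ^ (nilG n - 1) else 2 ^ nilG n

theorem nilG_pos_of_mod (n : ℕ) (h : n % 4 = 3) : ∃ k, nilG n = k + 1 := by
  have := nilG_rec n
  exact ⟨nilG n - 1, by omega⟩

theorem nilM_of_mod {n k : ℕ} (h : n % 4 = 3) (hk : nilG n = k + 1) : nilM n = 3 * 2 ^ k := by
  unfold nilM
  rw [if_pos h, hk, Nat.add_sub_cancel]

theorem nilM_of_not_mod {n : ℕ} (h : n % 4 ≠ 3) : nilM n = 2 ^ nilG n := by
  unfold nilM
  rw [if_neg h]

theorem two_pow_le_nilM (n : ℕ) : 2 ^ nilG n ≤ nilM n := by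
  by_cases h : n % 4 = 3
  · obtain ⟨k, hk⟩ := nilG_pos_of_mod n h
    rw [nilM_of_mod h hk, hk, pow_succ]
    omega
  · rw [nilM_of_not_mod h]

theorem nilM_pos (n : ℕ) : 1 ≤ nilM n := le_trans Nat.one_le_two_pow (two_pow_le_nilM n)

theorem nilM_mul_le_aux (a b : ℕ) (ha : a % 4 = 3) : nilM a * nilM b ≤ nilM (a + b) := by
  have hK := nilG_add_ge a b
  obtain ⟨ka, hka⟩ := nilG_pos_of_mod a ha
  rw [nilM_of_mod ha hka]
  by_cases hb : b % 4 = 3
  · obtain ⟨kb, hkb⟩ := nilG_pos_of_mod b hb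
    have hab : (a + b) % 4 ≠ 3 := by omega
    rw [nilM_of_mod hb hkb, nilM_of_not_mod hab]
    have h4 : ka + kb + 4 ≤ nilG (a + b) := by omega
    calc 3 * 2 ^ ka * (3 * 2 ^ kb) = 9 * 2 ^ (ka + kb) := by rw [pow_add]; ring
      _ ≤ 16 * 2 ^ (ka + kb) := Nat.mul_le_mul_right _ (by norm_num)
      _ = 2 ^ (ka + kb + 4) := by rw [pow_add]; ring
      _ ≤ 2 ^ nilG (a + b) := Nat.pow_le_pow_right (by norm_num) h4
  · rw [nilM_of_not_mod hb]
    by_cases hab : (a + b) % 4 = 3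
    · obtain ⟨kab, hkab⟩ := nilG_pos_of_mod (a + b) hab
      rw [nilM_of_mod hab hkab]
      have h4 : ka + nilG b ≤ kab := by omega
      calc 3 * 2 ^ ka * 2 ^ nilG b = 3 * 2 ^ (ka + nilG b) := by rw [pow_add]; ring
        _ ≤ 3 * 2 ^ kab := Nat.mul_le_mul_left _ (Nat.pow_le_pow_right (by norm_num) h4)
    · rw [nilM_of_not_mod hab]
      have h4 : ka + nilG b + 2 ≤ nilG (a + b) := by omega
      calc 3 * 2 ^ ka * 2 ^ nilG b = 3 * 2 ^ (ka + nilG b) := by rw [pow_add]; ring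
        _ ≤ 4 * 2 ^ (ka + nilG b) := Nat.mul_le_mul_right _ (by norm_num)
        _ = 2 ^ (ka + nilG b + 2) := by rw [pow_add]; ring
        _ ≤ 2 ^ nilG (a + b) := Nat.pow_le_pow_right (by norm_num) h4

theorem nilM_mul_le (a b : ℕ) : nilM a * nilM b ≤ nilM (a + b) := by
  by_cases ha : a % 4 = 3
  · exact nilM_mul_le_aux a b ha
  · by_cases hb : b % 4 = 3
    · rw [mul_comm, add_comm]
      exact nilM_mul_le_aux b a hb
    · rw [nilM_of_not_mod ha, nilM_of_not_mod hb, ← pow_add]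
      exact le_trans (Nat.pow_le_pow_right (by norm_num) (nilG_add_le a b)) (two_pow_le_nilM _)

theorem nilM_mono {a b : ℕ} (h : a ≤ b) : nilM a ≤ nilM b := by
  have h1 := nilM_mul_le a (b - a)
  rw [Nat.add_sub_cancel' h] at h1
  calc nilM a = nilM a * 1 := (mul_one _).symm
    _ ≤ nilM a * nilM (b - a) := Nat.mul_le_mul_left _ (nilM_pos _)
    _ ≤ nilM b := h1

theorem two_pow_le_mul (n : ℕ) (hn : 1 ≤ n) : 2 ^ n ≤ 2 * n * 2 ^ nilG n := by
  induction n using Nat.strong_induction_on with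
  | _ n ih =>
    by_cases h1 : n = 1
    · subst h1
      rw [nilG_one]
      norm_num
    · rcases Nat.even_or_odd' n with ⟨m, rfl | rfl⟩
      · have ih' := ih m (by omega) (by omega)
        rw [nilG_two_mul, pow_add, two_mul m, pow_add]
        have key : 2 ^ m * 2 ^ m ≤ 2 ^ m * (2 * m * 2 ^ nilG m) := Nat.mul_le_mul_left _ ih'
        nlinarith [key, Nat.zero_le (m * (2 ^ m * 2 ^ nilG m))]
      · have ih' := ih m (by omega) (by omega)
        rw [nilG_two_mul_add_one, pow_add (2) m (nilG m), pow_succ, two_mul m, pow_add]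
        have key : 2 ^ m * 2 ^ m ≤ 2 ^ m * (2 * m * 2 ^ nilG m) := Nat.mul_le_mul_left _ ih'
        nlinarith [key, Nat.zero_le (m * (2 ^ m * 2 ^ nilG m)),
          Nat.zero_le (2 ^ m * 2 ^ nilG m)]

theorem geom_aux (p a : ℕ) :
    p * (∑ i ∈ Finset.range a, p ^ i) + 1 = (∑ i ∈ Finset.range a, p ^ i) + p ^ a := by
  induction a with
  | zero => simp
  | succ a ih =>
    have e : p * p ^ a = p ^ (a + 1) := (pow_succ' p a).symm
    rw [Finset.sum_range_succ, mul_add, e]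
    linarith [ih]

theorem pow_bound_step (p : ℕ) (hp : 3 ≤ p) (a : ℕ) (ha : 1 ≤ a)
    (h : 2 * p ^ ((∑ i ∈ Finset.range a, p ^ i) + a) ≤ 2 ^ (p ^ a)) :
    2 * p ^ ((∑ i ∈ Finset.range (a + 1), p ^ i) + (a + 1)) ≤ 2 ^ (p ^ (a + 1)) := by
  have hg := geom_aux p a
  rw [Finset.sum_range_succ, pow_succ p a, pow_mul]
  generalize (∑ i ∈ Finset.range a, p ^ i) = S at *
  have h1 : a + 2 ≤ p * a := by nlinarith
  have h2 : S + p ^ a + (a + 1) ≤ p * (S + a) := by
    rw [mul_add]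
    omega
  calc 2 * p ^ (S + p ^ a + (a + 1)) ≤ 2 ^ p * p ^ (p * (S + a)) :=
        Nat.mul_le_mul (Nat.le_self_pow (by omega) 2) (Nat.pow_le_pow_right (by omega) h2)
    _ = (2 * p ^ (S + a)) ^ p := by rw [mul_pow, ← pow_mul, mul_comm (S + a) p]
    _ ≤ (2 ^ (p ^ a)) ^ p := Nat.pow_le_pow_left h p

theorem pow_bound (p : ℕ) (hp : 3 ≤ p) (a₀ : ℕ) (ha₀ : 1 ≤ a₀)
    (hbase : 2 * p ^ ((∑ i ∈ Finset.range a₀, p ^ i) + a₀) ≤ 2 ^ (p ^ a₀)) :
    ∀ a, a₀ ≤ a → 2 * p ^ ((∑ i ∈ Finset.range a, p ^ i) + a) ≤ 2 ^ (p ^ a) := by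
  intro a ha
  induction a, ha using Nat.le_induction with
  | base => exact hbase
  | succ a ha ih => exact pow_bound_step p hp a (by omega) ih

theorem two_mul_sq_le_two_pow (p : ℕ) (hp : 7 ≤ p) : 2 * p ^ 2 ≤ 2 ^ p := by
  induction p, hp using Nat.le_induction with
  | base => norm_num
  | succ p hp ih =>
    rw [pow_succ 2 p]
    nlinarith

/-- The order of a Sylow `p`-subgroup of `S_{p^a}`, `p` odd, is at most `nilM (p ^ a)`. -/
theorem prime_pow_le_nilM (p : ℕ) (hp : p.Prime) (hp2 : p ≠ 2) (a : ℕ) (ha : 1 ≤ a) :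
    p ^ (∑ i ∈ Finset.range a, p ^ i) ≤ nilM (p ^ a) := by
  have tool : ∀ a, 2 * p ^ ((∑ i ∈ Finset.range a, p ^ i) + a) ≤ 2 ^ (p ^ a) →
      p ^ (∑ i ∈ Finset.range a, p ^ i) ≤ nilM (p ^ a) := by
    intro a h
    have h1 := two_pow_le_mul (p ^ a) (Nat.one_le_pow _ _ hp.pos)
    have h2 : 2 * p ^ a * p ^ (∑ i ∈ Finset.range a, p ^ i) ≤ 2 * p ^ a * 2 ^ nilG (p ^ a) := by
      calc 2 * p ^ a * p ^ (∑ i ∈ Finset.range a, p ^ i)
          = 2 * p ^ ((∑ i ∈ Finset.range a, p ^ i) + a) := by rw [pow_add]; ring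
        _ ≤ 2 ^ (p ^ a) := h
        _ ≤ 2 * p ^ a * 2 ^ nilG (p ^ a) := h1
    have hpos : 0 < 2 * p ^ a := by have := pow_pos hp.pos a; omega
    exact (Nat.le_of_mul_le_mul_left h2 hpos).trans (two_pow_le_nilM _)
  have hp3 : 3 ≤ p := by have := hp.two_le; omega
  have g2 : nilG 2 = 1 := by
    have := nilG_two_mul 1
    rw [nilG_one] at this
    exact this
  have g3 : nilG 3 = 1 := by
    have := nilG_two_mul_add_one 1
    rw [nilG_one] at this
    exact this
  have g4 : nilG 4 = 3 := by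
    have := nilG_two_mul 2
    rw [g2] at this
    exact this
  have g5 : nilG 5 = 3 := by
    have := nilG_two_mul_add_one 2
    rw [g2] at this
    exact this
  have g9 : nilG 9 = 7 := by
    have := nilG_two_mul_add_one 4
    rw [g4] at this
    exact this
  rcases (by omega : p = 3 ∨ p = 4 ∨ p = 5 ∨ p = 6 ∨ 7 ≤ p) with rfl | rfl | rfl | rfl | h7
  · rcases (by omega : a = 1 ∨ a = 2 ∨ 3 ≤ a) with rfl | rfl | h3
    · have : nilM (3 ^ 1) = 3 * 2 ^ 0 := nilM_of_mod (by norm_num) (by rw [pow_one, g3])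
      rw [this]
      norm_num [Finset.sum_range_succ]
    · have : nilM (3 ^ 2) = 2 ^ nilG (3 ^ 2) := nilM_of_not_mod (by norm_num)
      rw [this, show (3 : ℕ) ^ 2 = 9 from by norm_num, g9]
      norm_num [Finset.sum_range_succ]
    · exact tool a (pow_bound 3 (by norm_num) 3 (by norm_num)
        (by norm_num [Finset.sum_range_succ]) a h3)
  · exact absurd hp (by norm_num)
  · rcases (by omega : a = 1 ∨ 2 ≤ a) with rfl | h2
    · have : nilM (5 ^ 1) = 2 ^ nilG (5 ^ 1) := nilM_of_not_mod (by norm_num)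
      rw [this, pow_one, g5]
      norm_num [Finset.sum_range_succ]
    · exact tool a (pow_bound 5 (by norm_num) 2 (by norm_num)
        (by norm_num [Finset.sum_range_succ]) a h2)
  · exact absurd hp (by norm_num)
  · exact tool a (pow_bound p hp3 1 (by norm_num)
      (by
        rw [Finset.sum_range_one, pow_zero, pow_one]
        exact two_mul_sq_le_two_pow p h7) a ha)

end Cfsg.Agent.Helper22
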