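import Mathlib
import Cfsg.Agent.Helper22.NilSym1
import Cfsg.Agent.Helper11.Feit3

set_option autoImplicit false

namespace Cfsg.Agent.Helper22

open Equiv

/-- If commuting elements of coprime-order subgroups have a product fixing a point, both fix
it. -/
theorem fix_of_mul_fix {Ω : Type*} (A B : Subgroup (Perm Ω))
    (hcomm : ∀ a ∈ A, ∀ b ∈ B, a * b = b * a)
    (hcop : (Nat.card A).Coprime (Nat.card B)) (ω : Ω) (c d : Perm Ω) (hc : c ∈ A) (hd : d ∈ B)
    (h : (c * d) ω = ω) : c ω = ω ∧ d ω = ω := by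
  have h1 : ((c * d) ^ Nat.card B) ω = ω := Equiv.Perm.pow_apply_eq_self_of_apply_eq_self h _
  have h2 : (c * d) ^ Nat.card B = c ^ Nat.card B := by
    rw [(show Commute c d from hcomm c hc d hd).mul_pow]
    have h3 : d ^ Nat.card B = 1 := by
      have h4 := pow_card_eq_one' (G := B) (x := ⟨d, hd⟩)
      exact congrArg Subtype.val h4
    rw [h3, mul_one]
  rw [h2] at h1
  have h3 : (Nat.card B).Coprime (orderOf c) := by
    have h4 : orderOf c ∣ Nat.card A := by
      have h5 := orderOf_dvd_natCard (⟨c, hc⟩ : A)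
      rwa [Subgroup.orderOf_mk] at h5
    exact Nat.Coprime.coprime_dvd_right h4 hcop.symm
  obtain ⟨m, hm⟩ := exists_pow_eq_self_of_coprime h3
  have h4 : c ω = ω := by
    have h5 := Equiv.Perm.pow_apply_eq_self_of_apply_eq_self h1 m
    rwa [hm] at h5
  refine ⟨h4, ?_⟩
  have h5 : c (d ω) = ω := h
  have h6 : c (d ω) = c ω := by rw [h5, h4]
  exact c.injective h6

/-- If `A`, `B` commute and `AB` is transitive, `A` acts faithfully on each of its orbits. -/
theorem faithful_on_orbit {Ω : Type*} (A B : Subgroup (Perm Ω))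
    (hcomm : ∀ a ∈ A, ∀ b ∈ B, a * b = b * a) (ω : Ω)
    (hT : ∀ ω' : Ω, ∃ a ∈ A, ∃ b ∈ B, (a * b) ω = ω') :
    Function.Injective (MulAction.toPermHom A ↥(MulAction.orbit A ω)) := by
  rw [injective_iff_map_eq_one]
  intro a ha
  apply Subtype.ext
  apply Equiv.ext
  intro ω'
  obtain ⟨a', ha', b', hb', h⟩ := hT ω'
  have hmem : a' ω ∈ MulAction.orbit A ω := ⟨⟨a', ha'⟩, rfl⟩
  have h1 : (a : Perm Ω) (a' ω) = a' ω := by
    have h0 := congrArg (fun σ : Perm ↥(MulAction.orbit A ω) => (σ ⟨a' ω, hmem⟩ : Ω)) ha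
    exact h0
  have h2 : a' * b' = b' * a' := hcomm a' ha' b' hb'
  have h3 : (a : Perm Ω) * b' = b' * (a : Perm Ω) := hcomm a a.2 b' hb'
  rw [← h, h2]
  show (a : Perm Ω) (b' (a' ω)) = b' (a' ω)
  have h4 := congrArg (fun σ : Perm Ω => σ (a' ω)) h3
  simp only [Perm.mul_apply] at h4
  rw [h4, h1]

theorem card_mul_le_of_commuting {Ω : Type} [Finite Ω] (n : ℕ) (hn : Nat.card Ω = n)
    (ih : ∀ m < n, ∀ (Ω' : Type) [Finite Ω'], Nat.card Ω' = m →
      ∀ N' : Subgroup (Perm Ω'), Group.IsNilpotent N' → Nat.card N' ≤ nilM m)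
    (A B : Subgroup (Perm Ω)) (hA : Group.IsNilpotent A) (hB : Group.IsNilpotent B)
    (hcomm : ∀ a ∈ A, ∀ b ∈ B, a * b = b * a)
    (hcop : (Nat.card A).Coprime (Nat.card B)) (hA1 : A ≠ ⊥) (hB1 : B ≠ ⊥) (ω : Ω)
    (hT : ∀ ω' : Ω, ∃ a ∈ A, ∃ b ∈ B, (a * b) ω = ω') :
    Nat.card A * Nat.card B ≤ nilM n := by
  classical
  have hT' : ∀ ω' : Ω, ∃ b ∈ B, ∃ a ∈ A, (b * a) ω = ω' := by
    intro ω'
    obtain ⟨a, ha, b, hb, h⟩ := hT ω'
    exact ⟨b, hb, a, ha, by rw [← hcomm a ha b hb]; exact h⟩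
  have hcomm' : ∀ b ∈ B, ∀ a ∈ A, b * a = a * b := fun b hb a ha => (hcomm a ha b hb).symm
  have hinjA := faithful_on_orbit A B hcomm ω hT
  have hinjB := faithful_on_orbit B A hcomm' ω hT'
  have hx2 : 2 ≤ Nat.card ↥(MulAction.orbit A ω) := by
    by_contra hlt
    have hsub : Subsingleton ↥(MulAction.orbit A ω) :=
      (Finite.card_le_one_iff_subsingleton).mp (by omega)
    apply hA1
    rw [Subgroup.eq_bot_iff_forall]
    intro a ha
    have h1 : (⟨a, ha⟩ : A) = 1 := hinjA (Subsingleton.elim _ _)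
    exact congrArg Subtype.val h1
  have hy2 : 2 ≤ Nat.card ↥(MulAction.orbit B ω) := by
    by_contra hlt
    have hsub : Subsingleton ↥(MulAction.orbit B ω) :=
      (Finite.card_le_one_iff_subsingleton).mp (by omega)
    apply hB1
    rw [Subgroup.eq_bot_iff_forall]
    intro b hb
    have h1 : (⟨b, hb⟩ : B) = 1 := hinjB (Subsingleton.elim _ _)
    exact congrArg Subtype.val h1
  have hxy : Nat.card ↥(MulAction.orbit A ω) * Nat.card ↥(MulAction.orbit B ω) ≤ n := by
    rw [← hn, ← Nat.card_prod]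
    have hcA : ∀ u : ↥(MulAction.orbit A ω), ∃ a : A, (a : Perm Ω) ω = u.1 := by
      intro u
      obtain ⟨a, ha⟩ := u.2
      exact ⟨a, ha⟩
    have hcB : ∀ v : ↥(MulAction.orbit B ω), ∃ b : B, (b : Perm Ω) ω = v.1 := by
      intro v
      obtain ⟨b, hb⟩ := v.2
      exact ⟨b, hb⟩
    choose cA hcA' using hcA
    choose cB hcB' using hcB
    apply Nat.card_le_card_of_injective
      (fun uv : ↥(MulAction.orbit A ω) × ↥(MulAction.orbit B ω) =>
        (cA uv.1 : Perm Ω) ((cB uv.2 : Perm Ω) ω))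
    rintro ⟨u, v⟩ ⟨u', v'⟩ h
    have h' : (cA u : Perm Ω) ((cB v : Perm Ω) ω) = (cA u' : Perm Ω) ((cB v' : Perm Ω) ω) := h
    have hmA : (cA u' : Perm Ω)⁻¹ * (cA u : Perm Ω) ∈ A := A.mul_mem (A.inv_mem (cA u').2) (cA u).2
    have hmB : (cB v' : Perm Ω)⁻¹ * (cB v : Perm Ω) ∈ B := B.mul_mem (B.inv_mem (cB v').2) (cB v).2
    have key : (((cA u' : Perm Ω)⁻¹ * (cA u : Perm Ω)) *
        ((cB v' : Perm Ω)⁻¹ * (cB v : Perm Ω))) ω = ω := by
      have e1 : ((cA u' : Perm Ω)⁻¹ * (cA u : Perm Ω)) * ((cB v' : Perm Ω)⁻¹ * (cB v : Perm Ω)) =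
          (cB v' : Perm Ω)⁻¹ * ((cA u' : Perm Ω)⁻¹ * ((cA u : Perm Ω) * (cB v : Perm Ω))) := by
        have hc := hcomm _ hmA _ (B.inv_mem (cB v').2)
        rw [← mul_assoc, hc]
        simp only [mul_assoc]
      rw [e1]
      simp only [Perm.mul_apply]
      rw [h']
      simp
    obtain ⟨k1, k2⟩ := fix_of_mul_fix A B hcomm hcop ω _ _ hmA hmB key
    have e2 : (cA u : Perm Ω) ω = (cA u' : Perm Ω) ω := by
      have h5 := congrArg (cA u' : Perm Ω) k1
      simpa [Perm.mul_apply] using h5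
    have e3 : (cB v : Perm Ω) ω = (cB v' : Perm Ω) ω := by
      have h5 := congrArg (cB v' : Perm Ω) k2
      simpa [Perm.mul_apply] using h5
    apply Prod.ext
    · apply Subtype.ext
      show u.1 = u'.1
      rw [← hcA' u, ← hcA' u']
      exact e2
    · apply Subtype.ext
      show v.1 = v'.1
      rw [← hcB' v, ← hcB' v']
      exact e3
  have ha' := Nat.mul_le_mul_left (Nat.card ↥(MulAction.orbit A ω)) hy2
  have hb' := Nat.mul_le_mul_right (Nat.card ↥(MulAction.orbit B ω)) hx2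
  have hx_lt : Nat.card ↥(MulAction.orbit A ω) < n := by omega
  have hy_lt : Nat.card ↥(MulAction.orbit B ω) < n := by omega
  have hsum : Nat.card ↥(MulAction.orbit A ω) + Nat.card ↥(MulAction.orbit B ω) ≤ n := by omega
  haveI : Group.IsNilpotent A := hA
  haveI : Group.IsNilpotent B := hB
  have hrA : Nat.card A ≤ nilM (Nat.card ↥(MulAction.orbit A ω)) := by
    have h1 : Nat.card A = Nat.card (MulAction.toPermHom A ↥(MulAction.orbit A ω)).range :=
      Nat.card_congr (MonoidHom.ofInjective hinjA).toEquiv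
    rw [h1]
    exact ih _ hx_lt ↥(MulAction.orbit A ω) rfl _
      (Group.nilpotent_of_surjective (MulAction.toPermHom A ↥(MulAction.orbit A ω)).rangeRestrict
        (MonoidHom.rangeRestrict_surjective _))
  have hrB : Nat.card B ≤ nilM (Nat.card ↥(MulAction.orbit B ω)) := by
    have h1 : Nat.card B = Nat.card (MulAction.toPermHom B ↥(MulAction.orbit B ω)).range :=
      Nat.card_congr (MonoidHom.ofInjective hinjB).toEquiv
    rw [h1]
    exact ih _ hy_lt ↥(MulAction.orbit B ω) rfl _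
      (Group.nilpotent_of_surjective (MulAction.toPermHom B ↥(MulAction.orbit B ω)).rangeRestrict
        (MonoidHom.rangeRestrict_surjective _))
  calc Nat.card A * Nat.card B
      ≤ nilM (Nat.card ↥(MulAction.orbit A ω)) * nilM (Nat.card ↥(MulAction.orbit B ω)) :=
        Nat.mul_le_mul hrA hrB
    _ ≤ nilM (Nat.card ↥(MulAction.orbit A ω) + Nat.card ↥(MulAction.orbit B ω)) :=
        nilM_mul_le _ _
    _ ≤ nilM n := nilM_mono hsum

theorem card_le_of_intransitive {Ω : Type} [Finite Ω] (n : ℕ) (hn : Nat.card Ω = n)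
    (ih : ∀ m < n, ∀ (Ω' : Type) [Finite Ω'], Nat.card Ω' = m →
      ∀ N' : Subgroup (Perm Ω'), Group.IsNilpotent N' → Nat.card N' ≤ nilM m)
    (N : Subgroup (Perm Ω)) (hN : Group.IsNilpotent N) (ω : Ω)
    (hω : MulAction.orbit N ω ≠ Set.univ) : Nat.card N ≤ nilM n := by
  classical
  haveI := hN
  let Y : SubMulAction N Ω :=
    { carrier := (MulAction.orbit N ω)ᶜ
      smul_mem' := by
        intro g x hx hgx
        apply hx
        have h1 : g⁻¹ • (g • x) ∈ MulAction.orbit N ω := MulAction.mem_orbit_of_mem_orbit g⁻¹ hgx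
        rwa [inv_smul_smul] at h1 }
  have hcard : Nat.card ↥(MulAction.orbit N ω) + Nat.card ↥Y = n := by
    rw [← hn, ← Nat.card_sum]
    exact Nat.card_congr (Equiv.Set.sumCompl (MulAction.orbit N ω))
  have hXpos : 0 < Nat.card ↥(MulAction.orbit N ω) :=
    Nat.card_pos_iff.mpr ⟨⟨⟨ω, MulAction.mem_orbit_self ω⟩⟩, inferInstance⟩
  have hYpos : 0 < Nat.card ↥Y := by
    obtain ⟨y, hy⟩ := (Set.ne_univ_iff_exists_notMem _).mp hω
    exact Nat.card_pos_iff.mpr ⟨⟨⟨y, hy⟩⟩, inferInstance⟩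
  have hinj : Function.Injective (fun g : N =>
      ((⟨MulAction.toPermHom N ↥(MulAction.orbit N ω) g, ⟨g, rfl⟩⟩ :
        (MulAction.toPermHom N ↥(MulAction.orbit N ω)).range),
       (⟨MulAction.toPermHom N ↥Y g, ⟨g, rfl⟩⟩ : (MulAction.toPermHom N ↥Y).range))) := by
    intro g g' h
    have h1 : MulAction.toPermHom N ↥(MulAction.orbit N ω) g =
        MulAction.toPermHom N ↥(MulAction.orbit N ω) g' :=
      congrArg (fun t => (t.1 : Perm ↥(MulAction.orbit N ω))) h
    have h2 : MulAction.toPermHom N ↥Y g = MulAction.toPermHom N ↥Y g' :=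
      congrArg (fun t => (t.2 : Perm ↥Y)) h
    apply Subtype.ext
    apply Equiv.ext
    intro x
    by_cases hx : x ∈ MulAction.orbit N ω
    · have h3 := congrArg (fun σ : Perm ↥(MulAction.orbit N ω) => (σ ⟨x, hx⟩ : Ω)) h1
      exact h3
    · have h3 := congrArg (fun σ : Perm ↥Y => (σ ⟨x, hx⟩ : Ω)) h2
      exact h3
  have h3 := Nat.card_le_card_of_injective _ hinj
  rw [Nat.card_prod] at h3
  have h4 : Nat.card (MulAction.toPermHom N ↥(MulAction.orbit N ω)).range ≤
      nilM (Nat.card ↥(MulAction.orbit N ω)) :=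
    ih _ (by omega) _ rfl _
      (Group.nilpotent_of_surjective (MulAction.toPermHom N ↥(MulAction.orbit N ω)).rangeRestrict
        (MonoidHom.rangeRestrict_surjective _))
  have h5 : Nat.card (MulAction.toPermHom N ↥Y).range ≤ nilM (Nat.card ↥Y) :=
    ih _ (by omega) _ rfl _
      (Group.nilpotent_of_surjective (MulAction.toPermHom N ↥Y).rangeRestrict
        (MonoidHom.rangeRestrict_surjective _))
  calc Nat.card N ≤ Nat.card (MulAction.toPermHom N ↥(MulAction.orbit N ω)).range *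
        Nat.card (MulAction.toPermHom N ↥Y).range := h3
    _ ≤ nilM (Nat.card ↥(MulAction.orbit N ω)) * nilM (Nat.card ↥Y) := Nat.mul_le_mul h4 h5
    _ ≤ nilM (Nat.card ↥(MulAction.orbit N ω) + Nat.card ↥Y) := nilM_mul_le _ _
    _ = nilM n := by rw [hcard]

theorem card_le_of_transitive_pgroup {Ω : Type} [Finite Ω] (n : ℕ) (hn : Nat.card Ω = n)
    (N : Subgroup (Perm Ω)) (p : ℕ) [hp : Fact p.Prime] (hNp : IsPGroup p N) (ω : Ω)
    (htr : MulAction.orbit N ω = Set.univ) : Nat.card N ≤ nilM n := by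
  classical
  obtain ⟨k, hk⟩ := IsPGroup.iff_card.mp hNp
  have hdvd : n ∣ Nat.card N := by
    have h1 : (MulAction.stabilizer N ω).index = n := by
      rw [MulAction.index_stabilizer, ← Nat.card_coe_set_eq, ← hn]
      exact Nat.card_congr ((Equiv.setCongr htr).trans (Equiv.Set.univ Ω))
    rw [← h1]
    exact Subgroup.index_dvd_card _
  rw [hk] at hdvd
  obtain ⟨a, hak, ha⟩ := (Nat.dvd_prime_pow hp.out).mp hdvd
  have hfac : p ^ k ∣ (p ^ a).factorial := by
    have h1 := Subgroup.card_subgroup_dvd_card N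
    rwa [Nat.card_perm, hn, hk, ha] at h1
  have hkle : k ≤ padicValNat p (p ^ a).factorial :=
    (padicValNat_dvd_iff_le (Nat.factorial_ne_zero _)).mp hfac
  rw [hk, ha]
  by_cases hp2 : p = 2
  · subst hp2
    calc 2 ^ k ≤ 2 ^ nilG (2 ^ a) := Nat.pow_le_pow_right (by norm_num) hkle
      _ ≤ nilM (2 ^ a) := two_pow_le_nilM _
  · by_cases ha0 : a = 0
    · subst ha0
      have h1 : p ^ k = 1 := by simpa using hfac
      rw [h1]
      exact nilM_pos _
    · have hval : padicValNat p (p ^ a).factorial = ∑ i ∈ Finset.range a, p ^ i := by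
        rw [padicValNat_def (Nat.factorial_ne_zero _)]
        exact Nat.Prime.multiplicity_factorial_pow hp.out
      rw [hval] at hkle
      calc p ^ k ≤ p ^ (∑ i ∈ Finset.range a, p ^ i) := Nat.pow_le_pow_right hp.out.pos hkle
        _ ≤ nilM (p ^ a) := prime_pow_le_nilM p hp.out hp2 a (by omega)

/-- A nilpotent permutation group of degree `n` has order at most `nilM n`. -/
theorem nil_perm_bound : ∀ (n : ℕ) (Ω : Type) [Finite Ω], Nat.card Ω = n →
    ∀ N : Subgroup (Perm Ω), Group.IsNilpotent N → Nat.card N ≤ nilM n := by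
  intro n
  induction n using Nat.strong_induction_on with
  | _ n ih =>
  intro Ω _ hn N hN
  classical
  haveI : Group.IsNilpotent N := hN
  by_cases hbot : N = ⊥
  · rw [hbot, Subgroup.card_bot]
    exact nilM_pos n
  by_cases htr : ∃ ω : Ω, MulAction.orbit N ω ≠ Set.univ
  · obtain ⟨ω, hω⟩ := htr
    exact card_le_of_intransitive n hn ih N hN ω hω
  · have htr' : ∀ ω : Ω, MulAction.orbit N ω = Set.univ := fun ω => by
      by_contra h
      exact htr ⟨ω, h⟩
    have hne : Nonempty Ω := by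
      by_contra hemp
      rw [not_nonempty_iff] at hemp
      apply hbot
      rw [Subgroup.eq_bot_iff_forall]
      intro g _
      exact Equiv.ext (fun x => isEmptyElim x)
    obtain ⟨ω⟩ := hne
    obtain ⟨p, hp, hpd⟩ := Nat.exists_prime_and_dvd
      (show Nat.card N ≠ 1 from fun h => hbot ((Subgroup.eq_bot_iff_card N).mpr h))
    haveI : Fact p.Prime := ⟨hp⟩
    let P : Sylow p ↥N := default
    obtain ⟨Q, -, hPQ1, hPQ2, hcommPQ⟩ := Cfsg.Agent.Helper11.nilpotent_sylow_complement hN p P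
    by_cases hQ : Q = ⊥
    · have hPtop : (P : Subgroup ↥N) = ⊤ := by rw [← hPQ2, hQ, sup_bot_eq]
      have hNp : IsPGroup p ↥N := by
        have h1 := P.isPGroup'
        rw [hPtop] at h1
        exact h1.of_equiv Subgroup.topEquiv
      exact card_le_of_transitive_pgroup n hn N p hNp ω (htr' ω)
    · have hPn : (P : Subgroup ↥N).Normal := inferInstance
      have hcardA : Nat.card ((P : Subgroup ↥N).map N.subtype) = Nat.card (P : Subgroup ↥N) :=
        Subgroup.card_map_of_injective (Subgroup.subtype_injective N)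
      have hcardB : Nat.card (Q.map N.subtype) = Nat.card Q :=
        Subgroup.card_map_of_injective (Subgroup.subtype_injective N)
      have hcompl : Subgroup.IsComplement' (P : Subgroup ↥N) Q := by
        apply Subgroup.isComplement'_of_disjoint_and_mul_eq_univ (disjoint_iff.mpr hPQ1)
        rw [← Subgroup.normal_mul, hPQ2]
        rfl
      have hmul : Nat.card (P : Subgroup ↥N) * Nat.card Q = Nat.card N := hcompl.card_mul_card
      have hcop : (Nat.card ((P : Subgroup ↥N).map N.subtype)).Coprime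
          (Nat.card (Q.map N.subtype)) := by
        rw [hcardA, hcardB, ← hcompl.symm.index_eq_card]
        exact P.card_coprime_index
      have hA : Group.IsNilpotent ((P : Subgroup ↥N).map N.subtype) :=
        Group.nilpotent_of_surjective (N.subtype.subgroupMap (P : Subgroup ↥N))
          (MonoidHom.subgroupMap_surjective _ _)
      have hB : Group.IsNilpotent (Q.map N.subtype) :=
        Group.nilpotent_of_surjective (N.subtype.subgroupMap Q)
          (MonoidHom.subgroupMap_surjective _ _)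
      have hcomm : ∀ a ∈ (P : Subgroup ↥N).map N.subtype, ∀ b ∈ Q.map N.subtype,
          a * b = b * a := by
        rintro a ⟨x, hx, rfl⟩ b ⟨y, hy, rfl⟩
        exact congrArg Subtype.val (hcommPQ x hx y hy)
      have hA1 : (P : Subgroup ↥N).map N.subtype ≠ ⊥ := by
        intro h
        rw [Subgroup.map_eq_bot_iff_of_injective _ (Subgroup.subtype_injective N)] at h
        exact P.ne_bot_of_dvd_card hpd h
      have hB1 : Q.map N.subtype ≠ ⊥ := by
        intro h
        rw [Subgroup.map_eq_bot_iff_of_injective _ (Subgroup.subtype_injective N)] at h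
        exact hQ h
      have hT : ∀ ω' : Ω, ∃ a ∈ (P : Subgroup ↥N).map N.subtype, ∃ b ∈ Q.map N.subtype,
          (a * b) ω = ω' := by
        intro ω'
        have h1 : ω' ∈ MulAction.orbit N ω := by rw [htr' ω]; trivial
        obtain ⟨g, hg⟩ := h1
        have h2 : g ∈ (P : Subgroup ↥N) ⊔ Q := by rw [hPQ2]; trivial
        obtain ⟨x, hx, y, hy, hxy⟩ := Subgroup.mem_sup_of_normal_left.mp h2
        refine ⟨x.1, ⟨x, hx, rfl⟩, y.1, ⟨y, hy, rfl⟩, ?_⟩
        rw [← hg, ← hxy]
        rfl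
      have h6 := card_mul_le_of_commuting n hn ih _ _ hA hB hcomm hcop hA1 hB1 ω hT
      rw [hcardA, hcardB, hmul] at h6
      exact h6

theorem nil_sym_bound (n : ℕ) (hn : n % 4 ≠ 3) (N : Subgroup (Perm (Fin n)))
    (hN : Group.IsNilpotent N) (P : Sylow 2 (Perm (Fin n))) : Nat.card N ≤ Nat.card P := by
  have h1 := nil_perm_bound n (Fin n) (Nat.card_fin n) N hN
  rw [nilM_of_not_mod hn] at h1
  have h2 : Nat.card P = 2 ^ nilG n := by
    rw [Sylow.card_eq_multiplicity, Nat.card_perm, Nat.card_fin,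
      Nat.factorization_def _ Nat.prime_two]
    rfl
  rw [h2]
  exact h1

end Cfsg.Agent.Helper22
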