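import Mathlib
import Cfsg.Agent.Helper22.NilSym2
import Cfsg.Agent.Helper11.CN

set_option autoImplicit false

namespace Cfsg.Agent.Helper22

open Equiv

theorem nilG_of_mod (n : ℕ) (hn : n % 4 = 3) : nilG n = nilG (n - 3) + 1 := by
  have h1 := nilG_rec n
  have h2 := nilG_rec (n / 2)
  have h3 := nilG_rec (n - 3)
  have h4 := nilG_rec ((n - 3) / 2)
  have e1 : n / 2 / 2 = n / 4 := by omega
  have e2 : (n - 3) / 2 / 2 = n / 4 := by omega
  rw [e1] at h2
  rw [e2] at h4
  omega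

theorem nilG_lt_of_mod (n : ℕ) (hn : n % 4 = 3) (h7 : 7 ≤ n) : nilG (n - 4) < nilG (n - 3) := by
  have h1 := nilG_rec (n - 4)
  have h2 := nilG_rec ((n - 4) / 2)
  have h3 := nilG_rec (n - 3)
  have h4 := nilG_rec ((n - 3) / 2)
  have e1 : (n - 4) / 2 / 2 = n / 4 - 1 := by omega
  have e2 : (n - 3) / 2 / 2 = n / 4 := by omega
  rw [e1] at h2
  rw [e2] at h4
  have h5 : nilG (n / 4 - 1) ≤ nilG (n / 4) := nilG_mono (by omega)
  omega

theorem fact_three_mul (k : ℕ) : (3 * 2 ^ k).factorization 2 = k := by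
  rw [Nat.factorization_def _ Nat.prime_two, padicValNat.mul (by norm_num) (by positivity),
    padicValNat.prime_pow]
  have h : padicValNat 2 3 = 0 := padicValNat.eq_zero_of_not_dvd (by norm_num)
  omega

/-- A 2-element commuting with an element `u` of order dividing 3 and agreeing with `u` at a
point fixes that point. -/
theorem fix_of_two_elt {Ω : Type*} (x u : Perm Ω) (hc : x * u = u * x) (hu : u ^ 3 = 1) (s : ℕ)
    (hx : x ^ (2 ^ s) = 1) (ω : Ω) (h : x ω = u ω) : x ω = ω := by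
  have hcomm : Commute x u := hc
  have h1 : ∀ m : ℕ, (x ^ m) ω = (u ^ m) ω := by
    intro m
    induction m with
    | zero => simp
    | succ m ih =>
      rw [pow_succ, pow_succ, Perm.mul_apply, Perm.mul_apply, h]
      have h2 : (x ^ m) (u ω) = u ((x ^ m) ω) := by
        have h3 : x ^ m * u = u * x ^ m := (hcomm.pow_left m).eq
        exact congrArg (fun σ : Perm Ω => σ ω) h3
      rw [h2, ih]
      show (u * u ^ m) ω = (u ^ m * u) ω
      rw [← pow_succ, ← pow_succ']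
  have h2 : (u ^ (2 ^ s)) ω = ω := by
    rw [← h1, hx]
    rfl
  have hcop : (2 ^ s).Coprime (orderOf u) := by
    have h3 : orderOf u ∣ 3 := orderOf_dvd_of_pow_eq_one hu
    exact Nat.Coprime.coprime_dvd_right h3 (Nat.Coprime.pow_left s (by norm_num))
  obtain ⟨m, hm⟩ := exists_pow_eq_self_of_coprime hcop
  have h3 := Perm.pow_apply_eq_self_of_apply_eq_self h2 m
  rw [hm] at h3
  rw [h, h3]

/-- Pointwise stabilizer of the support of `h`. -/
def fixK {Ω : Type*} (h : Perm Ω) : Subgroup (Perm Ω) where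
  carrier := {τ | ∀ ω, h ω ≠ ω → τ ω = ω}
  mul_mem' := by
    intro a b ha hb ω hω
    show a (b ω) = ω
    rw [hb ω hω, ha ω hω]
  one_mem' := by
    intro ω _
    rfl
  inv_mem' := by
    intro a ha ω hω
    show a⁻¹ ω = ω
    rw [Perm.inv_eq_iff_eq]
    exact (ha ω hω).symm

theorem mem_fixK {Ω : Type*} (h τ : Perm Ω) : τ ∈ fixK h ↔ ∀ ω, h ω ≠ ω → τ ω = ω := Iff.rfl

theorem fixK_commute {Ω : Type*} (h τ : Perm Ω) (hτ : τ ∈ fixK h) : τ * h = h * τ := by
  have hd : Perm.Disjoint τ h := by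
    intro ω
    by_cases hω : h ω = ω
    · exact Or.inr hω
    · exact Or.inl (hτ ω hω)
  exact hd.commute.eq

theorem card_fixK_dvd {Ω : Type} [Fintype Ω] [DecidableEq Ω] (h : Perm Ω) (h3 : h.IsThreeCycle) :
    Nat.card (fixK h) ∣ (Fintype.card Ω - 3).factorial := by
  let Y : SubMulAction (fixK h) Ω :=
    { carrier := {ω | h ω = ω}
      smul_mem' := by
        intro g ω hω
        by_contra hne
        have h1 : g.1 (g.1 ω) = g.1 ω := g.2 _ hne
        have h2 : g.1 ω = ω := g.1.injective h1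
        apply hne
        show h (g.1 ω) = g.1 ω
        rw [h2]
        exact hω }
  have hinj : Function.Injective (MulAction.toPermHom (fixK h) ↥Y) := by
    rw [injective_iff_map_eq_one]
    intro g hg
    apply Subtype.ext
    apply Equiv.ext
    intro ω
    by_cases hω : h ω = ω
    · have h0 := congrArg (fun σ : Perm ↥Y => (σ ⟨ω, hω⟩ : Ω)) hg
      exact h0
    · exact g.2 ω hω
  have h1 := Subgroup.card_dvd_of_injective _ hinj
  rw [Nat.card_perm] at h1
  have h2 : Nat.card ↥Y = Fintype.card Ω - 3 := by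
    have e : ↥Y ≃ {ω // ω ∈ h.supportᶜ} := Equiv.subtypeEquivRight (fun ω => by
      show h ω = ω ↔ ω ∈ h.supportᶜ
      rw [Finset.mem_compl, Perm.mem_support, not_not])
    rw [Nat.card_congr e, Nat.card_eq_fintype_card, Fintype.card_coe, Finset.card_compl,
      h3.card_support]
  rwa [h2] at h1

/-- Two subgroups of `K` whose order is the full `p`-part of `|K|` are conjugate in `K`. -/
theorem conj_of_card_eq_pow {G : Type*} [Group G] (K A B : Subgroup G) [Finite K] (p : ℕ)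
    [Fact p.Prime] (hA : A ≤ K) (hB : B ≤ K)
    (hcA : Nat.card A = p ^ (Nat.card K).factorization p)
    (hcB : Nat.card B = p ^ (Nat.card K).factorization p) :
    ∃ τ ∈ K, B = A.map (MulAut.conj τ).toMonoidHom := by
  have hA' : Nat.card (A.subgroupOf K) = p ^ (Nat.card K).factorization p := by
    rw [← hcA]
    exact Nat.card_congr (Subgroup.subgroupOfEquivOfLe hA).toEquiv
  have hB' : Nat.card (B.subgroupOf K) = p ^ (Nat.card K).factorization p := by
    rw [← hcB]
    exact Nat.card_congr (Subgroup.subgroupOfEquivOfLe hB).toEquiv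
  let S₁ : Sylow p K := Sylow.ofCard (A.subgroupOf K) hA'
  let S₂ : Sylow p K := Sylow.ofCard (B.subgroupOf K) hB'
  obtain ⟨τ, hτ⟩ := MulAction.exists_smul_eq K S₁ S₂
  refine ⟨τ.1, τ.2, ?_⟩
  symm
  haveI hfinB : Finite B := by
    apply Nat.finite_of_card_ne_zero
    rw [hcB]
    exact pow_ne_zero _ (Fact.out : p.Prime).ne_zero
  apply Subgroup.eq_of_le_of_card_ge
  · rintro _ ⟨a, ha, rfl⟩
    have h1 : (⟨a, hA ha⟩ : K) ∈ (S₁ : Subgroup K) := by
      show (⟨a, hA ha⟩ : K) ∈ A.subgroupOf K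
      rw [Subgroup.mem_subgroupOf]
      exact ha
    have h2 : τ * ⟨a, hA ha⟩ * τ⁻¹ ∈ ((τ • S₁ : Sylow p K) : Subgroup K) := by
      rw [Sylow.coe_subgroup_smul]
      have h3 := Subgroup.smul_mem_pointwise_smul _ (MulAut.conj τ) _ h1
      exact h3
    rw [hτ] at h2
    have h4 : (τ * ⟨a, hA ha⟩ * τ⁻¹ : K) ∈ B.subgroupOf K := h2
    rw [Subgroup.mem_subgroupOf] at h4
    exact h4
  · rw [Subgroup.card_map_of_injective (MulEquiv.injective _), hcA, hcB]

theorem max_nil_structure {Ω : Type} [Fintype Ω] [DecidableEq Ω] (n : ℕ)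
    (hΩ : Fintype.card Ω = n) (hn : n % 4 = 3)
    (N : Subgroup (Perm Ω)) (hN : Group.IsNilpotent N)
    (hcard : Nat.card N = 3 * 2 ^ nilG (n - 3)) :
    ∃ (h : Perm Ω) (P : Subgroup (Perm Ω)), h.IsThreeCycle ∧ P ≤ fixK h ∧
      Nat.card P = 2 ^ nilG (n - 3) ∧ N = P ⊔ Subgroup.zpowers h := by
  haveI := hN
  obtain ⟨y, hy⟩ := exists_prime_orderOf_dvd_card' (G := ↥N) 3 (by rw [hcard]; exact dvd_mul_right _ _)
  have hho : orderOf (y : Perm Ω) = 3 := by rw [Subgroup.orderOf_coe, hy]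
  have hy3 : y ^ 3 = 1 := by rw [← hy]; exact pow_orderOf_eq_one y
  have hh3 : (y : Perm Ω) ^ 3 = 1 := by rw [← hho]; exact pow_orderOf_eq_one _
  let Q : Sylow 2 ↥N := default
  have hQc : Nat.card Q = 2 ^ nilG (n - 3) := by
    rw [Sylow.card_eq_multiplicity, hcard, fact_three_mul]
  let P : Subgroup (Perm Ω) := (Q : Subgroup ↥N).map N.subtype
  have hPc : Nat.card P = 2 ^ nilG (n - 3) := by
    rw [← hQc]
    exact Subgroup.card_map_of_injective (Subgroup.subtype_injective N)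
  have hPle : P ≤ N := Subgroup.map_subtype_le _
  have hPprop : ∀ x ∈ P, x * (y : Perm Ω) = (y : Perm Ω) * x ∧ x ^ (2 ^ nilG (n - 3)) = 1 := by
    rintro _ ⟨q, hq, rfl⟩
    have hq1 : q ^ (2 ^ nilG (n - 3)) = 1 := by
      have h4 := pow_card_eq_one' (G := (Q : Subgroup ↥N)) (x := ⟨q, hq⟩)
      rw [hQc] at h4
      exact congrArg Subtype.val h4
    have hcop : (2 ^ nilG (n - 3)).Coprime 3 := Nat.Coprime.pow_left _ (by norm_num)
    have h5 := Cfsg.Agent.Helper11.commute_of_nilpotent_coprime ↥N q y _ _ hcop hq1 hy3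
    constructor
    · exact congrArg Subtype.val h5
    · exact congrArg Subtype.val hq1
  -- cycle type
  obtain ⟨c, hc⟩ := Perm.cycleType_prime_order (σ := (y : Perm Ω)) (by rw [hho]; exact Nat.prime_three)
  rw [hho] at hc
  have hsum : 3 * (c + 1) ≤ n := by
    have h1 := Perm.sum_cycleType (y : Perm Ω)
    rw [hc, Multiset.sum_replicate, smul_eq_mul] at h1
    have h2 : (y : Perm Ω).support.card ≤ Fintype.card Ω := Finset.card_le_univ _
    rw [hΩ] at h2
    omega
  have hc0 : c = 0 := by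
    by_contra hc1
    have hP2 : P ≤ Subgroup.centralizer {(y : Perm Ω)} := by
      intro x hx
      rw [Subgroup.mem_centralizer_iff]
      intro z hz
      rw [Set.mem_singleton_iff] at hz
      rw [hz]
      exact ((hPprop x hx).1).symm
    have h1 := Subgroup.card_dvd_of_le hP2
    rw [hPc, Perm.nat_card_centralizer, hc, Multiset.sum_replicate, Multiset.prod_replicate,
      Multiset.toFinset_replicate, if_neg (Nat.succ_ne_zero c), Finset.prod_singleton,
      Multiset.count_replicate_self, smul_eq_mul, hΩ] at h1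
    have h2 : 2 ^ nilG (n - 3) ∣ (n - (c + 1) * 3).factorial * (c + 1).factorial := by
      have h3 : (n - (c + 1) * 3).factorial * 3 ^ (c + 1) * (c + 1).factorial =
          (n - (c + 1) * 3).factorial * (c + 1).factorial * 3 ^ (c + 1) := by ring
      rw [h3] at h1
      exact Nat.Coprime.dvd_of_dvd_mul_right
        (Nat.Coprime.pow _ _ (by norm_num)) h1
    have h4 : (n - (c + 1) * 3).factorial * (c + 1).factorial ∣ (n - 4).factorial := by
      refine dvd_trans (Nat.factorial_mul_factorial_dvd_factorial_add _ _) ?_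
      exact Nat.factorial_dvd_factorial (by omega)
    have h5 : nilG (n - 3) ≤ nilG (n - 4) :=
      (padicValNat_dvd_iff_le (Nat.factorial_ne_zero _)).mp (dvd_trans h2 h4)
    have h6 := nilG_lt_of_mod n hn (by omega)
    omega
  subst hc0
  have h3c : (y : Perm Ω).IsThreeCycle := by
    show (y : Perm Ω).cycleType = {3}
    rw [hc]
    rfl
  refine ⟨(y : Perm Ω), P, h3c, ?_, hPc, ?_⟩
  · intro x hx
    rw [mem_fixK]
    intro ω hω
    obtain ⟨hxy, hx2⟩ := hPprop x hx
    have hω' : (y : Perm Ω) (x ω) ≠ x ω := by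
      intro h1
      apply hω
      have h2 := congrArg (fun σ : Perm Ω => σ ω) hxy
      simp only [Perm.mul_apply] at h2
      rw [h1] at h2
      exact (x.injective h2)
    obtain ⟨i, hi⟩ := h3c.isCycle.exists_pow_eq hω hω'
    refine fix_of_two_elt x ((y : Perm Ω) ^ i) ?_ ?_ _ hx2 ω hi.symm
    · exact ((show Commute x (y : Perm Ω) from hxy).pow_right i).eq
    · rw [← pow_mul, mul_comm, pow_mul, hh3, one_pow]
  · symm
    apply Subgroup.eq_of_le_of_card_ge
    · exact sup_le hPle (Subgroup.zpowers_le.mpr y.2)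
    · rw [hcard]
      apply Nat.le_of_dvd Nat.card_pos
      apply Nat.Coprime.mul_dvd_of_dvd_of_dvd
      · exact Nat.Coprime.pow_right _ (by norm_num)
      · rw [← hho, ← Nat.card_zpowers]
        exact Subgroup.card_dvd_of_le le_sup_right
      · rw [← hPc]
        exact Subgroup.card_dvd_of_le le_sup_left

theorem max_nil_conj {Ω : Type} [Fintype Ω] [DecidableEq Ω] (n : ℕ) (hΩ : Fintype.card Ω = n)
    (h₁ h₂ : Perm Ω) (P₁ P₂ : Subgroup (Perm Ω)) (h31 : h₁.IsThreeCycle) (h32 : h₂.IsThreeCycle)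
    (hP1 : P₁ ≤ fixK h₁) (hP2 : P₂ ≤ fixK h₂) (hc1 : Nat.card P₁ = 2 ^ nilG (n - 3))
    (hc2 : Nat.card P₂ = 2 ^ nilG (n - 3)) :
    ∃ g : Perm Ω, P₂ ⊔ Subgroup.zpowers h₂ =
      (P₁ ⊔ Subgroup.zpowers h₁).map (MulAut.conj g).toMonoidHom := by
  have hconj : IsConj h₁ h₂ := by
    rw [Perm.isConj_iff_cycleType_eq, h31.cycleType, h32.cycleType]
  obtain ⟨σ, hσ⟩ := isConj_iff.mp hconj
  have hA : P₁.map (MulAut.conj σ).toMonoidHom ≤ fixK h₂ := by
    rintro _ ⟨a, ha, rfl⟩
    rw [mem_fixK]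
    intro ω hω
    show σ (a (σ⁻¹ ω)) = ω
    have h1 : h₁ (σ⁻¹ ω) ≠ σ⁻¹ ω := by
      intro h2
      apply hω
      rw [← hσ]
      show σ (h₁ (σ⁻¹ ω)) = ω
      rw [h2]
      exact σ.apply_symm_apply ω
    rw [hP1 ha _ h1]
    exact σ.apply_symm_apply ω
  have hK1 : Nat.card (fixK h₂) ∣ (n - 3).factorial := by
    rw [← hΩ]
    exact card_fixK_dvd h₂ h32
  have hK2 : 2 ^ nilG (n - 3) ∣ Nat.card (fixK h₂) := by
    rw [← hc2]
    exact Subgroup.card_dvd_of_le hP2
  have hKpos : Nat.card (fixK h₂) ≠ 0 := Nat.card_pos.ne'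
  have hfac : (Nat.card (fixK h₂)).factorization 2 = nilG (n - 3) := by
    apply le_antisymm
    · have h1 := (Nat.factorization_le_iff_dvd hKpos (Nat.factorial_ne_zero _)).mpr hK1 2
      have h2 : ((n - 3).factorial).factorization 2 = nilG (n - 3) :=
        Nat.factorization_def _ Nat.prime_two
      rw [h2] at h1
      exact h1
    · exact (Nat.Prime.pow_dvd_iff_le_factorization Nat.prime_two hKpos).mp hK2
  have hcA : Nat.card (P₁.map (MulAut.conj σ).toMonoidHom) =
      2 ^ (Nat.card (fixK h₂)).factorization 2 := by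
    rw [Subgroup.card_map_of_injective (MulEquiv.injective _), hc1, hfac]
  have hcB : Nat.card P₂ = 2 ^ (Nat.card (fixK h₂)).factorization 2 := by
    rw [hc2, hfac]
  obtain ⟨τ, hτK, hτ⟩ := conj_of_card_eq_pow (fixK h₂) _ P₂ 2 hA hP2 hcA hcB
  refine ⟨τ * σ, ?_⟩
  rw [Subgroup.map_sup, MonoidHom.map_zpowers]
  have e1 : (MulAut.conj (τ * σ)).toMonoidHom h₁ = h₂ := by
    show τ * σ * h₁ * (τ * σ)⁻¹ = h₂
    have h1 : τ * σ * h₁ * (τ * σ)⁻¹ = τ * (σ * h₁ * σ⁻¹) * τ⁻¹ := by group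
    rw [h1, hσ, fixK_commute h₂ τ hτK, mul_inv_cancel_right]
  have e2 : P₁.map (MulAut.conj (τ * σ)).toMonoidHom = P₂ := by
    rw [hτ, Subgroup.map_map]
    congr 1
  rw [e1, e2]

theorem exists_max_nil (n : ℕ) (hn : n % 4 = 3) (P : Sylow 2 (Perm (Fin (n - 3)))) :
    ∃ M : Subgroup (Perm (Fin n)), Group.IsNilpotent M ∧ Nat.card M = 3 * Nat.card P ∧
      Nonempty (M ≃* (↥(P : Subgroup (Perm (Fin (n - 3)))) × Multiplicative (ZMod 3))) := by
  have hn3 : n - 3 + 3 = n := by omega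
  let e : Fin (n - 3) ⊕ Fin 3 ≃ Fin n := finSumFinEquiv.trans (finCongr hn3)
  let φ : Perm (Fin (n - 3)) × Perm (Fin 3) →* Perm (Fin n) :=
    e.permCongrHom.toMonoidHom.comp (Perm.sumCongrHom (Fin (n - 3)) (Fin 3))
  have hφ : Function.Injective φ := by
    intro a b hab
    exact Perm.sumCongrHom_injective (e.permCongrHom.injective hab)
  obtain ⟨c, hc⟩ := exists_prime_orderOf_dvd_card' (G := Perm (Fin 3)) 3
    (by rw [Nat.card_perm, Nat.card_fin]; decide)
  let C : Subgroup (Perm (Fin 3)) := Subgroup.zpowers c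
  have hC : Nat.card C = 3 := by rw [Nat.card_zpowers, hc]
  let M0 : Subgroup (Perm (Fin (n - 3)) × Perm (Fin 3)) :=
    (P : Subgroup (Perm (Fin (n - 3)))).prod C
  have e1 : ↥M0 ≃* ↥(M0.map φ) := M0.equivMapOfInjective φ hφ
  have e2 : ↥M0 ≃* ↥(P : Subgroup (Perm (Fin (n - 3)))) × ↥C := Subgroup.prodEquiv _ _
  haveI : IsCyclic ↥C := isCyclic_of_prime_card hC
  have hZ : Nat.card (Multiplicative (ZMod 3)) = 3 := by
    rw [Nat.card_eq_fintype_card, Fintype.card_multiplicative, ZMod.card]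
  have e3 : ↥C ≃* Multiplicative (ZMod 3) := mulEquivOfCyclicCardEq (by rw [hC, hZ])
  have e4 : ↥(M0.map φ) ≃* ↥(P : Subgroup (Perm (Fin (n - 3)))) × Multiplicative (ZMod 3) :=
    e1.symm.trans (e2.trans (MulEquiv.prodCongr (MulEquiv.refl _) e3))
  refine ⟨M0.map φ, ?_, ?_, ⟨e4⟩⟩
  · haveI : Group.IsNilpotent ↥(P : Subgroup (Perm (Fin (n - 3)))) := P.isPGroup'.isNilpotent
    exact Group.nilpotent_of_mulEquiv e4.symm
  · rw [Nat.card_congr e4.toEquiv, Nat.card_prod, hZ, mul_comm]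

theorem sym_nil_three (n : ℕ) (hn : n % 4 = 3) (P : Sylow 2 (Perm (Fin (n - 3)))) :
    (∀ N : Subgroup (Perm (Fin n)), Group.IsNilpotent N → Nat.card N ≤ 3 * Nat.card P) ∧
    (∃ M : Subgroup (Perm (Fin n)), Group.IsNilpotent M ∧ Nat.card M = 3 * Nat.card P ∧
      Nonempty (M ≃* (↥(P : Subgroup (Perm (Fin (n - 3)))) × Multiplicative (ZMod 3)))) ∧
    (∀ N₁ N₂ : Subgroup (Perm (Fin n)), Group.IsNilpotent N₁ → Group.IsNilpotent N₂ →
      Nat.card N₁ = 3 * Nat.card P → Nat.card N₂ = 3 * Nat.card P →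
      ∃ g : Perm (Fin n), N₂ = N₁.map (MulAut.conj g).toMonoidHom) := by
  have hP : Nat.card P = 2 ^ nilG (n - 3) := by
    rw [Sylow.card_eq_multiplicity, Nat.card_perm, Nat.card_fin,
      Nat.factorization_def _ Nat.prime_two]
    rfl
  refine ⟨?_, exists_max_nil n hn P, ?_⟩
  · intro N hN
    have h1 := nil_perm_bound n (Fin n) (Nat.card_fin n) N hN
    rw [nilM_of_mod hn (nilG_of_mod n hn)] at h1
    rw [hP]
    exact h1
  · intro N₁ N₂ hN₁ hN₂ hc₁ hc₂
    rw [hP] at hc₁ hc₂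
    obtain ⟨h₁, P₁, h31, hP1, hcP1, rfl⟩ :=
      max_nil_structure n (Fintype.card_fin n) hn N₁ hN₁ hc₁
    obtain ⟨h₂, P₂, h32, hP2, hcP2, rfl⟩ :=
      max_nil_structure n (Fintype.card_fin n) hn N₂ hN₂ hc₂
    exact max_nil_conj n (Fintype.card_fin n) h₁ h₂ P₁ P₂ h31 h32 hP1 hP2 hcP1 hcP2

end Cfsg.Agent.Helper22
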