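import Mathlib
import Cfsg.Agent.S2504
import Cfsg.Agent.Helper22.NilSym3

set_option autoImplicit false

namespace Cfsg.Agent.Helper22

open Equiv Cfsg.Agent.S2505 Cfsg.Agent.S2504

/-! ### Numerics for the bound functions `g` (symmetric) and `h` (alternating) -/

theorem abh_strict (m r : ℕ) (hm : 6 ≤ m) : m * h r < h (m + r) := by
  obtain ⟨k, rfl⟩ : ∃ k, m = k + 6 := ⟨m - 6, by omega⟩
  have h1 := h_mul (k + 3) r (by omega) (by omega)
  have h2 := three_h_le (k + 3 + r) (by omega)
  have h3 := h_pos r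
  rw [show k + 6 + r = k + 3 + r + 3 by omega]
  nlinarith

theorem abh_succ_lt (n : ℕ) (hn : 2 ≤ n) : h n < h (n + 1) := by
  induction n using Nat.strong_induction_on with
  | _ n ih =>
    rcases Nat.lt_or_ge n 9 with h9 | h9
    · interval_cases n <;> decide
    · obtain ⟨j, rfl⟩ : ∃ j, n = j + 3 := ⟨n - 3, by omega⟩
      have := ih j (by omega) (by omega)
      rw [h_add_three j (by omega), show j + 3 + 1 = (j + 1) + 3 by omega,
        h_add_three (j + 1) (by omega)]
      omega

theorem abh_five (r : ℕ) (hr : 1 ≤ r) : 5 * h r < h (r + 5) := by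
  induction r using Nat.strong_induction_on with
  | _ r ih =>
    rcases Nat.lt_or_ge r 9 with h9 | h9
    · interval_cases r <;> decide
    · obtain ⟨j, rfl⟩ : ∃ j, r = j + 3 := ⟨r - 3, by omega⟩
      have := ih j (by omega) (by omega)
      rw [h_add_three j (by omega), show j + 3 + 5 = (j + 5) + 3 by omega,
        h_add_three (j + 5) (by omega)]
      omega

theorem abh_four (r : ℕ) (hr : 2 ≤ r) (h3 : (r + 4) % 3 = 0) : 4 * h r < h (r + 4) := by
  induction r using Nat.strong_induction_on with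
  | _ r ih =>
    rcases Nat.lt_or_ge r 9 with h9 | h9
    · interval_cases r <;> first | omega | decide
    · obtain ⟨j, rfl⟩ : ∃ j, r = j + 3 := ⟨r - 3, by omega⟩
      have := ih j (by omega) (by omega) (by omega)
      rw [h_add_three j (by omega), show j + 3 + 4 = (j + 4) + 3 by omega,
        h_add_three (j + 4) (by omega)]
      omega

theorem abg_lt_h (j : ℕ) (hj : 1 ≤ j) : g j < h (j + 2) := by
  induction j using Nat.strong_induction_on with
  | _ j ih =>
    rcases Nat.lt_or_ge j 9 with h9 | h9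
    · interval_cases j <;> decide
    · obtain ⟨i, rfl⟩ : ∃ i, j = i + 3 := ⟨j - 3, by omega⟩
      have := ih i (by omega) (by omega)
      rw [g_add_three i (by omega), show i + 3 + 2 = (i + 2) + 3 by omega,
        h_add_three (i + 2) (by omega)]
      omega

theorem abg_lt_two_h (r : ℕ) (hr : 3 ≤ r) : g r < 2 * h r := by
  induction r using Nat.strong_induction_on with
  | _ r ih =>
    rcases Nat.lt_or_ge r 9 with h9 | h9
    · interval_cases r <;> decide
    · obtain ⟨j, rfl⟩ : ∃ j, r = j + 3 := ⟨r - 3, by omega⟩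
      have := ih j (by omega) (by omega)
      rw [g_add_three j (by omega), h_add_three j (by omega)]
      omega

theorem abh_even (n : ℕ) (hn : 6 ≤ n) (h3 : n % 3 ≠ 0) : 2 ∣ h n := by
  induction n using Nat.strong_induction_on with
  | _ n ih =>
    rcases Nat.lt_or_ge n 9 with h9 | h9
    · interval_cases n <;> first | omega | decide
    · obtain ⟨j, rfl⟩ : ∃ j, n = j + 3 := ⟨n - 3, by omega⟩
      rw [h_add_three j (by omega)]
      exact Dvd.dvd.mul_left (ih j (by omega) (by omega) (by omega)) 3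

theorem abh_num (n m : ℕ) (hn : 6 ≤ n) (hm1 : 1 ≤ m) (hmn : m ≤ n) (hm2 : m ≠ 2)
    (heq : m * h (n - m) = h n) : m = 3 ∨ (m = 4 ∧ n % 3 ≠ 0) := by
  rcases Nat.lt_or_ge m 6 with h6 | h6
  · interval_cases m
    · exfalso
      have := abh_succ_lt (n - 1) (by omega)
      rw [show n - 1 + 1 = n by omega] at this
      omega
    · exact absurd rfl hm2
    · left; rfl
    · right
      refine ⟨rfl, ?_⟩
      intro h3
      have := abh_four (n - 4) (by omega) (by omega)
      rw [show n - 4 + 4 = n by omega] at this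
      omega
    · exfalso
      have := abh_five (n - 5) (by omega)
      rw [show n - 5 + 5 = n by omega] at this
      omega
  · exfalso
    have := abh_strict m (n - m) h6
    rw [show m + (n - m) = n by omega] at this
    omega

theorem ab_fact (p k m : ℕ) (hp : p.Prime) (hm : ¬ p ∣ m) (hm0 : m ≠ 0) :
    (p ^ k * m).factorization p = k := by
  rw [Nat.factorization_mul (pow_ne_zero _ hp.ne_zero) hm0, Nat.Prime.factorization_pow hp]
  simp [Nat.factorization_eq_zero_of_not_dvd hm]

theorem ab_small (n : ℕ) (h3 : 3 ≤ n) (h7 : n < 7) :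
    ∃ p : ℕ, p.Prime ∧ h n = p ^ (n.factorial / 2).factorization p := by
  interval_cases n
  · refine ⟨3, Nat.prime_three, ?_⟩
    have e : Nat.factorial 3 / 2 = 3 ^ 1 * 1 := by decide
    rw [e, ab_fact 3 1 1 Nat.prime_three (by norm_num) (by norm_num)]; decide
  · refine ⟨2, Nat.prime_two, ?_⟩
    have e : Nat.factorial 4 / 2 = 2 ^ 2 * 3 := by decide
    rw [e, ab_fact 2 2 3 Nat.prime_two (by norm_num) (by norm_num)]; decide
  · refine ⟨5, by norm_num, ?_⟩
    have e : Nat.factorial 5 / 2 = 5 ^ 1 * 12 := by decide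
    rw [e, ab_fact 5 1 12 (by norm_num) (by norm_num) (by norm_num)]; decide
  · refine ⟨3, Nat.prime_three, ?_⟩
    have e : Nat.factorial 6 / 2 = 3 ^ 2 * 40 := by decide
    rw [e, ab_fact 3 2 40 Nat.prime_three (by norm_num) (by norm_num)]; decide

/-! ### Transfer between `Perm X` and `Perm (Subtype p)` -/

section transfer

variable {X : Type} [Fintype X] [DecidableEq X]

theorem ab_mem_range (p : X → Prop) [DecidablePred p] (d : Perm X) (hd : ∀ y, ¬ p y → d y = y) :
    d ∈ (Perm.ofSubtype : Perm (Subtype p) →* Perm X).range := by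
  rw [Perm.mem_range_ofSubtype_iff]
  intro y hy
  by_contra hp
  exact (Perm.mem_support.mp (Finset.mem_coe.mp hy)) (hd y hp)

theorem ab_transfer (p : X → Prop) [DecidablePred p] (D : Subgroup (Perm X))
    (hD : ∀ d ∈ D, ∀ y, ¬ p y → d y = y) :
    (D.comap (Perm.ofSubtype : Perm (Subtype p) →* Perm X)).map Perm.ofSubtype = D ∧
    Nat.card (D.comap (Perm.ofSubtype : Perm (Subtype p) →* Perm X)) = Nat.card D := by
  have h1 : (D.comap (Perm.ofSubtype : Perm (Subtype p) →* Perm X)).map Perm.ofSubtype = D :=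
    Subgroup.map_comap_eq_self (fun d hd => ab_mem_range p d (hD d hd))
  refine ⟨h1, ?_⟩
  have h2 := Subgroup.card_map_of_injective
    (K := D.comap (Perm.ofSubtype : Perm (Subtype p) →* Perm X)) Perm.ofSubtype_injective
  rw [h1] at h2
  exact h2.symm

theorem ab_comap_comm (p : X → Prop) [DecidablePred p] (D : Subgroup (Perm X))
    (hc : ∀ a ∈ D, ∀ b ∈ D, a * b = b * a) :
    ∀ a ∈ D.comap (Perm.ofSubtype : Perm (Subtype p) →* Perm X),
      ∀ b ∈ D.comap (Perm.ofSubtype : Perm (Subtype p) →* Perm X), a * b = b * a := by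
  intro a ha b hb
  apply Perm.ofSubtype_injective
  rw [map_mul, map_mul]
  exact hc _ ha _ hb

theorem ab_comap_alt (p : X → Prop) [DecidablePred p] (D : Subgroup (Perm X))
    (halt : D ≤ alternatingGroup X) :
    D.comap (Perm.ofSubtype : Perm (Subtype p) →* Perm X) ≤ alternatingGroup (Subtype p) := by
  intro a ha
  rw [Perm.mem_alternatingGroup, ← Perm.sign_ofSubtype]
  exact Perm.mem_alternatingGroup.mp (halt ha)

theorem ab_bound_h (p : X → Prop) [DecidablePred p] (D : Subgroup (Perm X))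
    (hD : ∀ d ∈ D, ∀ y, ¬ p y → d y = y) (hc : ∀ a ∈ D, ∀ b ∈ D, a * b = b * a)
    (halt : D ≤ alternatingGroup X) (r : ℕ) (hr : Nat.card (Subtype p) = r) :
    Nat.card D ≤ h r := by
  obtain ⟨-, h2⟩ := ab_transfer p D hD
  rw [← h2]
  have hc' := ab_comap_comm p D hc
  exact card_le_h r (Subtype p) hr _
    ⟨⟨fun a b => Subtype.ext (hc' _ a.2 _ b.2)⟩⟩ (ab_comap_alt p D halt)

theorem ab_bound_g (p : X → Prop) [DecidablePred p] (D : Subgroup (Perm X))
    (hD : ∀ d ∈ D, ∀ y, ¬ p y → d y = y) (hc : ∀ a ∈ D, ∀ b ∈ D, a * b = b * a)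
    (r : ℕ) (hr : Nat.card (Subtype p) = r) :
    Nat.card D ≤ g r := by
  obtain ⟨-, h2⟩ := ab_transfer p D hD
  rw [← h2]
  have hc' := ab_comap_comm p D hc
  exact card_le_g r (Subtype p) hr _ ⟨⟨fun a b => Subtype.ext (hc' _ a.2 _ b.2)⟩⟩

theorem ab_card_mem (O : Finset X) : Nat.card {y // y ∈ O} = O.card := by
  rw [Nat.card_eq_fintype_card, Fintype.card_coe]

theorem ab_card_not_mem (O : Finset X) (n : ℕ) (hX : Nat.card X = n) :
    Nat.card {y // y ∉ O} = n - O.card := by
  rw [Nat.card_eq_fintype_card, Fintype.card_subtype_compl, Fintype.card_coe, ← hX,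
    Nat.card_eq_fintype_card]

theorem ab_disj_comm (O : Finset X) (u v : Perm X) (hu : ∀ y, y ∉ O → u y = y)
    (hv : ∀ y, y ∈ O → v y = y) : u * v = v * u := by
  have hd : Perm.Disjoint u v := by
    intro y
    by_cases hy : y ∈ O
    · exact Or.inr (hv y hy)
    · exact Or.inl (hu y hy)
  exact hd.commute.eq

theorem ab_map_fix {G : Type*} [Group G] (D : Subgroup G) (g : G)
    (hg : ∀ d ∈ D, g * d = d * g) : D.map (MulAut.conj g).toMonoidHom = D := by
  ext z
  constructor
  · rintro ⟨d, hd, rfl⟩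
    show g * d * g⁻¹ ∈ D
    rw [hg d hd, mul_inv_cancel_right]
    exact hd
  · intro hz
    refine ⟨z, hz, ?_⟩
    show g * z * g⁻¹ = z
    rw [hg z hz, mul_inv_cancel_right]

theorem ab_exists_even_map (O₁ O₂ : Finset X) (hc : O₁.card = O₂.card) (h2 : 2 ≤ O₂.card) :
    ∃ σ : Perm X, Perm.sign σ = 1 ∧ ∀ y, σ y ∈ O₂ ↔ y ∈ O₁ := by
  have e : {y // y ∈ O₁} ≃ {y // y ∈ O₂} :=
    Fintype.equivOfCardEq (by rw [Fintype.card_coe, Fintype.card_coe, hc])
  have hσ : ∀ y, e.extendSubtype y ∈ O₂ ↔ y ∈ O₁ := by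
    intro y
    constructor
    · intro hy2
      by_contra hy
      exact e.extendSubtype_not_mem y hy hy2
    · intro hy
      exact e.extendSubtype_mem y hy
  rcases Int.units_eq_one_or (Perm.sign e.extendSubtype) with h1 | h1
  · exact ⟨_, h1, hσ⟩
  · obtain ⟨u, hu, v, hv, huv⟩ := Finset.one_lt_card.mp (by omega : 1 < O₂.card)
    refine ⟨Equiv.swap u v * e.extendSubtype, ?_, ?_⟩
    · rw [Perm.sign_mul, Perm.sign_swap huv, h1]
      decide
    · intro y
      rw [← hσ y]
      show Equiv.swap u v (e.extendSubtype y) ∈ O₂ ↔ _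
      by_cases hzu : e.extendSubtype y = u
      · rw [hzu, Equiv.swap_apply_left]
        exact ⟨fun _ => hu, fun _ => hv⟩
      · by_cases hzv : e.extendSubtype y = v
        · rw [hzv, Equiv.swap_apply_right]
          exact ⟨fun _ => hv, fun _ => hu⟩
        · rw [Equiv.swap_apply_of_ne_of_ne hzu hzv]

/-- even permutations supported in `O` -/
def abL (O : Finset X) : Subgroup (Perm X) where
  carrier := {τ | (∀ y, y ∉ O → τ y = y) ∧ Perm.sign τ = 1}
  mul_mem' := by
    rintro a b ⟨ha, ha'⟩ ⟨hb, hb'⟩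
    refine ⟨fun y hy => ?_, ?_⟩
    · show a (b y) = y
      rw [hb y hy, ha y hy]
    · rw [Perm.sign_mul, ha', hb', one_mul]
  one_mem' := ⟨fun y _ => rfl, Perm.sign_one⟩
  inv_mem' := by
    rintro a ⟨ha, ha'⟩
    refine ⟨fun y hy => ?_, ?_⟩
    · show a⁻¹ y = y
      rw [Perm.inv_eq_iff_eq]
      exact (ha y hy).symm
    · rw [Perm.sign_inv, ha']

theorem mem_abL (O : Finset X) (τ : Perm X) :
    τ ∈ abL O ↔ (∀ y, y ∉ O → τ y = y) ∧ Perm.sign τ = 1 := Iff.rfl

theorem abL_card (O : Finset X) (h2 : 2 ≤ O.card) :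
    2 * Nat.card (abL O) = O.card.factorial := by
  have h1 : abL O = (alternatingGroup {y // y ∈ O}).map
      (Perm.ofSubtype : Perm {y // y ∈ O} →* Perm X) := by
    ext τ
    constructor
    · rintro ⟨hτ, hs⟩
      obtain ⟨ρ, hρ⟩ := ab_mem_range (fun y => y ∈ O) τ hτ
      refine ⟨ρ, ?_, hρ⟩
      rw [SetLike.mem_coe, Perm.mem_alternatingGroup, ← Perm.sign_ofSubtype, hρ]
      exact hs
    · rintro ⟨ρ, hρ, rfl⟩
      refine ⟨fun y hy => Perm.ofSubtype_apply_of_not_mem ρ hy, ?_⟩
      rw [Perm.sign_ofSubtype]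
      exact Perm.mem_alternatingGroup.mp hρ
  rw [h1, Subgroup.card_map_of_injective Perm.ofSubtype_injective]
  haveI : Nontrivial {y // y ∈ O} := by
    rw [← Fintype.one_lt_card_iff_nontrivial, Fintype.card_coe]
    omega
  rw [two_mul_nat_card_alternatingGroup, Nat.card_perm, ab_card_mem]

end transfer

end Cfsg.Agent.Helper22
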