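import Mathlib
import Cfsg.Agent.Helper22.AbAlt1

set_option autoImplicit false

namespace Cfsg.Agent.Helper22

open Equiv Cfsg.Agent.S2505 Cfsg.Agent.S2504

theorem ab_struct {X : Type} [Fintype X] [DecidableEq X] (n : ℕ) (hX : Nat.card X = n)
    (hn : 6 ≤ n) (A : Subgroup (Perm X)) (hAc : ∀ a ∈ A, ∀ b ∈ A, a * b = b * a)
    (hAalt : A ≤ alternatingGroup X) (hcard : Nat.card A = h n) (x : X) :
    ∃ (O : Finset X) (W K : Subgroup (Perm X)),
      O.card = Nat.card (MulAction.orbit A x) ∧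
      (O.card = 3 ∨ (O.card = 4 ∧ n % 3 ≠ 0)) ∧
      (∀ w ∈ W, ∀ y, y ∉ O → w y = y) ∧ W ≤ alternatingGroup X ∧ Nat.card W = O.card ∧
      (∀ k ∈ K, ∀ y, y ∈ O → k y = y) ∧ K ≤ alternatingGroup X ∧
      (∀ a ∈ K, ∀ b ∈ K, a * b = b * a) ∧ Nat.card K = h (n - O.card) ∧ A = W ⊔ K := by
  classical
  haveI : IsMulCommutative A := ⟨⟨fun a b => Subtype.ext (hAc a a.2 b b.2)⟩⟩
  have hos := Nat.card_congr (MulAction.orbitProdStabilizerEquivGroup A x)
  rw [Nat.card_prod] at hos
  have hinv0 : ∀ (a : A) (y : X),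
      (a : Perm X) y ∈ MulAction.orbit A x ↔ y ∈ MulAction.orbit A x := by
    intro a y
    show a • y ∈ MulAction.orbit A x ↔ y ∈ MulAction.orbit A x
    rw [← MulAction.orbit_eq_iff, ← MulAction.orbit_eq_iff, MulAction.orbit_smul]
  have hfix : ∀ (a : A), a ∈ MulAction.stabilizer A x → ∀ y ∈ MulAction.orbit A x,
      (a : Perm X) y = y := by
    rintro a ha _ ⟨b, rfl⟩
    have hax : a • x = x := ha
    show a • (b • x) = b • x
    rw [← mul_smul, mul_comm' a b, mul_smul, hax]
  obtain ⟨O, hOmem⟩ : ∃ O : Finset X, ∀ y, y ∈ O ↔ y ∈ MulAction.orbit A x :=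
    ⟨(MulAction.orbit A x).toFinset, fun y => Set.mem_toFinset⟩
  have hOcard : O.card = Nat.card (MulAction.orbit A x) := by
    rw [Nat.card_eq_fintype_card, ← Set.toFinset_card]
    congr 1
    ext y
    rw [hOmem, Set.mem_toFinset]
  have hinv : ∀ (a : A) (y : X), (a : Perm X) y ∈ O ↔ y ∈ O := by
    intro a y
    rw [hOmem, hOmem]
    exact hinv0 a y
  let res : A →* Perm {y : X // y ∉ O} :=
    { toFun := fun a => Perm.subtypePerm (a : Perm X) (fun y => not_congr (hinv a y))
      map_one' := by ext y; rfl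
      map_mul' := fun a b => by ext y; rfl }
  let cut : A →* Perm X := (Perm.ofSubtype).comp res
  have hcut_in : ∀ (a : A) (y : X), y ∈ O → cut a y = y := by
    intro a y hy
    exact Perm.ofSubtype_apply_of_not_mem (res a) (not_not.mpr hy)
  have hcut_out : ∀ (a : A) (y : X), y ∉ O → cut a y = (a : Perm X) y := by
    intro a y hy
    show Perm.ofSubtype (res a) y = _
    rw [Perm.ofSubtype_apply_of_mem (res a) hy]
    rfl
  have hRfix : ∀ r ∈ cut.range, ∀ y, ¬ (y ∉ O) → r y = y := by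
    rintro _ ⟨a, rfl⟩ y hy
    exact hcut_in a y (not_not.mp hy)
  have hRc : ∀ a ∈ cut.range, ∀ b ∈ cut.range, a * b = b * a := by
    rintro _ ⟨a, rfl⟩ _ ⟨b, rfl⟩
    rw [← map_mul, ← map_mul, mul_comm' a b]
  have hcomp : Nat.card {y : X // y ∉ O} = n - O.card := ab_card_not_mem O n hX
  have hRg : Nat.card cut.range ≤ g (n - O.card) :=
    ab_bound_g (fun y => y ∉ O) cut.range hRfix hRc _ hcomp
  have hEh : Nat.card ↥(cut.range ⊓ alternatingGroup X) ≤ h (n - O.card) :=
    ab_bound_h (fun y => y ∉ O) (cut.range ⊓ alternatingGroup X) (fun d hd => hRfix d hd.1)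
      (fun a ha b hb => hRc a ha.1 b hb.1) inf_le_right _ hcomp
  have hKcut : ∀ k : A, k ∈ MulAction.stabilizer A x → cut k = (k : Perm X) := by
    intro k hk
    ext y
    by_cases hy : y ∈ O
    · rw [hcut_in k y hy, hfix k hk y ((hOmem y).mp hy)]
    · exact hcut_out k y hy
  have hK'E : (MulAction.stabilizer A x).map A.subtype ≤ cut.range ⊓ alternatingGroup X := by
    rintro _ ⟨k, hk, rfl⟩
    exact ⟨⟨k, hKcut k hk⟩, hAalt k.2⟩
  have hK'card : Nat.card ↥((MulAction.stabilizer A x).map A.subtype) =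
      Nat.card (MulAction.stabilizer A x) :=
    Subgroup.card_map_of_injective (Subgroup.subtype_injective A)
  have hxO : x ∈ O := (hOmem x).mpr (MulAction.mem_orbit_self x)
  have hm1 : 1 ≤ O.card := Finset.card_pos.mpr ⟨x, hxO⟩
  have hmn : O.card ≤ n := by
    rw [← hX, Nat.card_eq_fintype_card]
    exact Finset.card_le_univ O
  have hRpos : 0 < Nat.card cut.range := Nat.card_pos
  have hker : Nat.card cut.ker * Nat.card cut.range = Nat.card A := by
    rw [← Subgroup.index_ker]
    exact Subgroup.card_mul_index cut.ker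
  have hAK : O.card * Nat.card (MulAction.stabilizer A x) = h n := by
    rw [hOcard, ← hcard]
    exact hos
  -- the orbit does not have size two
  have hm2 : O.card ≠ 2 := by
    intro h2
    have hinj : Function.Injective cut := by
      rw [injective_iff_map_eq_one]
      intro a ha
      by_contra hne
      have hne' : (a : Perm X) ≠ 1 := fun h => hne (Subtype.ext h)
      have hsupp : (a : Perm X).support ⊆ O := by
        intro y hy
        by_contra hy'
        apply Perm.mem_support.mp hy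
        rw [← hcut_out a y hy', ha]
        rfl
      have hc1 : (a : Perm X).support.card ≤ 2 := h2 ▸ Finset.card_le_card hsupp
      have hc2 := Perm.two_le_card_support_of_ne_one hne'
      have hswap : (a : Perm X).IsSwap := Perm.card_support_eq_two.mp (by omega)
      have hsign := hswap.sign_eq
      have heven : Perm.sign (a : Perm X) = 1 := Perm.mem_alternatingGroup.mp (hAalt a.2)
      rw [heven] at hsign
      exact absurd hsign (by decide)
    have h3 : Nat.card cut.range = Nat.card A :=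
      (Nat.card_congr (MonoidHom.ofInjective hinj).toEquiv).symm
    have h4 := abg_lt_h (n - 2) (by omega)
    rw [show n - 2 + 2 = n by omega] at h4
    rw [h2] at hRg
    omega
  have hKE : Nat.card (MulAction.stabilizer A x) ≤ Nat.card ↥(cut.range ⊓ alternatingGroup X) :=
    hK'card ▸ Subgroup.card_le_of_le hK'E
  have hmul := h_mul O.card (n - O.card) hm1 hm2
  rw [show O.card + (n - O.card) = n by omega] at hmul
  have hchain1 : O.card * Nat.card (MulAction.stabilizer A x) ≤
      O.card * Nat.card ↥(cut.range ⊓ alternatingGroup X) := Nat.mul_le_mul_left _ hKE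
  have hchain2 : O.card * Nat.card ↥(cut.range ⊓ alternatingGroup X) ≤
      O.card * h (n - O.card) := Nat.mul_le_mul_left _ hEh
  have heq1 : O.card * h (n - O.card) = h n := by omega
  have heq2 : Nat.card (MulAction.stabilizer A x) = h (n - O.card) := by
    have : O.card * Nat.card (MulAction.stabilizer A x) = O.card * h (n - O.card) := by omega
    exact Nat.eq_of_mul_eq_mul_left hm1 this
  have heq3 : Nat.card ↥(cut.range ⊓ alternatingGroup X) = h (n - O.card) := by
    have : O.card * Nat.card ↥(cut.range ⊓ alternatingGroup X) = O.card * h (n - O.card) := by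
      omega
    exact Nat.eq_of_mul_eq_mul_left hm1 this
  have hnum := abh_num n O.card hn hm1 hmn hm2 heq1
  have hr3 : 3 ≤ n - O.card := by
    rcases hnum with h3 | ⟨h4, h4'⟩ <;> omega
  have hg2 := abg_lt_two_h (n - O.card) hr3
  have hRE : Nat.card cut.range = Nat.card ↥(cut.range ⊓ alternatingGroup X) := by
    obtain ⟨c, hc⟩ := Subgroup.card_dvd_of_le
      (inf_le_left : cut.range ⊓ alternatingGroup X ≤ cut.range)
    have hc1 : c < 2 := by
      by_contra hc2
      have h5 : Nat.card ↥(cut.range ⊓ alternatingGroup X) * 2 ≤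
          Nat.card ↥(cut.range ⊓ alternatingGroup X) * c :=
        Nat.mul_le_mul_left _ (by omega)
      omega
    have hc0 : c ≠ 0 := by
      rintro rfl
      omega
    have hc' : c = 1 := by omega
    rw [hc, hc', mul_one]
  have hER : cut.range ⊓ alternatingGroup X = cut.range :=
    Subgroup.eq_of_le_of_card_ge inf_le_left (by rw [hRE])
  have hK'R : (MulAction.stabilizer A x).map A.subtype = cut.range := by
    rw [← hER]
    exact Subgroup.eq_of_le_of_card_ge hK'E (by rw [hK'card, heq2, heq3])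
  have hWcard : Nat.card cut.ker = O.card := by
    have h5 : Nat.card cut.ker * Nat.card cut.range = O.card * Nat.card cut.range := by
      rw [hker, hRE, heq3, heq1]
      exact hcard
    exact Nat.eq_of_mul_eq_mul_right hRpos h5
  refine ⟨O, cut.ker.map A.subtype, (MulAction.stabilizer A x).map A.subtype, hOcard, hnum,
    ?_, ?_, ?_, ?_, ?_, ?_, ?_, ?_⟩
  · rintro _ ⟨w, hw, rfl⟩ y hy
    have h5 := hcut_out w y hy
    rw [MonoidHom.mem_ker.mp hw] at h5
    exact h5.symm
  · exact le_trans (Subgroup.map_subtype_le _) hAalt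
  · rw [Subgroup.card_map_of_injective (Subgroup.subtype_injective A)]
    exact hWcard
  · rintro _ ⟨k, hk, rfl⟩ y hy
    exact hfix k hk y ((hOmem y).mp hy)
  · exact le_trans (Subgroup.map_subtype_le _) hAalt
  · rintro _ ⟨a, _, rfl⟩ _ ⟨b, _, rfl⟩
    exact hAc _ a.2 _ b.2
  · rw [hK'card]
    exact heq2
  · apply le_antisymm
    · intro a ha
      have h6 : cut ⟨a, ha⟩ ∈ (MulAction.stabilizer A x).map A.subtype := by
        rw [hK'R]
        exact ⟨_, rfl⟩
      obtain ⟨k, hk, hk2⟩ := h6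
      have hk3 : (k : Perm X) = cut ⟨a, ha⟩ := hk2
      have h7 : (⟨a, ha⟩ : A) * k⁻¹ ∈ cut.ker := by
        rw [MonoidHom.mem_ker, map_mul, map_inv, hKcut k hk, hk3, mul_inv_cancel]
      have h8 : a = A.subtype ((⟨a, ha⟩ : A) * k⁻¹) * A.subtype k := by
        simp
      rw [h8]
      exact Subgroup.mul_mem_sup (Subgroup.mem_map_of_mem _ h7) (Subgroup.mem_map_of_mem _ hk)
    · exact sup_le (Subgroup.map_subtype_le _) (Subgroup.map_subtype_le _)

/-- decomposition of a maximal abelian group of even permutations -/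
def AbDec {X : Type} [Fintype X] [DecidableEq X] (n m : ℕ) (A : Subgroup (Perm X)) : Prop :=
  ∃ (O : Finset X) (W K : Subgroup (Perm X)), O.card = m ∧
    (∀ w ∈ W, ∀ y, y ∉ O → w y = y) ∧ W ≤ alternatingGroup X ∧ Nat.card W = m ∧
    (∀ k ∈ K, ∀ y, y ∈ O → k y = y) ∧ K ≤ alternatingGroup X ∧
    (∀ a ∈ K, ∀ b ∈ K, a * b = b * a) ∧ Nat.card K = h (n - m) ∧ A = W ⊔ K

theorem ab_dec_of_struct {X : Type} [Fintype X] [DecidableEq X] (n : ℕ) (hX : Nat.card X = n)
    (hn : 6 ≤ n) (A : Subgroup (Perm X)) (hAc : ∀ a ∈ A, ∀ b ∈ A, a * b = b * a)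
    (hAalt : A ≤ alternatingGroup X) (hcard : Nat.card A = h n) (x : X) :
    ∃ m, m = Nat.card (MulAction.orbit A x) ∧ (m = 3 ∨ (m = 4 ∧ n % 3 ≠ 0)) ∧ AbDec n m A := by
  obtain ⟨O, W, K, hO, hO34, h1, h2, h3, h4, h5, h6, h7, h8⟩ :=
    ab_struct n hX hn A hAc hAalt hcard x
  exact ⟨O.card, hO, hO34, O, W, K, rfl, h1, h2, h3, h4, h5, h6, h7, h8⟩

theorem ab_exists_four {X : Type} [Fintype X] [DecidableEq X] (n : ℕ) (hX : Nat.card X = n)
    (hn : 6 ≤ n) (h3 : n % 3 ≠ 0)
    (A : Subgroup (Perm X)) (hAc : ∀ a ∈ A, ∀ b ∈ A, a * b = b * a)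
    (hAalt : A ≤ alternatingGroup X) (hcard : Nat.card A = h n) :
    ∃ x : X, Nat.card (MulAction.orbit A x) = 4 := by
  haveI : IsMulCommutative A := ⟨⟨fun a b => Subtype.ext (hAc a a.2 b b.2)⟩⟩
  have h2 : 2 ∣ Nat.card A := hcard ▸ abh_even n hn h3
  obtain ⟨a, ha⟩ := exists_prime_orderOf_dvd_card' (G := ↥A) 2 h2
  have ha2 : a ^ 2 = 1 := by
    rw [← ha]
    exact pow_orderOf_eq_one a
  have hne : (a : Perm X) ≠ 1 := by
    intro h1
    have h1' : a = 1 := Subtype.ext h1
    rw [h1', orderOf_one] at ha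
    omega
  obtain ⟨y, hy⟩ : ∃ y, (a : Perm X) y ≠ y := by
    by_contra hcon
    apply hne
    ext y
    by_contra hy
    exact hcon ⟨y, hy⟩
  refine ⟨y, ?_⟩
  obtain ⟨m, hm, hm34, -⟩ := ab_dec_of_struct n hX hn A hAc hAalt hcard y
  rcases hm34 with h3' | ⟨h4, -⟩
  · exfalso
    have hidx : (MulAction.stabilizer A y).index = 3 := by
      rw [MulAction.index_stabilizer, ← Nat.card_coe_set_eq, ← hm]
      exact h3'
    haveI : (MulAction.stabilizer A y).Normal := ⟨fun k hk g => by
      rw [mul_comm' g k, mul_inv_cancel_right]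
      exact hk⟩
    have h5 := Subgroup.pow_index_mem (MulAction.stabilizer A y) a
    rw [hidx] at h5
    have h6 : a ^ 3 = a := by
      rw [show (3 : ℕ) = 2 + 1 from rfl, pow_succ, ha2, one_mul]
    rw [h6] at h5
    exact hy (MulAction.mem_stabilizer_iff.mp h5)
  · rw [← hm]
    exact h4

theorem ab_dec_match {X : Type} [Fintype X] [DecidableEq X] (n : ℕ) (hX : Nat.card X = n)
    (hn : 6 ≤ n) (A B : Subgroup (Perm X)) (hAc : ∀ a ∈ A, ∀ b ∈ A, a * b = b * a)
    (hBc : ∀ a ∈ B, ∀ b ∈ B, a * b = b * a)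
    (hAalt : A ≤ alternatingGroup X) (hBalt : B ≤ alternatingGroup X)
    (hAcard : Nat.card A = h n) (hBcard : Nat.card B = h n) :
    ∃ m, (m = 3 ∨ m = 4) ∧ AbDec n m A ∧ AbDec n m B := by
  by_cases h3 : n % 3 = 0
  · haveI : Nonempty X := by
      rw [← Finite.card_pos_iff, hX]
      omega
    obtain ⟨x⟩ := ‹Nonempty X›
    obtain ⟨mA, -, hA34, hdA⟩ := ab_dec_of_struct n hX hn A hAc hAalt hAcard x
    obtain ⟨mB, -, hB34, hdB⟩ := ab_dec_of_struct n hX hn B hBc hBalt hBcard x
    have hA3 : mA = 3 := by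
      rcases hA34 with h | ⟨-, h⟩
      · exact h
      · exact absurd h3 h
    have hB3 : mB = 3 := by
      rcases hB34 with h | ⟨-, h⟩
      · exact h
      · exact absurd h3 h
    subst hA3
    subst hB3
    exact ⟨3, Or.inl rfl, hdA, hdB⟩
  · obtain ⟨xA, hxA⟩ := ab_exists_four n hX hn h3 A hAc hAalt hAcard
    obtain ⟨xB, hxB⟩ := ab_exists_four n hX hn h3 B hBc hBalt hBcard
    obtain ⟨mA, hmA, -, hdA⟩ := ab_dec_of_struct n hX hn A hAc hAalt hAcard xA
    obtain ⟨mB, hmB, -, hdB⟩ := ab_dec_of_struct n hX hn B hBc hBalt hBcard xB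
    rw [hxA] at hmA
    rw [hxB] at hmB
    subst hmA
    subst hmB
    exact ⟨4, Or.inr rfl, hdA, hdB⟩

end Cfsg.Agent.Helper22
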