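import Mathlib
import Cfsg.Agent.Helper22.AbAlt2
import Cfsg.Agent.Helper22.ConjSmul

set_option autoImplicit false
open scoped Pointwise

namespace Cfsg.Agent.Helper22

open Equiv Cfsg.Agent.S2505 Cfsg.Agent.S2504

theorem ab_glue {X : Type} [Fintype X] [DecidableEq X] (n m : ℕ) (hX : Nat.card X = n)
    (hm : m = 3 ∨ m = 4)
    (IH : ∀ (Y : Type) [Fintype Y] [DecidableEq Y], Nat.card Y = n - m →
      ∀ A B : Subgroup (Perm Y), (∀ a ∈ A, ∀ b ∈ A, a * b = b * a) →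
      (∀ a ∈ B, ∀ b ∈ B, a * b = b * a) → A ≤ alternatingGroup Y → B ≤ alternatingGroup Y →
      Nat.card A = h (n - m) → Nat.card B = h (n - m) →
      ∃ g : Perm Y, Perm.sign g = 1 ∧ B = A.map (MulAut.conj g).toMonoidHom)
    (O₁ O₂ : Finset X) (W₁ K₁ W₂ K₂ : Subgroup (Perm X))
    (hO₁ : O₁.card = m) (hO₂ : O₂.card = m)
    (hW₁ : ∀ w ∈ W₁, ∀ y, y ∉ O₁ → w y = y) (hW₁a : W₁ ≤ alternatingGroup X)
    (hW₁n : Nat.card W₁ = m)
    (hK₁ : ∀ k ∈ K₁, ∀ y, y ∈ O₁ → k y = y) (hK₁a : K₁ ≤ alternatingGroup X)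
    (hK₁c : ∀ a ∈ K₁, ∀ b ∈ K₁, a * b = b * a) (hK₁n : Nat.card K₁ = h (n - m))
    (hW₂ : ∀ w ∈ W₂, ∀ y, y ∉ O₂ → w y = y) (hW₂a : W₂ ≤ alternatingGroup X)
    (hW₂n : Nat.card W₂ = m)
    (hK₂ : ∀ k ∈ K₂, ∀ y, y ∈ O₂ → k y = y) (hK₂a : K₂ ≤ alternatingGroup X)
    (hK₂c : ∀ a ∈ K₂, ∀ b ∈ K₂, a * b = b * a) (hK₂n : Nat.card K₂ = h (n - m)) :
    ∃ g : Perm X, Perm.sign g = 1 ∧
      W₂ ⊔ K₂ = (W₁ ⊔ K₁).map (MulAut.conj g).toMonoidHom := by
  have hm2 : 2 ≤ O₂.card := by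
    rw [hO₂]
    rcases hm with rfl | rfl <;> norm_num
  obtain ⟨σ, hσs, hσ⟩ := ab_exists_even_map O₁ O₂ (by rw [hO₁, hO₂]) hm2
  -- conjugates by σ
  have hW₁' : ∀ w ∈ W₁.map (MulAut.conj σ).toMonoidHom, ∀ y, y ∉ O₂ → w y = y := by
    rintro _ ⟨w, hw, rfl⟩ y hy
    show σ (w (σ⁻¹ y)) = y
    have e0 : σ (σ⁻¹ y) = y := σ.apply_symm_apply y
    have h1 : σ⁻¹ y ∉ O₁ := by
      intro h2
      apply hy
      have h3 := (hσ (σ⁻¹ y)).mpr h2
      rwa [e0] at h3
    rw [hW₁ w hw _ h1, e0]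
  have hK₁' : ∀ k ∈ K₁.map (MulAut.conj σ).toMonoidHom, ∀ y, y ∈ O₂ → k y = y := by
    rintro _ ⟨k, hk, rfl⟩ y hy
    show σ (k (σ⁻¹ y)) = y
    have e0 : σ (σ⁻¹ y) = y := σ.apply_symm_apply y
    have h1 : σ⁻¹ y ∈ O₁ := by
      apply (hσ (σ⁻¹ y)).mp
      rw [e0]
      exact hy
    rw [hK₁ k hk _ h1, e0]
  have hconj_alt : ∀ D : Subgroup (Perm X), D ≤ alternatingGroup X →
      D.map (MulAut.conj σ).toMonoidHom ≤ alternatingGroup X := by
    rintro D hD _ ⟨d, hd, rfl⟩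
    exact Subgroup.Normal.conj_mem inferInstance d (hD hd) σ
  have hK₁'c : ∀ a ∈ K₁.map (MulAut.conj σ).toMonoidHom,
      ∀ b ∈ K₁.map (MulAut.conj σ).toMonoidHom, a * b = b * a := by
    rintro _ ⟨a, ha, rfl⟩ _ ⟨b, hb, rfl⟩
    rw [← map_mul, ← map_mul, hK₁c a ha b hb]
  have hW₁'n : Nat.card ↥(W₁.map (MulAut.conj σ).toMonoidHom) = m := by
    rw [Subgroup.card_map_of_injective (MulEquiv.injective _), hW₁n]
  have hK₁'n : Nat.card ↥(K₁.map (MulAut.conj σ).toMonoidHom) = h (n - m) := by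
    rw [Subgroup.card_map_of_injective (MulEquiv.injective _), hK₁n]
  -- Sylow argument inside the even permutations supported on `O₂`
  have hL2 := abL_card O₂ hm2
  rw [hO₂] at hL2
  have hle1 : W₁.map (MulAut.conj σ).toMonoidHom ≤ abL O₂ := fun w hw =>
    ⟨hW₁' w hw, Perm.mem_alternatingGroup.mp (hconj_alt W₁ hW₁a hw)⟩
  have hle2 : W₂ ≤ abL O₂ := fun w hw => ⟨hW₂ w hw, Perm.mem_alternatingGroup.mp (hW₂a hw)⟩
  obtain ⟨τ, hτL, hτ⟩ : ∃ τ ∈ abL O₂,
      W₂ = (W₁.map (MulAut.conj σ).toMonoidHom).map (MulAut.conj τ).toMonoidHom := by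
    rcases hm with rfl | rfl
    · have hLc : Nat.card (abL O₂) = 3 ^ 1 * 1 := by
        have : Nat.factorial 3 = 6 := by decide
        omega
      haveI : Fact (Nat.Prime 3) := ⟨Nat.prime_three⟩
      have hf : (Nat.card (abL O₂)).factorization 3 = 1 := by
        rw [hLc]
        exact ab_fact 3 1 1 Nat.prime_three (by norm_num) (by norm_num)
      exact conj_of_card_eq_pow (abL O₂) _ W₂ 3 hle1 hle2 (by rw [hf, hW₁'n]; rfl)
        (by rw [hf, hW₂n]; rfl)
    · have hLc : Nat.card (abL O₂) = 2 ^ 2 * 3 := by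
        have : Nat.factorial 4 = 24 := by decide
        omega
      haveI : Fact (Nat.Prime 2) := ⟨Nat.prime_two⟩
      have hf : (Nat.card (abL O₂)).factorization 2 = 2 := by
        rw [hLc]
        exact ab_fact 2 2 3 Nat.prime_two (by norm_num) (by norm_num)
      exact conj_of_card_eq_pow (abL O₂) _ W₂ 2 hle1 hle2 (by rw [hf, hW₁'n]; rfl)
        (by rw [hf, hW₂n]; rfl)
  -- induction hypothesis on the complement of `O₂`
  obtain ⟨t1, c1⟩ := ab_transfer (fun y => y ∉ O₂) (K₁.map (MulAut.conj σ).toMonoidHom)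
    (fun d hd y hy => hK₁' d hd y (not_not.mp hy))
  obtain ⟨t2, c2⟩ := ab_transfer (fun y => y ∉ O₂) K₂ (fun d hd y hy => hK₂ d hd y (not_not.mp hy))
  obtain ⟨g₀, hg₀s, hg₀⟩ := IH {y // y ∉ O₂} (by rw [ab_card_not_mem O₂ n hX, hO₂])
    ((K₁.map (MulAut.conj σ).toMonoidHom).comap Perm.ofSubtype) (K₂.comap Perm.ofSubtype)
    (ab_comap_comm _ _ hK₁'c) (ab_comap_comm _ _ hK₂c)
    (ab_comap_alt _ _ (hconj_alt K₁ hK₁a)) (ab_comap_alt _ _ hK₂a)
    (by rw [c1, hK₁'n]) (by rw [c2, hK₂n])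
  have hρs : Perm.sign (Perm.ofSubtype g₀ : Perm X) = 1 := by
    rw [Perm.sign_ofSubtype]
    exact hg₀s
  have hρfix : ∀ y, y ∈ O₂ → (Perm.ofSubtype g₀ : Perm X) y = y := fun y hy =>
    Perm.ofSubtype_apply_of_not_mem g₀ (not_not.mpr hy)
  have hρK : K₂ = (K₁.map (MulAut.conj σ).toMonoidHom).map
      (MulAut.conj (Perm.ofSubtype g₀ : Perm X)).toMonoidHom := by
    calc K₂ = (K₂.comap Perm.ofSubtype).map Perm.ofSubtype := t2.symm
      _ = ((((K₁.map (MulAut.conj σ).toMonoidHom).comap Perm.ofSubtype).map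
            (MulAut.conj g₀).toMonoidHom)).map Perm.ofSubtype := by rw [hg₀]
      _ = ((((K₁.map (MulAut.conj σ).toMonoidHom).comap Perm.ofSubtype).map
            Perm.ofSubtype)).map (MulAut.conj (Perm.ofSubtype g₀ : Perm X)).toMonoidHom := by
          rw [Subgroup.map_map, Subgroup.map_map]
          congr 1
          apply MonoidHom.ext
          intro z
          show Perm.ofSubtype (g₀ * z * g₀⁻¹) =
            Perm.ofSubtype g₀ * Perm.ofSubtype z * (Perm.ofSubtype g₀)⁻¹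
          rw [map_mul, map_mul, map_inv]
      _ = _ := by rw [t1]
  -- assemble
  refine ⟨τ * Perm.ofSubtype g₀ * σ, ?_, ?_⟩
  · rw [Perm.sign_mul, Perm.sign_mul, hσs, hρs, hτL.2]
    rfl
  · have e : (MulAut.conj (τ * Perm.ofSubtype g₀ * σ)).toMonoidHom =
        ((MulAut.conj τ).toMonoidHom.comp
          (MulAut.conj (Perm.ofSubtype g₀ : Perm X)).toMonoidHom).comp
          (MulAut.conj σ).toMonoidHom := by
      apply MonoidHom.ext
      intro z
      show τ * Perm.ofSubtype g₀ * σ * z * (τ * Perm.ofSubtype g₀ * σ)⁻¹ =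
        τ * (Perm.ofSubtype g₀ * (σ * z * σ⁻¹) * (Perm.ofSubtype g₀)⁻¹) * τ⁻¹
      group
    rw [Subgroup.map_sup, e, ← Subgroup.map_map, ← Subgroup.map_map, ← Subgroup.map_map,
      ← Subgroup.map_map]
    have e1 : (W₁.map (MulAut.conj σ).toMonoidHom).map
        (MulAut.conj (Perm.ofSubtype g₀ : Perm X)).toMonoidHom =
        W₁.map (MulAut.conj σ).toMonoidHom := by
      apply ab_map_fix
      intro d hd
      exact (ab_disj_comm O₂ d _ (hW₁' d hd) hρfix).symm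
    have e2 : K₂.map (MulAut.conj τ).toMonoidHom = K₂ := by
      apply ab_map_fix
      intro d hd
      exact ab_disj_comm O₂ τ d hτL.1 (hK₂ d hd)
    rw [e1, ← hτ, ← hρK, e2]

theorem ab_conj : ∀ (n : ℕ) (X : Type) [Fintype X] [DecidableEq X], Nat.card X = n →
    ∀ A B : Subgroup (Perm X), (∀ a ∈ A, ∀ b ∈ A, a * b = b * a) →
    (∀ a ∈ B, ∀ b ∈ B, a * b = b * a) → A ≤ alternatingGroup X → B ≤ alternatingGroup X →
    Nat.card A = h n → Nat.card B = h n →
    ∃ g : Perm X, Perm.sign g = 1 ∧ B = A.map (MulAut.conj g).toMonoidHom := by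
  intro n
  induction n using Nat.strong_induction_on with
  | _ n ih =>
    intro X _ _ hX A B hAc hBc hAa hBa hAn hBn
    rcases Nat.lt_or_ge n 7 with h7 | h7
    · rcases Nat.lt_or_ge n 3 with h3 | h3
      · have h1 : h n = 1 := by interval_cases n <;> rfl
        rw [h1] at hAn hBn
        refine ⟨1, Perm.sign_one, ?_⟩
        rw [Subgroup.eq_bot_of_card_eq _ hAn, Subgroup.eq_bot_of_card_eq _ hBn, Subgroup.map_bot]
      · haveI : Nontrivial X := by
          rw [← Finite.one_lt_card_iff_nontrivial, hX]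
          omega
        have hAlt : Nat.card (alternatingGroup X) = n.factorial / 2 := by
          rw [nat_card_alternatingGroup, hX]
        obtain ⟨p, hp, hpc⟩ := ab_small n h3 h7
        haveI : Fact p.Prime := ⟨hp⟩
        obtain ⟨τ, hτ, hτ2⟩ := conj_of_card_eq_pow (alternatingGroup X) A B p hAa hBa
          (by rw [hAlt, hAn, hpc]) (by rw [hAlt, hBn, hpc])
        exact ⟨τ, Perm.mem_alternatingGroup.mp hτ, hτ2⟩
    · obtain ⟨m, hm, ⟨O₁, W₁, K₁, a1, a2, a3, a4, a5, a6, a7, a8, a9⟩,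
        ⟨O₂, W₂, K₂, b1, b2, b3, b4, b5, b6, b7, b8, b9⟩⟩ :=
        ab_dec_match n hX (by omega) A B hAc hBc hAa hBa hAn hBn
      subst a9
      subst b9
      exact ab_glue n m hX hm
        (ih (n - m) (by rcases hm with rfl | rfl <;> omega))
        O₁ O₂ W₁ K₁ W₂ K₂ a1 b1 a2 a3 a4 a5 a6 a7 a8 b2 b3 b4 b5 b6 b7 b8

theorem ab_Qa_h : ∀ n : ℕ, Qa (Fin n) (h n) := by
  intro n
  induction n using Nat.strong_induction_on with
  | _ n ih =>
    rcases Nat.lt_or_ge n 9 with h9 | h9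
    · have hbot : ∀ k : ℕ, Qa (Fin k) 1 := fun k => ⟨⊥, inferInstance, bot_le, by simp⟩
      interval_cases n
      · exact hbot 0
      · exact hbot 1
      · exact hbot 2
      · exact Qa_three
      · exact Qa_four
      · -- a cyclic group of order five in `A₅`
        have h60 : Nat.card (alternatingGroup (Fin 5)) = 60 := by
          rw [nat_card_alternatingGroup]
          simp
          decide
        haveI : Fact (Nat.Prime 5) := ⟨by norm_num⟩
        obtain ⟨c, hc⟩ := exists_prime_orderOf_dvd_card' (G := alternatingGroup (Fin 5)) 5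
          (by rw [h60]; norm_num)
        refine ⟨Subgroup.zpowers (c : Perm (Fin 5)), inferInstance, ?_, ?_⟩
        · rw [Subgroup.zpowers_le]
          exact c.2
        · rw [Nat.card_zpowers, Subgroup.orderOf_coe, hc]
          rfl
      · exact Qa_congr (finSumFinEquiv : Fin 3 ⊕ Fin 3 ≃ Fin (3 + 3)) (Qa_sum Qa_three Qa_three)
      · exact Qa_congr (finSumFinEquiv : Fin 4 ⊕ Fin 3 ≃ Fin (4 + 3)) (Qa_sum Qa_four Qa_three)
      · exact Qa_congr (finSumFinEquiv : Fin 4 ⊕ Fin 4 ≃ Fin (4 + 4)) (Qa_sum Qa_four Qa_four)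
    · obtain ⟨j, rfl⟩ : ∃ j, n = j + 3 := ⟨n - 3, by omega⟩
      have h1 := Qa_congr (finSumFinEquiv : Fin j ⊕ Fin 3 ≃ Fin (j + 3))
        (Qa_sum (ih j (by omega)) Qa_three)
      rw [h_add_three j (by omega), mul_comm]
      exact h1

theorem ab_alt_conj (n : ℕ)
    (A B : Subgroup (alternatingGroup (Fin n))) (hA : IsMulCommutative A)
    (hB : IsMulCommutative B)
    (hAmax : ∀ C : Subgroup (alternatingGroup (Fin n)), IsMulCommutative C →
      Nat.card C ≤ Nat.card A)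
    (hBmax : ∀ C : Subgroup (alternatingGroup (Fin n)), IsMulCommutative C →
      Nat.card C ≤ Nat.card B) :
    ∃ g : alternatingGroup (Fin n), B = MulAut.conj g • A := by
  obtain ⟨C, hC, hCc⟩ := Qa_to_alt (ab_Qa_h n)
  have hAn : Nat.card A = h n := le_antisymm (alt_bound n A hA) (hCc ▸ hAmax C hC)
  have hBn : Nat.card B = h n := le_antisymm (alt_bound n B hB) (hCc ▸ hBmax C hC)
  haveI := hA
  haveI := hB
  have key : ∀ D : Subgroup (alternatingGroup (Fin n)), IsMulCommutative D →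
      ∀ a ∈ D.map (alternatingGroup (Fin n)).subtype,
        ∀ b ∈ D.map (alternatingGroup (Fin n)).subtype, a * b = b * a := by
    rintro D hD _ ⟨a, ha, rfl⟩ _ ⟨b, hb, rfl⟩
    haveI := hD
    rw [← map_mul, ← map_mul]
    congr 1
    exact congrArg Subtype.val (mul_comm' (⟨a, ha⟩ : D) ⟨b, hb⟩)
  have hle : ∀ D : Subgroup (alternatingGroup (Fin n)),
      D.map (alternatingGroup (Fin n)).subtype ≤ alternatingGroup (Fin n) := by
    rintro D _ ⟨a, _, rfl⟩
    exact a.2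
  obtain ⟨g, hgs, hg⟩ := ab_conj n (Fin n) (by simp)
    (A.map (alternatingGroup (Fin n)).subtype) (B.map (alternatingGroup (Fin n)).subtype)
    (key A hA) (key B hB) (hle A) (hle B)
    (by rw [Subgroup.card_map_of_injective (Subgroup.subtype_injective _), hAn])
    (by rw [Subgroup.card_map_of_injective (Subgroup.subtype_injective _), hBn])
  refine ⟨⟨g, Perm.mem_alternatingGroup.mpr hgs⟩, ?_⟩
  ext x
  rw [mem_conj_smul_iff]
  constructor
  · intro hx
    have h1 : x.1 ∈ B.map (alternatingGroup (Fin n)).subtype := ⟨x, hx, rfl⟩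
    rw [hg] at h1
    obtain ⟨_, ⟨y, hy, rfl⟩, hyx⟩ := h1
    have h2 : (⟨g, Perm.mem_alternatingGroup.mpr hgs⟩ : alternatingGroup (Fin n))⁻¹ * x *
        ⟨g, Perm.mem_alternatingGroup.mpr hgs⟩ = y := by
      apply Subtype.ext
      show g⁻¹ * x.1 * g = y.1
      rw [← hyx]
      show g⁻¹ * (g * y.1 * g⁻¹) * g = y.1
      group
    rw [h2]
    exact hy
  · intro hx
    have h1 : g * (g⁻¹ * x.1 * g) * g⁻¹ ∈ (A.map (alternatingGroup (Fin n)).subtype).map
        (MulAut.conj g).toMonoidHom := ⟨g⁻¹ * x.1 * g, ⟨_, hx, rfl⟩, rfl⟩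
    rw [← hg] at h1
    obtain ⟨z, hz, hzx⟩ := h1
    have hzx' : (z : Perm (Fin n)) = g * (g⁻¹ * x.1 * g) * g⁻¹ := hzx
    have h2 : z = x := by
      apply Subtype.ext
      rw [hzx']
      group
    rw [← h2]
    exact hz

end Cfsg.Agent.Helper22
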