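import Mathlib
import Cfsg.Agent.Helper22.CyclicNorm
import Cfsg.Agent.Helper22.ConjClass

set_option autoImplicit false

namespace Cfsg.Agent.Helper22
open Subgroup

theorem conj_inv_of_conj' {G : Type*} [Group G] {g x y : G} (h : g * x * g⁻¹ = y) :
    g * x⁻¹ * g⁻¹ = y⁻¹ := by
  rw [← h]; group

theorem invert_odd_pow' {G : Type*} [Group G] {g x : G} (h : g * x * g⁻¹ = x⁻¹) (i : ℕ) :
    g ^ (2 * i + 1) * x * (g ^ (2 * i + 1))⁻¹ = x⁻¹ := by
  have h2 : g ^ 2 * x⁻¹ * (g ^ 2)⁻¹ = x⁻¹ := by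
    have h3 : g * x⁻¹ * g⁻¹ = x := by
      have := conj_inv_of_conj' h
      rwa [inv_inv] at this
    calc g ^ 2 * x⁻¹ * (g ^ 2)⁻¹ = g * (g * x⁻¹ * g⁻¹) * g⁻¹ := by rw [pow_two]; group
      _ = x⁻¹ := by rw [h3, h]
  induction i with
  | zero => simpa using h
  | succ i ih =>
    have : g ^ (2 * (i + 1) + 1) * x * (g ^ (2 * (i + 1) + 1))⁻¹
        = g ^ 2 * (g ^ (2 * i + 1) * x * (g ^ (2 * i + 1))⁻¹) * (g ^ 2)⁻¹ := by
      have e : 2 * (i + 1) + 1 = 2 + (2 * i + 1) := by ring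
      rw [e, pow_add]; group
    rw [this, ih, h2]

/-- an inverting element can be chosen to be a 2-element -/
theorem exists_two_elt_inverting' {G : Type*} [Group G] [Finite G] {g x : G}
    (h : g * x * g⁻¹ = x⁻¹) : ∃ g' : G, (∃ k, orderOf g' = 2 ^ k) ∧ g' * x * g'⁻¹ = x⁻¹ := by
  have ho0 : orderOf g ≠ 0 := (orderOf_pos g).ne'
  have hab : 2 ^ (orderOf g).factorization 2 * (orderOf g / 2 ^ (orderOf g).factorization 2) = orderOf g :=
    Nat.ordProj_mul_ordCompl_eq_self (orderOf g) 2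
  have hcop : Nat.Coprime 2 (orderOf g / 2 ^ (orderOf g).factorization 2) :=
    Nat.coprime_ordCompl Nat.prime_two ho0
  generalize (orderOf g).factorization 2 = e at hab hcop
  generalize orderOf g / 2 ^ e = b at hab hcop
  have hodd : Odd b := Nat.Coprime.odd_of_left hcop
  obtain ⟨i, hi⟩ := hodd
  refine ⟨g ^ b, ?_, ?_⟩
  · have : orderOf (g ^ b) ∣ 2 ^ e := by
      apply orderOf_dvd_of_pow_eq_one
      rw [← pow_mul, mul_comm, hab, pow_orderOf_eq_one]
    obtain ⟨k, _, hk⟩ := (Nat.dvd_prime_pow Nat.prime_two).mp this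
    exact ⟨k, hk⟩
  · rw [hi]; exact invert_odd_pow' h i

/-- If a Sylow 2-subgroup centralizes `x` and `x` is conjugate to its inverse, then `x = x⁻¹`. -/
theorem eq_inv_of_sylow_centralizes {G : Type*} [Group G] [Finite G] (S : Sylow 2 G) (x g : G)
    (hSC : (S : Subgroup G) ≤ centralizer {x}) (hg : g * x * g⁻¹ = x⁻¹) : x = x⁻¹ := by
  obtain ⟨g', ⟨k, hk⟩, hg'⟩ := exists_two_elt_inverting' hg
  have hg'' : g' * x⁻¹ * g'⁻¹ = x := by
    have := conj_inv_of_conj' hg'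
    rwa [inv_inv] at this
  have hD : IsPGroup 2 (zpowers g') := IsPGroup.of_card (n := k) (by rw [Nat.card_zpowers, hk])
  have hDN : zpowers g' ≤ normalizer ({x, x⁻¹} : Set G) := by
    rw [zpowers_le, mem_normalizer_iff_conj_image_eq, Set.image_pair]
    simp only [MulAut.conj_apply]
    rw [hg', hg'', Set.pair_comm]
  have hCN : centralizer {x} ≤ normalizer ({x, x⁻¹} : Set G) := by
    intro c hc
    rw [mem_centralizer_iff] at hc
    have hcx := hc x rfl
    have h1 : c * x * c⁻¹ = x := by rw [← hcx, mul_inv_cancel_right]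
    have h2 : c * x⁻¹ * c⁻¹ = x⁻¹ := conj_inv_of_conj' h1
    rw [mem_normalizer_iff_conj_image_eq, Set.image_pair]
    simp only [MulAut.conj_apply]
    rw [h1, h2]
  have hrel : ¬ 2 ∣ (S : Subgroup G).relIndex (normalizer ({x, x⁻¹} : Set G)) := by
    intro hd
    exact S.not_dvd_index (dvd_trans hd (relIndex_dvd_index_of_le (hSC.trans hCN)))
  obtain ⟨c, hcN, hc⟩ := exists_conj_le_of_not_dvd_relIndex 2 (zpowers g') _ (S : Subgroup G) hD hDN hrel
  have h1 := hSC (hc g' (mem_zpowers g'))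
  rw [mem_centralizer_iff] at h1
  have h2 := h1 x rfl
  have h3 : g' * (c * x * c⁻¹) = (c * x * c⁻¹) * g' := by
    calc g' * (c * x * c⁻¹) = c * (c⁻¹ * g' * c * x) * c⁻¹ := by group
      _ = c * (x * (c⁻¹ * g' * c)) * c⁻¹ := by rw [h2]
      _ = (c * x * c⁻¹) * g' := by group
  rw [mem_normalizer_iff_conj_image_eq, Set.image_pair] at hcN
  simp only [MulAut.conj_apply] at hcN
  have h4 : c * x * c⁻¹ ∈ ({x, x⁻¹} : Set G) := by rw [← hcN]; simp
  rcases h4 with h4 | h4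
  · rw [h4] at h3
    rw [← hg', h3, mul_inv_cancel_right]
  · rw [Set.mem_singleton_iff] at h4
    rw [h4] at h3
    have : g' * x⁻¹ * g'⁻¹ = x⁻¹ := by rw [h3, mul_inv_cancel_right]
    rw [hg''] at this
    exact this

end Cfsg.Agent.Helper22
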