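import Mathlib
import Cfsg.Agent.S0035
import Cfsg.Agent.S0042
import Cfsg.Agent.S0650
import Cfsg.Agent.Helper10.Coprime
import Cfsg.Agent.Helper22.ConjSmul

set_option autoImplicit false

namespace Cfsg.Agent.Helper22

open Cfsg
open scoped Pointwise

universe u

/-- The preimage of a solvable subgroup of `G ⧸ Z` is solvable when `Z` is. -/
theorem solvable_comap_mk {G : Type*} [Group G] (Z : Subgroup G) [Z.Normal]
    (hZ : Group.IsSolvable Z) (N : Subgroup (G ⧸ Z)) (hN : Group.IsSolvable N) :
    Group.IsSolvable (N.comap (QuotientGroup.mk' Z)) := by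
  have hZK : Z ≤ N.comap (QuotientGroup.mk' Z) := by
    intro z hz
    rw [Subgroup.mem_comap]
    have h1 : QuotientGroup.mk' Z z = 1 := (QuotientGroup.eq_one_iff z).mpr hz
    rw [h1]
    exact N.one_mem
  refine Group.isSolvable_of_ker_le_range (Subgroup.inclusion hZK)
    ((QuotientGroup.mk' Z).subgroupComap N) ?_
  intro x hx
  rw [MonoidHom.mem_ker] at hx
  have h1 : QuotientGroup.mk' Z (x : G) = 1 := congrArg Subtype.val hx
  have h2 : (x : G) ∈ Z := (QuotientGroup.eq_one_iff _).mp h1
  exact ⟨⟨x, h2⟩, Subtype.ext rfl⟩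

/-- A solvable subgroup central in every solvable overgroup is central. -/
theorem central_of_solvable_aux : ∀ n : ℕ, ∀ (G : Type u) [Group G] [Finite G],
    Nat.card G = n → ∀ A : Subgroup G, Group.IsSolvable A →
      (∀ S : Subgroup G, A ≤ S → Group.IsSolvable S → ∀ a ∈ A, ∀ s ∈ S, a * s = s * a) →
      ∀ a ∈ A, ∀ g : G, a * g = g * a := by
  intro n
  induction n using Nat.strong_induction_on with
  | _ n ih =>
  intro G _ _ hn A hA hc
  by_contra hcon
  have hsub : ∀ K : Subgroup G, K ≠ ⊤ → A ≤ K → ∀ a ∈ A, ∀ k ∈ K, a * k = k * a := by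
    intro K hK hAK a ha k hk
    have hlt : Nat.card K < n := hn ▸ S0001.card_lt_of_ne_top hK
    have hA' : Group.IsSolvable (A.subgroupOf K) := by
      haveI := hA
      exact Group.isSolvable_of_isSolvable_injective
        (f := (Subgroup.subgroupOfEquivOfLe hAK).toMonoidHom)
        (Subgroup.subgroupOfEquivOfLe hAK).injective
    have h := ih (Nat.card K) hlt K rfl (A.subgroupOf K) hA' (by
      intro S' hAS' hS' a' ha' s' hs'
      have hS : Group.IsSolvable (S'.map K.subtype) := by
        haveI := hS'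
        exact Group.isSolvable_of_surjective (f := (K.subtype).subgroupMap S')
          (MonoidHom.subgroupMap_surjective _ _)
      have h1 := hc (S'.map K.subtype) (by
        intro x hx
        exact ⟨⟨x, hAK hx⟩, hAS' (by rw [Subgroup.mem_subgroupOf]; exact hx), rfl⟩) hS (a' : G)
        (by rw [Subgroup.mem_subgroupOf] at ha'; exact ha') (s' : G) ⟨s', hs', rfl⟩
      exact Subtype.ext h1)
      ⟨a, hAK ha⟩ (by rw [Subgroup.mem_subgroupOf]; exact ha) ⟨k, hk⟩
    exact congrArg Subtype.val h
  have hAab : ∀ a ∈ A, ∀ b ∈ A, a * b = b * a := hc A le_rfl hA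
  obtain ⟨C, hC⟩ : ∃ C : Subgroup G, C = Subgroup.centralizer (A : Set G) := ⟨_, rfl⟩
  have hCmem : ∀ x, x ∈ C ↔ ∀ a ∈ A, a * x = x * a := by
    intro x
    rw [hC, Subgroup.mem_centralizer_iff]
    rfl
  have hAC : A ≤ C := fun a ha => (hCmem a).mpr (fun b hb => hAab b hb a ha)
  have hCtop : C ≠ ⊤ := by
    intro h
    apply hcon
    intro a ha g
    exact (hCmem g).mp (h ▸ Subgroup.mem_top g) a ha
  have hCmax : ∀ K : Subgroup G, K ≠ ⊤ → A ≤ K → K ≤ C :=
    fun K hK hAK k hk => (hCmem k).mpr (fun a ha => hsub K hK hAK a ha k hk)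
  -- `C` is not normal
  have hCnn : ¬ C.Normal := by
    intro hCn
    obtain ⟨N, hN⟩ : ∃ N : Subgroup G, N = Subgroup.normalClosure (A : Set G) := ⟨_, rfl⟩
    haveI hNn : N.Normal := by rw [hN]; exact Subgroup.normalClosure_normal
    have hAN : A ≤ N := by rw [hN]; exact Subgroup.le_normalClosure
    have hNC : N ≤ C := by rw [hN]; exact Subgroup.normalClosure_le_normal hAC
    have hNC' : N ≤ Subgroup.centralizer (C : Set G) := by
      haveI : (Subgroup.centralizer (C : Set G)).Normal := inferInstance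
      rw [hN]
      apply Subgroup.normalClosure_le_normal
      intro a ha
      rw [SetLike.mem_coe, Subgroup.mem_centralizer_iff]
      intro c hc'
      exact ((hCmem c).mp hc' a ha).symm
    have hNab : ∀ x y : N, x * y = y * x := by
      intro x y
      apply Subtype.ext
      have := Subgroup.mem_centralizer_iff.mp (hNC' x.2) y (hNC y.2)
      exact this.symm
    have hNsol : Group.IsSolvable N := Group.isSolvable_of_comm hNab
    apply hcon
    intro a ha g
    have hzsol : Group.IsSolvable (Subgroup.zpowers g) := by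
      apply Group.isSolvable_of_comm
      intro x y
      obtain ⟨i, hi⟩ := Subgroup.mem_zpowers_iff.mp x.2
      obtain ⟨j, hj⟩ := Subgroup.mem_zpowers_iff.mp y.2
      apply Subtype.ext
      rw [Subgroup.coe_mul, Subgroup.coe_mul, ← hi, ← hj, ← zpow_add, ← zpow_add, add_comm]
    have hS : Group.IsSolvable (N ⊔ Subgroup.zpowers g : Subgroup G) :=
      Helper10.solvable_sup_of_le_normalizer
        (by rw [Subgroup.normalizer_eq_top]; exact le_top) hNsol hzsol
    exact hc _ (le_trans hAN le_sup_left) hS a ha g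
      (Subgroup.mem_sup_right (Subgroup.mem_zpowers g))
  have hCcoatom : ∀ K : Subgroup G, C < K → K = ⊤ := by
    intro K hK
    by_contra hne
    exact hK.not_ge (hCmax K hne (hAC.trans hK.le))
  have hnorm : Subgroup.normalizer (C : Set G) = C := by
    rcases eq_or_lt_of_le (Subgroup.le_normalizer : C ≤ Subgroup.normalizer (C : Set G)) with
      h | h
    · exact h.symm
    · exact absurd (Subgroup.normalizer_eq_top_iff.mp (hCcoatom _ h)) hCnn
  have hTI : ∀ g : G, g ∉ C → ∀ x ∈ C, g⁻¹ * x * g ∈ C → ∀ y : G, x * y = y * x := by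
    intro g hg x hx hx'
    obtain ⟨J, hJ⟩ : ∃ J : Subgroup G,
        J = Subgroup.closure ((A : Set G) ∪ {y | ∃ a ∈ A, y = g * a * g⁻¹}) := ⟨_, rfl⟩
    have hAJ : A ≤ J := by
      rw [hJ]
      exact fun a ha => Subgroup.subset_closure (Or.inl ha)
    have hJtop : J = ⊤ := by
      by_contra hJne
      have hJC := hCmax J hJne hAJ
      have h1 : ∀ a ∈ A, g * a * g⁻¹ ∈ C := fun a ha =>
        hJC (by rw [hJ]; exact Subgroup.subset_closure (Or.inr ⟨a, ha, rfl⟩))
      obtain ⟨D, hD⟩ : ∃ D : Subgroup G, D = C.comap (MulAut.conj g).toMonoidHom := ⟨_, rfl⟩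
      have hDmem : ∀ x, x ∈ D ↔ g * x * g⁻¹ ∈ C := by
        intro x
        rw [hD, Subgroup.mem_comap]
        rfl
      have hAD : A ≤ D := fun a ha => (hDmem a).mpr (h1 a ha)
      have hDtop : D ≠ ⊤ := by
        intro h
        apply hCtop
        rw [eq_top_iff]
        intro y _
        have h2 : g⁻¹ * y * g ∈ D := h ▸ Subgroup.mem_top _
        rw [hDmem] at h2
        have h3 : g * (g⁻¹ * y * g) * g⁻¹ = y := by group
        rw [h3] at h2
        exact h2
      have hDC : D ≤ C := hCmax D hDtop hAD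
      have hginv : g⁻¹ ∈ Subgroup.normalizer (C : Set G) := by
        apply Cfsg.Agent.S0650.mem_normalizer_of_conj
        intro y hy
        apply hDC
        rw [hDmem]
        have h3 : g * (g⁻¹ * y * g⁻¹⁻¹) * g⁻¹ = y := by group
        rw [h3]
        exact hy
      have hgN := (Subgroup.normalizer (C : Set G)).inv_mem hginv
      rw [inv_inv, hnorm] at hgN
      exact hg hgN
    intro y
    have hy : y ∈ J := hJtop ▸ Subgroup.mem_top y
    have hle : J ≤ Subgroup.centralizer ({x} : Set G) := by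
      rw [hJ, Subgroup.closure_le]
      rintro w (hw | ⟨a, ha, rfl⟩)
      · rw [SetLike.mem_coe, Subgroup.mem_centralizer_iff]
        intro h hh
        rw [Set.mem_singleton_iff] at hh
        subst hh
        exact ((hCmem h).mp hx w hw).symm
      · rw [SetLike.mem_coe, Subgroup.mem_centralizer_iff]
        intro h hh
        rw [Set.mem_singleton_iff] at hh
        subst hh
        have h2 := (hCmem _).mp hx' a ha
        calc h * (g * a * g⁻¹) = g * ((g⁻¹ * h * g) * a) * g⁻¹ := by group
          _ = g * (a * (g⁻¹ * h * g)) * g⁻¹ := by rw [h2]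
          _ = g * a * g⁻¹ * h := by group
    exact Subgroup.mem_centralizer_iff.mp (hle hy) x (Set.mem_singleton x)
  -- Frobenius structure of `G ⧸ Z(G)`
  obtain ⟨Z, hZ⟩ : ∃ Z : Subgroup G, Z = Subgroup.center G := ⟨_, rfl⟩
  haveI hZn : Z.Normal := by rw [hZ]; infer_instance
  have hZC : Z ≤ C := by
    intro z hz
    rw [hZ, Subgroup.mem_center_iff] at hz
    exact (hCmem z).mpr (fun a _ => hz a)
  obtain ⟨Cb, hCb⟩ : ∃ Cb : Subgroup (G ⧸ Z), Cb = C.map (QuotientGroup.mk' Z) := ⟨_, rfl⟩
  have hcomap : Cb.comap (QuotientGroup.mk' Z) = C := by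
    rw [hCb, Subgroup.comap_map_eq, QuotientGroup.ker_mk']
    exact sup_eq_left.mpr hZC
  have hFrob : Cfsg.IsFrobeniusComplement Cb := by
    refine ⟨?_, ?_, ?_⟩
    · intro h
      apply hCnn
      have h1 : C = Z := by
        rw [← hcomap, h, MonoidHom.comap_bot, QuotientGroup.ker_mk']
      rw [h1]
      exact hZn
    · intro h
      apply hCtop
      rw [← hcomap, h, Subgroup.comap_top]
    · intro gb hgb
      obtain ⟨g, rfl⟩ := QuotientGroup.mk_surjective gb
      have hg : g ∉ C := fun hg => hgb (by rw [hCb]; exact Subgroup.mem_map_of_mem _ hg)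
      rw [eq_bot_iff]
      intro xb hxb
      obtain ⟨hx1, hx2⟩ := Subgroup.mem_inf.mp hxb
      rw [mem_conj_smul_iff] at hx2
      rw [hCb] at hx1
      obtain ⟨c₁, hc₁, rfl⟩ := hx1
      have h3 : g⁻¹ * c₁ * g ∈ C := by
        rw [← hcomap, Subgroup.mem_comap]
        exact hx2
      have h4 := hTI g hg c₁ hc₁ h3
      rw [Subgroup.mem_bot]
      apply (QuotientGroup.eq_one_iff c₁).mpr
      rw [hZ, Subgroup.mem_center_iff]
      intro y
      exact (h4 y).symm
  obtain ⟨N₁, hN₁, -, hcomp⟩ := Cfsg.Agent.S0035.result Cb hFrob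
  obtain ⟨N₂, hN₂, hN₂n, hnil⟩ := Cfsg.Agent.S0042.result Cb hFrob
  have hN12 : N₁ = N₂ := SetLike.coe_injective (hN₁.trans hN₂.symm)
  subst hN12
  haveI := hN₂n
  have hZsol : Group.IsSolvable Z := by
    apply Group.isSolvable_of_comm
    intro x y
    apply Subtype.ext
    have h1 : (x : G) ∈ Z := x.2
    have h2 : (x : G) ∈ Subgroup.center G := by rw [← hZ]; exact h1
    exact (Subgroup.mem_center_iff.mp h2 y).symm
  have hKsol : Group.IsSolvable (N₁.comap (QuotientGroup.mk' Z)) := by
    haveI := hnil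
    exact solvable_comap_mk Z hZsol N₁ inferInstance
  have hKA : Group.IsSolvable (N₁.comap (QuotientGroup.mk' Z) ⊔ A : Subgroup G) :=
    Helper10.solvable_sup_of_le_normalizer
      (by rw [Subgroup.normalizer_eq_top]; exact le_top) hKsol hA
  have hKC : N₁.comap (QuotientGroup.mk' Z) ≤ C := fun k hk =>
    (hCmem k).mpr (fun a ha => hc _ le_sup_right hKA a ha k (Subgroup.mem_sup_left hk))
  have hN1C : N₁ ≤ Cb := by
    intro xb hxb
    obtain ⟨x, rfl⟩ := QuotientGroup.mk_surjective xb
    rw [hCb]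
    exact Subgroup.mem_map_of_mem _ (hKC (by rw [Subgroup.mem_comap]; exact hxb))
  have hdisj : N₁ ⊓ Cb = ⊥ := hcomp.disjoint.eq_bot
  have hN1bot : N₁ = ⊥ := by
    rw [← hdisj]
    exact (inf_eq_left.mpr hN1C).symm
  have hsup : N₁ ⊔ Cb = ⊤ := hcomp.sup_eq_top
  rw [hN1bot, bot_sup_eq] at hsup
  exact hFrob.2.1 hsup

end Cfsg.Agent.Helper22
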