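import Mathlib

set_option autoImplicit false

namespace Cfsg.Agent.Helper22
open Subgroup

variable {P : Type*} [Group P]

/-- If all squares lie in the normal subgroup `N`, then the Frattini subgroup lies in `N`. -/
theorem frattini_le_of_sq_mem [Finite P] (N : Subgroup P) [hN : N.Normal]
    (hsq : ∀ x : P, x ^ 2 ∈ N) : frattini P ≤ N := by
  classical
  intro g hgF
  by_contra hgN
  let F := {M : Subgroup P // N ≤ M ∧ g ∉ M}
  haveI : Nonempty F := ⟨⟨N, le_refl N, hgN⟩⟩
  obtain ⟨⟨M, hNM, hgM⟩, hmax⟩ := Finite.exists_max (fun M : F => Nat.card M.1)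
  -- commutators lie in N
  have hcomm : ∀ x m : P, x * m * x⁻¹ * m⁻¹ ∈ N := by
    intro x m
    have h1 : x * m * x⁻¹ * m⁻¹ = (x * m) ^ 2 * (m⁻¹ * (x ^ 2)⁻¹ * m) * (m ^ 2)⁻¹ := by
      rw [pow_two, pow_two, pow_two]; group
    rw [h1]
    refine N.mul_mem (N.mul_mem (hsq _) ?_) (N.inv_mem (hsq _))
    have := hN.conj_mem _ (N.inv_mem (hsq x)) m⁻¹
    simpa using this
  have hMn : M.Normal := by
    constructor
    intro m hm x
    have : x * m * x⁻¹ = (x * m * x⁻¹ * m⁻¹) * m := by group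
    rw [this]
    exact M.mul_mem (hNM (hcomm x m)) hm
  -- for h ∉ M: h ∈ M ⊔ zpowers g and g ∈ M ⊔ zpowers h
  have key : ∀ h : P, h ∉ M → g ∈ M ⊔ zpowers h ∧ h ∈ M ⊔ zpowers g := by
    intro h hh
    have hg1 : g ∈ M ⊔ zpowers h := by
      by_contra hg1
      have h1 := hmax ⟨M ⊔ zpowers h, le_trans hNM le_sup_left, hg1⟩
      simp only at h1
      have h2 := Subgroup.eq_of_le_of_card_ge (le_sup_left : M ≤ M ⊔ zpowers h) h1
      apply hh
      rw [h2]
      exact le_sup_right (a := M) (mem_zpowers h)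
    refine ⟨hg1, ?_⟩
    obtain ⟨m, hm, z, ⟨j, rfl⟩, hmz⟩ := (mem_sup_of_normal_left (hs := hMn)).mp hg1
    rcases Int.even_or_odd j with ⟨i, hi⟩ | ⟨i, hi⟩
    · exfalso
      apply hgM
      rw [← hmz]
      refine M.mul_mem hm (hNM ?_)
      have : h ^ j = (h ^ 2) ^ i := by
        rw [hi, ← two_mul, zpow_mul, zpow_ofNat]
      show h ^ j ∈ N
      rw [this]
      exact N.zpow_mem (hsq h) i
    · have h1 : h ^ j = (h ^ 2) ^ i * h := by
        rw [hi, zpow_add, zpow_mul, zpow_ofNat, zpow_one]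
      have h1' : (fun x => h ^ x) j = (h ^ 2) ^ i * h := h1
      rw [h1'] at hmz
      have h2 : h = ((h ^ 2) ^ i)⁻¹ * m⁻¹ * g := by rw [← hmz]; group
      rw [h2]
      refine Subgroup.mul_mem _ (le_sup_left (b := zpowers g) ?_) (le_sup_right (a := M) (mem_zpowers g))
      exact M.mul_mem (M.inv_mem (hNM (N.zpow_mem (hsq h) i))) (M.inv_mem hm)
  have hco : IsCoatom M := by
    constructor
    · intro h
      apply hgM
      rw [h]; trivial
    · intro K hK
      obtain ⟨h, hhK, hhM⟩ := SetLike.exists_of_lt hK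
      have hgK : g ∈ K := by
        have := (key h hhM).1
        exact (sup_le hK.le (by rw [zpowers_le]; exact hhK)) this
      rw [eq_top_iff]
      intro x _
      by_cases hx : x ∈ M
      · exact hK.le hx
      · have := (key x hx).2
        exact (sup_le hK.le (by rw [zpowers_le]; exact hgK)) this
  exact hgM (frattini_le_coatom hco hgF)

end Cfsg.Agent.Helper22
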