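import Mathlib
import Cfsg.Agent.Helper22.ConjClass

set_option autoImplicit false

namespace Cfsg.Agent.Helper22

universe u

/-- If all fibres of `f` have cardinality divisible by `k`, so has the domain. -/
theorem dvd_card_of_fibers {α β : Type*} [Finite α] (f : α → β) (k : ℕ)
    (h : ∀ b, k ∣ Nat.card {a : α // f a = b}) : k ∣ Nat.card α := by
  classical
  have := Fintype.ofFinite α
  rw [Nat.card_eq_fintype_card, ← Finset.card_univ,
    Finset.card_eq_sum_card_fiberwise (f := f) (t := Finset.univ.image f)
      (by intro x _; exact Finset.mem_image_of_mem f (Finset.mem_univ x))]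
  apply Finset.dvd_sum
  intro b _
  have h1 := h b
  rw [Nat.card_eq_fintype_card, Fintype.card_subtype] at h1
  exact h1

/-- The number of elements of order `d` is divisible by `φ(d)`. -/
theorem totient_dvd_card_orderOf_eq {G : Type*} [Group G] [Finite G] (d : ℕ) :
    Nat.totient d ∣ Nat.card {x : G // orderOf x = d} := by
  classical
  apply dvd_card_of_fibers (fun x : {x : G // orderOf x = d} => Subgroup.zpowers x.1)
  intro H
  by_cases hne : Nonempty {a : {x : G // orderOf x = d} // Subgroup.zpowers a.1 = H}
  · obtain ⟨⟨⟨x0, hx0⟩, hH⟩⟩ := hne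
    have hH' : Subgroup.zpowers x0 = H := hH
    have hcard : Nat.card ↥H = d := by rw [← hH', Nat.card_zpowers, hx0]
    haveI : IsCyclic ↥H := by rw [← hH']; infer_instance
    have := Fintype.ofFinite ↥H
    have h1 := IsCyclic.card_orderOf_eq_totient (α := ↥H) (d := d)
      (by rw [← Nat.card_eq_fintype_card, hcard])
    have h2 : Nat.card {a : {x : G // orderOf x = d} // Subgroup.zpowers a.1 = H} =
        Nat.card {y : ↥H // orderOf y = d} := by
      apply Nat.card_congr
      refine
        { toFun := fun a => ⟨⟨a.1.1, ?_⟩, ?_⟩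
          invFun := fun y => ⟨⟨y.1.1, ?_⟩, ?_⟩
          left_inv := fun a => rfl
          right_inv := fun y => rfl }
      · have := Subgroup.mem_zpowers a.1.1
        rw [a.2] at this; exact this
      · rw [Subgroup.orderOf_mk]; exact a.1.2
      · rw [Subgroup.orderOf_coe]; exact y.2
      · apply Subgroup.eq_of_le_of_card_ge
        · rw [Subgroup.zpowers_le]; exact y.1.2
        · rw [hcard, Nat.card_zpowers, Subgroup.orderOf_coe, y.2]
    rw [h2, Nat.card_eq_fintype_card, Fintype.card_subtype, h1]
  · rw [not_nonempty_iff] at hne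
    rw [Nat.card_of_isEmpty]
    exact dvd_zero _

theorem pow_succ_dvd_of_dvd_mul_of_not_dvd {p m d : ℕ} (hp : p.Prime) (hm : m ≠ 0)
    (h1 : d ∣ m * p) (h2 : ¬ d ∣ m) : p ^ (m.factorization p + 1) ∣ d := by
  have hd : d ≠ 0 := by
    rintro rfl
    simp [hm, hp.ne_zero] at h1
  rw [hp.pow_dvd_iff_le_factorization hd]
  by_contra hcon
  apply h2
  rw [← Nat.factorization_le_iff_dvd hd hm]
  intro q
  by_cases hq : q = p
  · subst hq; omega
  · have := (Nat.factorization_le_iff_dvd hd (mul_ne_zero hm hp.ne_zero)).mpr h1 q
    rw [Nat.factorization_mul hm hp.ne_zero] at this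
    simp only [Finsupp.coe_add, Pi.add_apply, hp.factorization] at this
    rw [Finsupp.single_apply, if_neg (Ne.symm hq), add_zero] at this
    exact this

/-- sum of a class function -/
theorem dvd_sum_class_function {G : Type*} [Group G] [Fintype G] (φ : G → ℕ) (t : ℕ)
    (hφ : ∀ g y : G, φ (g * y * g⁻¹) = φ y)
    (ht : ∀ y : G, t ∣ (Subgroup.centralizer {y}).index * φ y) :
    t ∣ ∑ y : G, φ y := by
  classical
  rw [← Finset.sum_fiberwise (Finset.univ) (ConjClasses.mk (α := G)) φ]
  apply Finset.dvd_sum
  intro k _
  obtain ⟨y0, rfl⟩ := ConjClasses.mk_surjective k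
  have h1 : ∀ y ∈ Finset.univ.filter (fun y : G => ConjClasses.mk y = ConjClasses.mk y0),
      φ y = φ y0 := by
    intro y hy
    rw [Finset.mem_filter] at hy
    have h2 : IsConj y0 y := ConjClasses.mk_eq_mk_iff_isConj.mp hy.2.symm
    obtain ⟨g, hg⟩ := isConj_iff.mp h2
    rw [← hg, hφ]
  rw [Finset.sum_congr rfl h1, Finset.sum_const, smul_eq_mul]
  have h3 : (Finset.univ.filter (fun y : G => ConjClasses.mk y = ConjClasses.mk y0)).card =
      (Subgroup.centralizer {y0}).index := by
    rw [index_centralizer_eq_ncard_carrier, ← Set.ncard_coe_finset]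
    congr 1
    ext y
    simp [ConjClasses.mem_carrier_iff_mk_eq]
  rw [h3]
  exact ht y0


theorem split_facts {G : Type*} [Group G] {a b : ℕ} {u v : ℤ} (huv : (a : ℤ) * u + b * v = 1)
    (x : G) (hx : x ^ (a * b) = 1) :
    (x ^ ((b : ℤ) * v)) ^ a = 1 ∧ (x ^ ((a : ℤ) * u)) ^ b = 1 ∧
      x ^ ((b : ℤ) * v) * x ^ ((a : ℤ) * u) = x ∧
      Commute (x ^ ((b : ℤ) * v)) (x ^ ((a : ℤ) * u)) := by
  have hx' : x ^ ((a : ℤ) * b) = 1 := by
    rw [← Nat.cast_mul, zpow_natCast]; exact hx
  refine ⟨?_, ?_, ?_, ?_⟩
  · rw [← zpow_natCast, ← zpow_mul, show (b : ℤ) * v * a = (a : ℤ) * b * v by ring, zpow_mul, hx',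
      one_zpow]
  · rw [← zpow_natCast, ← zpow_mul, show (a : ℤ) * u * b = (a : ℤ) * b * u by ring, zpow_mul, hx',
      one_zpow]
  · rw [← zpow_add, show (b : ℤ) * v + a * u = 1 by linarith, zpow_one]
  · exact ((Commute.refl x).zpow_right _).zpow_left _

theorem join_facts {G : Type*} [Group G] {a b : ℕ} {u v : ℤ} (huv : (a : ℤ) * u + b * v = 1)
    (y z : G) (hy : y ^ a = 1) (hz : z ^ b = 1) (hc : Commute y z) :
    (y * z) ^ (a * b) = 1 ∧ (y * z) ^ ((b : ℤ) * v) = y ∧ (y * z) ^ ((a : ℤ) * u) = z := by
  have hy' : y ^ (a : ℤ) = 1 := by rw [zpow_natCast]; exact hy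
  have hz' : z ^ (b : ℤ) = 1 := by rw [zpow_natCast]; exact hz
  refine ⟨?_, ?_, ?_⟩
  · rw [hc.mul_pow, pow_mul, hy, one_pow, mul_comm a b, pow_mul, hz, one_pow, mul_one]
  · rw [hc.mul_zpow, zpow_mul z, hz', one_zpow, mul_one,
      show (b : ℤ) * v = 1 - a * u by linarith, zpow_sub, zpow_one, zpow_mul, hy', one_zpow,
      inv_one, mul_one]
  · rw [hc.mul_zpow, zpow_mul y, hy', one_zpow, one_mul,
      show (a : ℤ) * u = 1 - b * v by linarith, zpow_sub, zpow_one, zpow_mul, hz', one_zpow,
      inv_one, mul_one]

/-- Splitting elements into commuting coprime parts. -/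
theorem card_split {G : Type*} [Group G] [Finite G] (a b : ℕ) (hab : Nat.Coprime a b)
    (Q R : G → Prop)
    (hR : ∀ y z : G, y ^ a = 1 → z ^ b = 1 → Commute y z → (R (y * z) ↔ Q y)) :
    Nat.card {x : G // x ^ (a * b) = 1 ∧ R x} =
      Nat.card {yz : G × G // (yz.1 ^ a = 1 ∧ Q yz.1) ∧
        (yz.2 ∈ Subgroup.centralizer ({yz.1} : Set G) ∧ yz.2 ^ b = 1)} := by
  obtain ⟨u, v, huv⟩ : ∃ u v : ℤ, (a : ℤ) * u + b * v = 1 := by
    refine ⟨Nat.gcdA a b, Nat.gcdB a b, ?_⟩
    have := Nat.gcd_eq_gcd_ab a b
    rw [hab.gcd_eq_one] at this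
    exact_mod_cast this.symm
  apply Nat.card_congr
  refine
    { toFun := fun x => ⟨(x.1 ^ ((b : ℤ) * v), x.1 ^ ((a : ℤ) * u)), ?_⟩
      invFun := fun yz => ⟨yz.1.1 * yz.1.2, ?_⟩
      left_inv := ?_
      right_inv := ?_ }
  · obtain ⟨h1, h2, h3, h4⟩ := split_facts huv x.1 x.2.1
    refine ⟨⟨h1, ?_⟩, ?_, h2⟩
    · rw [← hR _ _ h1 h2 h4, h3]; exact x.2.2
    · rw [Subgroup.mem_centralizer_iff]
      intro h hh
      rw [Set.mem_singleton_iff] at hh
      rw [hh]; exact h4.eq
  · obtain ⟨⟨h1, h2⟩, h3, h4⟩ := yz.2
    have hc : Commute yz.1.1 yz.1.2 := by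
      rw [Subgroup.mem_centralizer_iff] at h3
      exact h3 _ (Set.mem_singleton _)
    exact ⟨(join_facts huv _ _ h1 h4 hc).1, (hR _ _ h1 h4 hc).mpr h2⟩
  · intro x
    obtain ⟨h1, h2, h3, h4⟩ := split_facts huv x.1 x.2.1
    exact Subtype.ext h3
  · intro yz
    obtain ⟨⟨h1, h2⟩, h3, h4⟩ := yz.2
    have hc : Commute yz.1.1 yz.1.2 := by
      rw [Subgroup.mem_centralizer_iff] at h3
      exact h3 _ (Set.mem_singleton _)
    obtain ⟨j1, j2, j3⟩ := join_facts huv _ _ h1 h4 hc
    exact Subtype.ext (Prod.ext j2 j3)

/-- Divisibility of the number of elements with prescribed `a`-part behaviour. -/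
theorem dvd_card_split {G : Type*} [Group G] [Finite G] (a b : ℕ) (hab : Nat.Coprime a b)
    (Q R : G → Prop) (t : ℕ)
    (hQ : ∀ g y : G, Q y → Q (g * y * g⁻¹))
    (hR : ∀ y z : G, y ^ a = 1 → z ^ b = 1 → Commute y z → (R (y * z) ↔ Q y))
    (ht : ∀ y : G, y ^ a = 1 → Q y → t ∣ (Subgroup.centralizer ({y} : Set G)).index *
      Nat.card {z : G // z ∈ Subgroup.centralizer ({y} : Set G) ∧ z ^ b = 1}) :
    t ∣ Nat.card {x : G // x ^ (a * b) = 1 ∧ R x} := by
  classical
  have := Fintype.ofFinite G
  rw [card_split a b hab Q R hR,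
    Nat.card_congr (Equiv.subtypeProdEquivSigmaSubtype (fun (y z : G) => (y ^ a = 1 ∧ Q y) ∧
        (z ∈ Subgroup.centralizer ({y} : Set G) ∧ z ^ b = 1))),
    Nat.card_sigma]
  apply dvd_sum_class_function
  · intro g y
    apply Nat.card_congr
    refine
      { toFun := fun z => ⟨g⁻¹ * z.1 * g, ?_⟩
        invFun := fun z => ⟨g * z.1 * g⁻¹, ?_⟩
        left_inv := fun z => Subtype.ext (by group)
        right_inv := fun z => Subtype.ext (by group) }
    · obtain ⟨⟨h1, h2⟩, h3, h4⟩ := z.2
      refine ⟨⟨?_, ?_⟩, ?_, ?_⟩
      · have : (g * y * g⁻¹) ^ a = g * y ^ a * g⁻¹ := conj_pow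
        rw [this] at h1
        have h5 : y ^ a = g⁻¹ * (g * y ^ a * g⁻¹) * g := by group
        rw [h5, h1]; group
      · have := hQ g⁻¹ _ h2
        have h5 : g⁻¹ * (g * y * g⁻¹) * g⁻¹⁻¹ = y := by group
        rwa [h5] at this
      · rw [Subgroup.mem_centralizer_iff] at h3 ⊢
        intro h hh
        rw [Set.mem_singleton_iff] at hh
        have := h3 _ (Set.mem_singleton _)
        rw [hh]
        have e1 : y * (g⁻¹ * z.1 * g) = g⁻¹ * (g * y * g⁻¹ * z.1) * g := by group
        have e2 : g⁻¹ * z.1 * g * y = g⁻¹ * (z.1 * (g * y * g⁻¹)) * g := by group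
        rw [e1, e2, this]
      · have : (g⁻¹ * z.1 * g) ^ b = g⁻¹ * z.1 ^ b * g := by
          have := conj_pow (a := g⁻¹) (b := z.1) (i := b)
          rw [inv_inv] at this; exact this
        rw [this, h4]; group
    · obtain ⟨⟨h1, h2⟩, h3, h4⟩ := z.2
      refine ⟨⟨?_, hQ g y h2⟩, ?_, ?_⟩
      · have : (g * y * g⁻¹) ^ a = g * y ^ a * g⁻¹ := conj_pow
        rw [this, h1]; group
      · rw [Subgroup.mem_centralizer_iff] at h3 ⊢
        intro h hh
        rw [Set.mem_singleton_iff] at hh
        have := h3 _ (Set.mem_singleton _)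
        rw [hh]
        have e1 : g * y * g⁻¹ * (g * z.1 * g⁻¹) = g * (y * z.1) * g⁻¹ := by group
        have e2 : g * z.1 * g⁻¹ * (g * y * g⁻¹) = g * (z.1 * y) * g⁻¹ := by group
        rw [e1, e2, this]
      · have : (g * z.1 * g⁻¹) ^ b = g * z.1 ^ b * g⁻¹ := conj_pow
        rw [this, h4]; group
  · intro y
    by_cases hy : y ^ a = 1 ∧ Q y
    · have := ht y hy.1 hy.2
      have e : Nat.card {z : G // (y ^ a = 1 ∧ Q y) ∧
          (z ∈ Subgroup.centralizer ({y} : Set G) ∧ z ^ b = 1)} =
          Nat.card {z : G // z ∈ Subgroup.centralizer ({y} : Set G) ∧ z ^ b = 1} :=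
        Nat.card_congr (Equiv.subtypeEquivRight (fun z => ⟨fun h => h.2, fun h => ⟨hy, h⟩⟩))
      rw [e]; exact this
    · have : IsEmpty {z : G // (y ^ a = 1 ∧ Q y) ∧
          (z ∈ Subgroup.centralizer ({y} : Set G) ∧ z ^ b = 1)} :=
        ⟨fun z => hy z.2.1⟩
      rw [Nat.card_of_isEmpty, mul_zero]
      exact dvd_zero _

/-- Quotient by a central subgroup of order prime to `s` preserves the number of solutions of
`z ^ s = 1`. -/
theorem card_pow_eq_one_quotient {G : Type*} [Group G] [Finite G] (N : Subgroup G) [N.Normal]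
    (hN : N ≤ Subgroup.center G) (s : ℕ) (hs : Nat.Coprime (Nat.card N) s) :
    Nat.card {z : G // z ^ s = 1} = Nat.card {w : G ⧸ N // w ^ s = 1} := by
  obtain ⟨i, hi⟩ : ∃ i : ℕ, Nat.card N ∣ 1 + i * s := by
    by_cases h1 : Nat.card N = 1
    · exact ⟨0, by rw [h1]; exact one_dvd _⟩
    · have hlt : 1 < Nat.card N := by
        have := Nat.card_pos (α := N)
        omega
      obtain ⟨j, hj⟩ := Nat.exists_mul_mod_eq_one_of_coprime hs.symm hlt
      obtain ⟨k, hk⟩ : ∃ k, Nat.card N = k + 1 := ⟨Nat.card N - 1, by omega⟩
      have h2 := Nat.div_add_mod (s * j) (Nat.card N)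
      rw [hj.2] at h2
      generalize s * j / Nat.card N = q at h2
      refine ⟨j * k, q * k + 1, ?_⟩
      have h3 : j * k * s = (s * j) * k := by ring
      rw [h3, ← h2, hk]; ring
  have hcen : ∀ c ∈ N, ∀ g : G, Commute g c := by
    intro c hc g
    have := Subgroup.mem_center_iff.mp (hN hc) g
    exact this
  apply Nat.card_congr
  apply Equiv.ofBijective (fun z : {z : G // z ^ s = 1} =>
    (⟨(z.1 : G ⧸ N), by rw [← QuotientGroup.mk_pow, z.2]; rfl⟩ : {w : G ⧸ N // w ^ s = 1}))
  constructor
  · intro z1 z2 h
    have h1 : (z1.1 : G ⧸ N) = (z2.1 : G ⧸ N) := congrArg Subtype.val h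
    rw [QuotientGroup.eq] at h1
    set c := z1.1⁻¹ * z2.1 with hc
    have h2 : z2.1 = z1.1 * c := by rw [hc]; group
    have h3 : c ^ s = 1 := by
      have := z2.2
      rw [h2, (hcen c h1 z1.1).mul_pow, z1.2, one_mul] at this
      exact this
    have h4 : c ^ Nat.card N = 1 := by
      have := pow_card_eq_one' (G := N) (x := ⟨c, h1⟩)
      exact congrArg Subtype.val this
    have h5 : c = 1 := by
      have := pow_gcd_eq_one.mpr ⟨h4, h3⟩
      rw [hs.gcd_eq_one, pow_one] at this
      exact this
    apply Subtype.ext
    rw [h2, h5, mul_one]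
  · rintro ⟨w, hw⟩
    obtain ⟨z, rfl⟩ := QuotientGroup.mk_surjective w
    have h1 : z ^ s ∈ N := by
      rw [← QuotientGroup.eq_one_iff, QuotientGroup.mk_pow]; exact hw
    have hcN : (z ^ s) ^ (i) ∈ N := N.pow_mem h1 i
    have h2 : (z * (z ^ s) ^ i) ^ s = 1 := by
      rw [(hcen _ hcN z).mul_pow, ← pow_mul, ← pow_mul, ← pow_add,
        show s + s * (i * s) = s * (1 + i * s) by ring, pow_mul]
      obtain ⟨k, hk⟩ := hi
      rw [hk, pow_mul]
      have := pow_card_eq_one' (G := N) (x := ⟨z ^ s, h1⟩)
      have h3 : (z ^ s) ^ Nat.card N = 1 := congrArg Subtype.val this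
      rw [h3, one_pow]
    refine ⟨⟨z * (z ^ s) ^ i, h2⟩, ?_⟩
    apply Subtype.ext
    show ((z * (z ^ s) ^ i : G) : G ⧸ N) = (z : G ⧸ N)
    rw [QuotientGroup.mk_mul, (QuotientGroup.eq_one_iff _).mpr hcN, mul_one]


theorem pow_eq_one_iff_gcd_card {G : Type*} [Group G] [Finite G] (m : ℕ) (g : G) :
    g ^ (Nat.gcd m (Nat.card G)) = 1 ↔ g ^ m = 1 := by
  rw [pow_gcd_eq_one]
  exact ⟨fun h => h.1, fun h => ⟨h, pow_card_eq_one'⟩⟩

theorem frobenius_gcd_form {G : Type*} [Group G] [Finite G]
    (h : ∀ m, m ∣ Nat.card G → m ∣ Nat.card {g : G // g ^ m = 1}) (m : ℕ) :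
    Nat.gcd m (Nat.card G) ∣ Nat.card {g : G // g ^ m = 1} := by
  have := h _ (Nat.gcd_dvd_right m (Nat.card G))
  rwa [Nat.card_congr (Equiv.subtypeEquivRight (fun g => pow_eq_one_iff_gcd_card m g))] at this

theorem card_mem_and_pow_eq_one {G : Type*} [Group G] (H : Subgroup G) (s : ℕ) :
    Nat.card {z : G // z ∈ H ∧ z ^ s = 1} = Nat.card {z : ↥H // z ^ s = 1} := by
  apply Nat.card_congr
  exact
    { toFun := fun z => ⟨⟨z.1, z.2.1⟩, Subtype.ext (by simpa using z.2.2)⟩
      invFun := fun z => ⟨z.1.1, z.1.2, by have := congrArg Subtype.val z.2; simpa using this⟩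
      left_inv := fun z => rfl
      right_inv := fun z => rfl }

theorem frobenius_aux (N : ℕ) : ∀ (G : Type u) [Group G] [Finite G], Nat.card G = N →
    ∀ m, m ∣ N → m ∣ Nat.card {g : G // g ^ m = 1} := by
  induction N using Nat.strong_induction_on with
  | _ N IH =>
    intro G _ _ hN
    have hNpos : 0 < N := by rw [← hN]; exact Nat.card_pos
    have key : ∀ k, ∀ m, m ∣ N → N / m = k → m ∣ Nat.card {g : G // g ^ m = 1} := by
      intro k
      induction k using Nat.strong_induction_on with
      | _ k IHk =>
        intro m hm hk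
        have hm0 : m ≠ 0 := by
          rintro rfl
          simp at hm; omega
        by_cases hmN : m = N
        · have : Nat.card {g : G // g ^ m = 1} = Nat.card G := by
            apply Nat.card_congr
            exact Equiv.subtypeUnivEquiv (fun g => by rw [hmN, ← hN]; exact pow_card_eq_one')
          rw [this, hN, hmN]
        · have hNm : N / m ≠ 1 := by
            intro h1
            apply hmN
            have := Nat.div_mul_cancel hm
            rw [h1, one_mul] at this; exact this
          obtain ⟨p, hp, hpd⟩ := Nat.exists_prime_and_dvd hNm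
          haveI : Fact p.Prime := ⟨hp⟩
          have hmp : m * p ∣ N := by
            obtain ⟨c, hc⟩ := hpd
            have := Nat.div_mul_cancel hm
            rw [hc] at this
            exact ⟨c, by rw [← this]; ring⟩
          have hlt : N / (m * p) < k := by
            rw [← hk, ← Nat.div_div_eq_div_mul]
            apply Nat.div_lt_self
            · exact Nat.div_pos (Nat.le_of_dvd hNpos hm) (Nat.pos_of_ne_zero hm0)
            · exact hp.one_lt
          have h1 := IHk _ hlt (m * p) hmp rfl
          have hA : m ∣ Nat.card {x : G // x ^ (m * p) = 1 ∧ x ^ m ≠ 1} := by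
            obtain ⟨b, hb⟩ : ∃ b, b = m.factorization p := ⟨_, rfl⟩
            obtain ⟨s, hs⟩ : ∃ s, s = m / p ^ b := ⟨_, rfl⟩
            have hms : p ^ b * s = m := by
              rw [hs, hb]; exact Nat.ordProj_mul_ordCompl_eq_self m p
            have hcop : Nat.Coprime p s := by
              rw [hs, hb]; exact Nat.coprime_ordCompl hp hm0
            have hcop' : Nat.Coprime (p ^ (b + 1)) s := Nat.Coprime.pow_left _ hcop
            have hmp' : m * p = p ^ (b + 1) * s := by rw [← hms]; ring
            have h_p : p ^ b ∣ Nat.card {x : G // x ^ (m * p) = 1 ∧ x ^ m ≠ 1} := by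
              apply dvd_card_of_fibers
                (fun x : {x : G // x ^ (m * p) = 1 ∧ x ^ m ≠ 1} => orderOf x.1)
              intro d
              by_cases hne : Nonempty {a : {x : G // x ^ (m * p) = 1 ∧ x ^ m ≠ 1} //
                  orderOf a.1 = d}
              · obtain ⟨⟨⟨x0, hx0a, hx0b⟩, hd⟩⟩ := hne
                have hd' : orderOf x0 = d := hd
                have hd1 : d ∣ m * p := by rw [← hd']; exact orderOf_dvd_of_pow_eq_one hx0a
                have hd2 : ¬ d ∣ m := by
                  intro h
                  rw [← hd'] at h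
                  exact hx0b (orderOf_dvd_iff_pow_eq_one.mp h)
                have h3 := pow_succ_dvd_of_dvd_mul_of_not_dvd hp hm0 hd1 hd2
                rw [← hb] at h3
                have h4 : p ^ b ∣ Nat.totient d := by
                  have h5 := Nat.totient_dvd_of_dvd h3
                  rw [Nat.totient_prime_pow_succ hp] at h5
                  exact Dvd.dvd.trans (Dvd.intro _ rfl) h5
                have h6 : Nat.card {a : {x : G // x ^ (m * p) = 1 ∧ x ^ m ≠ 1} //
                    orderOf a.1 = d} = Nat.card {x : G // orderOf x = d} := by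
                  apply Nat.card_congr
                  exact
                    { toFun := fun a => ⟨a.1.1, a.2⟩
                      invFun := fun x => ⟨⟨x.1, by
                        have e1 := hd1
                        have e2 := hd2
                        rw [← x.2] at e1 e2
                        exact ⟨orderOf_dvd_iff_pow_eq_one.mp e1,
                          fun h => e2 (orderOf_dvd_of_pow_eq_one h)⟩⟩, x.2⟩
                      left_inv := fun a => rfl
                      right_inv := fun x => rfl }
                rw [h6]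
                exact Dvd.dvd.trans h4 (totient_dvd_card_orderOf_eq d)
              · rw [not_nonempty_iff] at hne
                rw [Nat.card_of_isEmpty]
                exact dvd_zero _
            have h_s : s ∣ Nat.card {x : G // x ^ (m * p) = 1 ∧ x ^ m ≠ 1} := by
              have e0 : Nat.card {x : G // x ^ (m * p) = 1 ∧ x ^ m ≠ 1} =
                  Nat.card {x : G // x ^ (p ^ (b + 1) * s) = 1 ∧ x ^ m ≠ 1} := by rw [hmp']
              rw [e0]
              apply dvd_card_split (p ^ (b + 1)) s hcop' (fun y => y ^ (p ^ b) ≠ 1)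
                (fun x => x ^ m ≠ 1) s
              · intro g y hy h
                apply hy
                have : (g * y * g⁻¹) ^ (p ^ b) = g * y ^ (p ^ b) * g⁻¹ := conj_pow
                rw [this] at h
                have h5 : y ^ (p ^ b) = g⁻¹ * (g * y ^ (p ^ b) * g⁻¹) * g := by group
                rw [h5, h]; group
              · intro y z hy hz hc
                have e1 : (y * z) ^ m = (y ^ (p ^ b)) ^ s := by
                  rw [hc.mul_pow, ← hms, pow_mul y, mul_comm (p ^ b) s, pow_mul z, hz, one_pow,
                    mul_one]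
                rw [e1]
                constructor
                · intro h h'
                  apply h
                  rw [h', one_pow]
                · intro h h'
                  apply h
                  have e2 : (y ^ (p ^ b)) ^ p = 1 := by rw [← pow_mul, ← pow_succ]; exact hy
                  have := pow_gcd_eq_one.mpr ⟨e2, h'⟩
                  rw [hcop.gcd_eq_one, pow_one] at this
                  exact this
              · intro y hy hy'
                have hord : orderOf y = p ^ (b + 1) := orderOf_eq_prime_pow hy' hy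
                have hsN : s ∣ N := Dvd.dvd.trans (Dvd.intro_left _ hms) hm
                by_cases hcen : Subgroup.centralizer ({y} : Set G) = ⊤
                · rw [hcen, Subgroup.index_top, one_mul]
                  have e3 : Nat.card {z : G // z ∈ (⊤ : Subgroup G) ∧ z ^ s = 1} =
                      Nat.card {z : G // z ^ s = 1} :=
                    Nat.card_congr (Equiv.subtypeEquivRight (fun z => by simp))
                  rw [e3]
                  have hyc : ∀ g : G, g * y = y * g := by
                    intro g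
                    have : g ∈ Subgroup.centralizer ({y} : Set G) := by rw [hcen]; trivial
                    rw [Subgroup.mem_centralizer_iff] at this
                    exact (this y (Set.mem_singleton y)).symm
                  have hzc : Subgroup.zpowers y ≤ Subgroup.center G := by
                    rw [Subgroup.zpowers_le, Subgroup.mem_center_iff]
                    exact hyc
                  haveI : (Subgroup.zpowers y).Normal := by
                    constructor
                    intro n hn g
                    have h5 := Subgroup.mem_center_iff.mp (hzc hn) g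
                    have : g * n * g⁻¹ = n := by rw [h5]; group
                    rw [this]; exact hn
                  have hcz : Nat.card (Subgroup.zpowers y) = p ^ (b + 1) := by
                    rw [Nat.card_zpowers, hord]
                  rw [card_pow_eq_one_quotient (Subgroup.zpowers y) hzc s (by rw [hcz]; exact hcop')]
                  have hq : Nat.card (G ⧸ Subgroup.zpowers y) * p ^ (b + 1) = N := by
                    rw [← hcz, ← hN]
                    exact (Subgroup.card_eq_card_quotient_mul_card_subgroup _).symm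
                  have hlt2 : Nat.card (G ⧸ Subgroup.zpowers y) < N := by
                    have h1' : 1 < p ^ (b + 1) := Nat.one_lt_pow (by omega) hp.one_lt
                    have hpos : 0 < Nat.card (G ⧸ Subgroup.zpowers y) := Nat.card_pos
                    rw [← hq]
                    nlinarith
                  apply IH _ hlt2 (G ⧸ Subgroup.zpowers y) rfl s
                  -- s ∣ card quotient
                  have h7 : p ^ (b + 1) * s ∣ Nat.card (G ⧸ Subgroup.zpowers y) * p ^ (b + 1) := by
                    rw [hq, ← hmp']; exact hmp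
                  rw [mul_comm (Nat.card (G ⧸ Subgroup.zpowers y))] at h7
                  exact (Nat.mul_dvd_mul_iff_left (Nat.pos_of_ne_zero (pow_ne_zero _ hp.ne_zero))).mp h7
                · have hidx : (Subgroup.centralizer ({y} : Set G)).index ≠ 1 := by
                    rw [Ne, Subgroup.index_eq_one]; exact hcen
                  have hci := Subgroup.card_mul_index (Subgroup.centralizer ({y} : Set G))
                  rw [hN] at hci
                  have hipos : 0 < (Subgroup.centralizer ({y} : Set G)).index :=
                    Nat.pos_of_ne_zero Subgroup.index_ne_zero_of_finite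
                  have hcpos : 0 < Nat.card (Subgroup.centralizer ({y} : Set G)) := Nat.card_pos
                  have hlt2 : Nat.card (Subgroup.centralizer ({y} : Set G)) < N := by
                    rw [← hci]
                    have : 2 ≤ (Subgroup.centralizer ({y} : Set G)).index := by omega
                    nlinarith
                  have h8 := frobenius_gcd_form
                    (IH _ hlt2 (↥(Subgroup.centralizer ({y} : Set G))) rfl) s
                  rw [card_mem_and_pow_eq_one]
                  have h9 : s ∣ (Subgroup.centralizer ({y} : Set G)).index *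
                      Nat.gcd s (Nat.card (Subgroup.centralizer ({y} : Set G))) := by
                    rw [← Nat.gcd_mul_left]
                    apply Nat.dvd_gcd (Dvd.intro_left _ rfl)
                    rw [mul_comm, hci]; exact hsN
                  exact Dvd.dvd.trans h9 (Nat.mul_dvd_mul_left _ h8)
            have := Nat.Coprime.mul_dvd_of_dvd_of_dvd (Nat.Coprime.pow_left b hcop) h_p h_s
            rwa [hms] at this
          have hsum : Nat.card {g : G // g ^ (m * p) = 1} =
              Nat.card {g : G // g ^ m = 1} +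
                Nat.card {x : G // x ^ (m * p) = 1 ∧ x ^ m ≠ 1} := by
            classical
            have := Fintype.ofFinite G
            simp only [Nat.card_eq_fintype_card, Fintype.card_subtype]
            rw [← Finset.card_filter_add_card_filter_not
              (s := Finset.univ.filter (fun g : G => g ^ (m * p) = 1)) (p := fun g : G => g ^ m = 1),
              Finset.filter_filter, Finset.filter_filter]
            congr 2
            ext g
            simp only [Finset.mem_filter, Finset.mem_univ, true_and]
            constructor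
            · rintro ⟨_, h⟩; exact h
            · intro h; exact ⟨by rw [pow_mul, h, one_pow], h⟩
          rw [hsum] at h1
          exact (Nat.dvd_add_left hA).mp (Dvd.dvd.trans (Dvd.intro _ rfl) h1)
    exact fun m hm => key _ m hm rfl

/-- **Frobenius' theorem**: if `m ∣ |G|` then `m` divides the number of solutions of `g ^ m = 1`. -/
theorem frobenius_dvd_card_pow_eq_one {G : Type u} [Group G] [Finite G] (m : ℕ)
    (hm : m ∣ Nat.card G) : m ∣ Nat.card {g : G // g ^ m = 1} :=
  frobenius_aux (Nat.card G) G rfl m hm

theorem frobenius_gcd_dvd_card_pow_eq_one {G : Type u} [Group G] [Finite G] (m : ℕ) :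
    Nat.gcd m (Nat.card G) ∣ Nat.card {g : G // g ^ m = 1} :=
  frobenius_gcd_form (fun m hm => frobenius_dvd_card_pow_eq_one m hm) m

end Cfsg.Agent.Helper22
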