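import Mathlib
import Cfsg.Agent.Helper22.FrobCount

set_option autoImplicit false

namespace Cfsg.Agent.Helper22

universe u

theorem dvd_index_mul_card_mem_pow_eq_one {G : Type u} [Group G] [Finite G] (H : Subgroup G)
    (t : ℕ) (ht : t ∣ Nat.card G) :
    t ∣ H.index * Nat.card {z : G // z ∈ H ∧ z ^ t = 1} := by
  have h8 := frobenius_gcd_dvd_card_pow_eq_one (G := ↥H) t
  rw [card_mem_and_pow_eq_one]
  have h9 : t ∣ H.index * Nat.gcd t (Nat.card H) := by
    rw [← Nat.gcd_mul_left]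
    apply Nat.dvd_gcd (Dvd.intro_left _ rfl)
    rw [mul_comm, Subgroup.card_mul_index]; exact ht
  exact Dvd.dvd.trans h9 (Nat.mul_dvd_mul_left _ h8)

theorem coprime_div_gcd_pow {N n : ℕ} (hN : 0 < N) :
    Nat.Coprime n (N / Nat.gcd N (n ^ N)) := by
  rw [Nat.coprime_iff_gcd_eq_one]
  by_contra hne
  obtain ⟨q, hq, hqd⟩ := Nat.exists_prime_and_dvd hne
  have hqn : q ∣ n := Dvd.dvd.trans hqd (Nat.gcd_dvd_left _ _)
  have hqt : q ∣ N / Nat.gcd N (n ^ N) := Dvd.dvd.trans hqd (Nat.gcd_dvd_right _ _)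
  have hMN : Nat.gcd N (n ^ N) ∣ N := Nat.gcd_dvd_left _ _
  have h2 : q ^ (N.factorization q) ∣ Nat.gcd N (n ^ N) := by
    apply Nat.dvd_gcd (Nat.ordProj_dvd N q)
    have h3 : N.factorization q ≤ N := (Nat.factorization_lt q hN.ne').le
    exact Dvd.dvd.trans (pow_dvd_pow q h3) (pow_dvd_pow_of_dvd hqn N)
  generalize Nat.gcd N (n ^ N) = M at hqt hMN h2
  have h1 : q * M ∣ N := by
    obtain ⟨c, hc⟩ := hqt
    have := Nat.div_mul_cancel hMN
    rw [hc] at this
    exact ⟨c, by rw [← this]; ring⟩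
  have h4 : q ^ (N.factorization q + 1) ∣ N := by
    rw [pow_succ, mul_comm]
    exact Dvd.dvd.trans (Nat.mul_dvd_mul_left q h2) h1
  exact Nat.pow_succ_factorization_not_dvd hN.ne' hq h4

/-- The number of elements whose order is divisible by `n` is divisible by the `n'`-part of the
group order. -/
theorem dvd_card_dvd_orderOf {G : Type u} [Group G] [Finite G] (n : ℕ) :
    (Nat.card G / Nat.gcd (Nat.card G) (n ^ Nat.card G)) ∣ Nat.card {g : G // n ∣ orderOf g} := by
  obtain ⟨N, hN⟩ : ∃ N, N = Nat.card G := ⟨_, rfl⟩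
  rw [← hN]
  have hNpos : 0 < N := by rw [hN]; exact Nat.card_pos
  obtain ⟨M, hM⟩ : ∃ M, M = Nat.gcd N (n ^ N) := ⟨_, rfl⟩
  obtain ⟨t, ht⟩ : ∃ t, t = N / M := ⟨_, rfl⟩
  rw [← hM, ← ht]
  have hMN : M ∣ N := by rw [hM]; exact Nat.gcd_dvd_left _ _
  have hMt : M * t = N := by rw [ht]; exact Nat.mul_div_cancel' hMN
  have hnt : Nat.Coprime n t := by rw [ht, hM]; exact coprime_div_gcd_pow hNpos
  have hcop : Nat.Coprime M t := by
    have h1 : M ∣ n ^ N := by rw [hM]; exact Nat.gcd_dvd_right _ _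
    exact Nat.Coprime.coprime_dvd_left h1 (Nat.Coprime.pow_left N hnt)
  have e0 : Nat.card {g : G // n ∣ orderOf g} =
      Nat.card {x : G // x ^ (M * t) = 1 ∧ n ∣ orderOf x} := by
    apply Nat.card_congr
    apply Equiv.subtypeEquivRight
    intro x
    constructor
    · intro h
      exact ⟨by rw [hMt, hN]; exact pow_card_eq_one', h⟩
    · intro h; exact h.2
  rw [e0]
  apply dvd_card_split M t hcop (fun y => n ∣ orderOf y) (fun x => n ∣ orderOf x) t
  · intro g y hy
    have : orderOf (g * y * g⁻¹) = orderOf y := (MulAut.conj g).orderOf_eq y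
    rw [this]; exact hy
  · intro y z hy hz hc
    have h1 : orderOf y ∣ M := orderOf_dvd_of_pow_eq_one hy
    have h2 : orderOf z ∣ t := orderOf_dvd_of_pow_eq_one hz
    have h3 : Nat.Coprime (orderOf y) (orderOf z) :=
      Nat.Coprime.coprime_dvd_left h1 (Nat.Coprime.coprime_dvd_right h2 hcop)
    rw [hc.orderOf_mul_eq_mul_orderOf_of_coprime h3]
    constructor
    · intro h
      exact (Nat.Coprime.coprime_dvd_right h2 hnt).dvd_of_dvd_mul_right h
    · intro h
      exact Dvd.dvd.mul_right h _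
  · intro y _ _
    apply dvd_index_mul_card_mem_pow_eq_one
    rw [← hN]; exact Dvd.intro_left _ hMt

end Cfsg.Agent.Helper22
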