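import Mathlib

set_option autoImplicit false

namespace Cfsg.Agent.Helper22

universe u v

theorem derivedSeries_succ_le_map {G : Type*} [Group G] (H : Subgroup G) (hH : commutator G ≤ H)
    (k : ℕ) : derivedSeries G (k + 1) ≤ (derivedSeries H k).map H.subtype := by
  induction k with
  | zero =>
    rw [derivedSeries_zero, ← MonoidHom.range_eq_map, Subgroup.range_subtype]
    exact hH
  | succ k ih =>
    rw [derivedSeries_succ, derivedSeries_succ (G := H), Subgroup.map_commutator]
    exact Subgroup.commutator_mono ih ih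

theorem derivedSeries_commutator_shift (W : Type*) [Group W] (j : ℕ) :
    (derivedSeries ↥(commutator W) j).map (commutator W).subtype = derivedSeries W (j + 1) := by
  induction j with
  | zero =>
    rw [derivedSeries_zero, ← MonoidHom.range_eq_map, Subgroup.range_subtype]
    rfl
  | succ j ih =>
    rw [derivedSeries_succ, Subgroup.map_commutator, ih, ← derivedSeries_succ]

/-- Elements of the `log_p |Ω|`-th derived subgroup of a `p`-group acting on `Ω` act trivially. -/
theorem derived_fixes (p : ℕ) [hpf : Fact p.Prime] : ∀ (N : ℕ) (P : Type u) [Group P] [Finite P]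
    (Ω : Type v) [Finite Ω] [MulAction P Ω], IsPGroup p P → Nat.card Ω ≤ N →
    ∀ x ∈ derivedSeries P (Nat.log p (Nat.card Ω)), ∀ ω : Ω, x • ω = ω := by
  have hp := hpf.out
  intro N
  induction N with
  | zero =>
    intro P _ _ Ω _ _ hP hcard x hx ω
    exfalso
    have : 0 < Nat.card Ω := Nat.card_pos_iff.mpr ⟨⟨ω⟩, inferInstance⟩
    omega
  | succ N ih =>
    intro P _ _ Ω _ _ hP hcard x hx ω
    by_cases hS : MulAction.stabilizer P ω = ⊤
    · have : x ∈ MulAction.stabilizer P ω := hS ▸ Subgroup.mem_top x
      exact this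
    · obtain ⟨j, hj⟩ := hP.index (MulAction.stabilizer P ω)
      have hj0 : j ≠ 0 := by
        rintro rfl
        rw [pow_zero, Subgroup.index_eq_one] at hj
        exact hS hj
      have horb : p ^ j ≤ Nat.card Ω := by
        rw [← hj, MulAction.index_stabilizer, ← Nat.card_coe_set_eq]
        exact Finite.card_subtype_le _
      have hxj : x ∈ derivedSeries P j := by
        have h1 : j ≤ Nat.log p (Nat.card Ω) := by
          have := Nat.log_mono_right (b := p) horb
          rwa [Nat.log_pow hp.one_lt] at this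
        exact derivedSeries_antitone P h1 hx
      obtain ⟨a, ha⟩ := IsPGroup.iff_card.mp hP
      obtain ⟨s, hs⟩ := IsPGroup.iff_card.mp (hP.to_subgroup (MulAction.stabilizer P ω))
      have hsa : a = s + j := by
        have h1 := Subgroup.card_mul_index (MulAction.stabilizer P ω)
        rw [hs, hj, ha, ← pow_add] at h1
        exact (Nat.pow_right_injective hp.two_le h1).symm
      have ha0 : a ≠ 0 := by omega
      obtain ⟨K, hKcard, hSK⟩ := Sylow.exists_subgroup_card_pow_prime_le p
        (n := s) (m := a - 1) (by rw [ha]; exact pow_dvd_pow p (by omega))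
        (MulAction.stabilizer P ω) hs (by omega)
      have hKidx : K.index = p := by
        have h1 := Subgroup.card_mul_index K
        rw [hKcard, ha] at h1
        have h2 : p ^ a = p ^ (a - 1) * p := by
          rw [← pow_succ]; congr 1; omega
        rw [h2] at h1
        exact Nat.eq_of_mul_eq_mul_left (pow_pos hp.pos _) h1
      haveI hKn : K.Normal := by
        apply Subgroup.normal_of_index_eq_minFac_card
        rw [hKidx, ha, Nat.pow_minFac ha0, Nat.Prime.minFac_eq hp]
      have hcomm : commutator P ≤ K := by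
        haveI : IsCyclic (P ⧸ K) := isCyclic_of_prime_card (p := p) (by
          have : Nat.card (P ⧸ K) = K.index := rfl
          rw [this, hKidx])
        letI : CommGroup (P ⧸ K) := IsCyclic.commGroup
        have := Abelianization.commutator_subset_ker (QuotientGroup.mk' K)
        rwa [QuotientGroup.ker_mk'] at this
      obtain ⟨j', rfl⟩ : ∃ j', j = j' + 1 := ⟨j - 1, by omega⟩
      have hx' := derivedSeries_succ_le_map K hcomm j' hxj
      obtain ⟨y, hy, hyx⟩ := Subgroup.mem_map.mp hx'
      have hstab : MulAction.stabilizer K ω = (MulAction.stabilizer P ω).subgroupOf K := by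
        ext y
        rfl
      have hO' : Nat.card (MulAction.orbit K ω) = p ^ j' := by
        rw [Nat.card_coe_set_eq, ← MulAction.index_stabilizer, hstab]
        have h1 := Subgroup.relIndex_mul_index hSK
        rw [hKidx, hj, pow_succ] at h1
        exact Nat.eq_of_mul_eq_mul_right hp.pos h1
      have hO'N : Nat.card (MulAction.orbit K ω) ≤ N := by
        have h1 : p ^ j' < p ^ (j' + 1) := Nat.pow_lt_pow_right hp.one_lt (by omega)
        rw [hO']; omega
      have hy' : y ∈ derivedSeries K (Nat.log p (Nat.card (MulAction.orbit K ω))) := by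
        rw [hO', Nat.log_pow hp.one_lt]; exact hy
      have h1 := ih K (MulAction.orbit K ω) (hP.to_subgroup K) hO'N y hy'
        ⟨ω, MulAction.mem_orbit_self ω⟩
      have h2 : y • ω = ω := congrArg Subtype.val h1
      rw [← hyx]
      exact h2

open RegularWreathProduct in
theorem wreath_derived {D Q : Type*} [Group D] [Group Q] (hQ : ∀ a b : Q, a * b = b * a)
    (s : Q) (hs : s ≠ 1) (j : ℕ) (h : derivedSeries D j ≠ ⊥) :
    derivedSeries (D ≀ᵣ Q) (j + 1) ≠ ⊥ := by
  classical
  have hker : commutator (D ≀ᵣ Q) ≤ (rightHom : D ≀ᵣ Q →* Q).ker := by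
    rw [commutator_def, Subgroup.commutator_le]
    intro g₁ _ g₂ _
    rw [MonoidHom.mem_ker, map_commutatorElement, commutatorElement_eq_one_iff_commute]
    exact hQ _ _
  have hright : ∀ w : ↥(commutator (D ≀ᵣ Q)), w.1.right = 1 := fun w => hker w.2
  let ψ : ↥(commutator (D ≀ᵣ Q)) →* D :=
    { toFun := fun w => w.1.left 1
      map_one' := rfl
      map_mul' := by
        intro w₁ w₂
        show ((w₁.1 * w₂.1).left) 1 = w₁.1.left 1 * w₂.1.left 1
        rw [RegularWreathProduct.mul_left, hright w₁]
        simp }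
  have hsurj : Function.Surjective ψ := by
    intro d
    let f : D ≀ᵣ Q := ⟨Pi.mulSingle 1 d, 1⟩
    let t : D ≀ᵣ Q := inl s
    refine ⟨⟨f * t * f⁻¹ * t⁻¹, ?_⟩, ?_⟩
    · rw [commutator_def, ← commutatorElement_def]
      exact Subgroup.commutator_mem_commutator (Subgroup.mem_top _) (Subgroup.mem_top _)
    · show (f * t * f⁻¹ * t⁻¹).left 1 = d
      have hs' : s⁻¹ ≠ 1 := by simpa using hs
      simp [RegularWreathProduct.mul_left, RegularWreathProduct.inv_left,
        f, t, Pi.mulSingle_apply, hs']
  have h1 := map_derivedSeries_eq hsurj j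
  have h2 : derivedSeries ↥(commutator (D ≀ᵣ Q)) j ≠ ⊥ := by
    intro h0
    rw [h0, Subgroup.map_bot] at h1
    exact h h1.symm
  rw [← derivedSeries_commutator_shift]
  intro h0
  rw [Subgroup.map_eq_bot_iff_of_injective _ (Subgroup.subtype_injective _)] at h0
  exact h2 h0

theorem iterated_derived (Q : Type u) [Group Q] (hQ : ∀ a b : Q, a * b = b * a) (s : Q)
    (hs : s ≠ 1) : ∀ k : ℕ, derivedSeries (IteratedWreathProduct Q (k + 1)) k ≠ ⊥ := by
  intro k
  induction k with
  | zero =>
    rw [derivedSeries_zero]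
    haveI : Nontrivial (IteratedWreathProduct Q (0 + 1)) :=
      ⟨⟨(RegularWreathProduct.inl s : IteratedWreathProduct Q 0 ≀ᵣ Q), 1, fun h => hs (by
        have := congrArg RegularWreathProduct.right h
        exact this)⟩⟩
    exact top_ne_bot
  | succ k ih =>
    exact wreath_derived (D := IteratedWreathProduct Q (k + 1)) (Q := Q) hQ s hs k ih

/-- A Sylow `p`-subgroup of `Perm (Fin n)` has nontrivial `(log_p n - 1)`-st derived subgroup. -/
theorem sylow_perm_derived_ne_bot (p : ℕ) [hpf : Fact p.Prime] (n : ℕ) (k : ℕ)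
    (hk : p ^ (k + 1) ≤ n) (P : Sylow p (Equiv.Perm (Fin n))) :
    derivedSeries ↥(P : Subgroup (Equiv.Perm (Fin n))) k ≠ ⊥ := by
  classical
  have hp := hpf.out
  let Q := Multiplicative (ZMod p)
  haveI : NeZero p := ⟨hp.ne_zero⟩
  have hQcard : Nat.card Q = p := by
    show Nat.card (Multiplicative (ZMod p)) = p
    rw [Nat.card_eq_fintype_card, Fintype.card_multiplicative, ZMod.card]
  have hQcomm : ∀ a b : Q, a * b = b * a := fun a b => mul_comm a b
  obtain ⟨s, hs⟩ : ∃ s : Q, s ≠ 1 := by
    haveI : Nontrivial Q := by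
      rw [← Finite.one_lt_card_iff_nontrivial, hQcard]; exact hp.one_lt
    exact exists_ne 1
  let W := IteratedWreathProduct Q (k + 1)
  have hW : derivedSeries W k ≠ ⊥ := iterated_derived Q hQcomm s hs k
  have hWp : IsPGroup p W := by
    apply IsPGroup.of_card (n := ∑ i ∈ Finset.range (k + 1), p ^ i)
    show Nat.card (IteratedWreathProduct Q (k + 1)) = _
    rw [IteratedWreathProduct.card, hQcard]
  have hcard : Fintype.card (Fin (k + 1) → Q) ≤ Fintype.card (Fin n) := by
    rw [Fintype.card_fin, ← Nat.card_eq_fintype_card, Nat.card_fun, Nat.card_fin, hQcard]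
    exact hk
  obtain ⟨ι⟩ := Function.Embedding.nonempty_of_card_le hcard
  let f₁ : W →* Equiv.Perm (Fin n) :=
    (Equiv.Perm.viaEmbeddingHom ι).comp (iteratedWreathToPermHom Q (k + 1))
  have hf₁ : Function.Injective f₁ :=
    (Equiv.Perm.viaEmbeddingHom_injective ι).comp (iteratedWreathToPermHomInj Q (k + 1))
  have hrange : IsPGroup p f₁.range := hWp.of_equiv (MonoidHom.ofInjective hf₁)
  obtain ⟨P', hP'⟩ := hrange.exists_le_sylow
  let φ : W →* ↥(P : Subgroup (Equiv.Perm (Fin n))) :=
    (P'.equiv P).toMonoidHom.comp ((Subgroup.inclusion hP').comp f₁.rangeRestrict)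
  have hφ : Function.Injective φ := by
    apply (MulEquiv.injective _).comp
    apply (Subgroup.inclusion_injective hP').comp
    exact MonoidHom.rangeRestrict_injective_iff.mpr hf₁
  obtain ⟨w, hw1⟩ := (Subgroup.ne_bot_iff_exists_ne_one.mp hW)
  intro h0
  have h1 : φ w ∈ derivedSeries ↥(P : Subgroup (Equiv.Perm (Fin n))) k :=
    map_derivedSeries_le_derivedSeries φ k (Subgroup.mem_map_of_mem φ w.2)
  rw [h0, Subgroup.mem_bot] at h1
  have h2 : (w : W) = 1 := hφ (h1.trans (map_one φ).symm)
  exact hw1 (Subtype.ext h2)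

end Cfsg.Agent.Helper22
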