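import Mathlib
import Cfsg.Agent.Helper22.PermDerived

set_option autoImplicit false

namespace Cfsg.Agent.Helper22

universe u v w

section

variable {K : Type u} [Field K] {V : Type v} [AddCommGroup V] [Module K V] {Q : Type w} [Group Q]

theorem rep_mul_inv (ρ : Q →* Module.End K V) (g : Q) : ρ g * ρ g⁻¹ = 1 := by
  rw [← map_mul, mul_inv_cancel, map_one]

theorem rep_inv_mul (ρ : Q →* Module.End K V) (g : Q) : ρ g⁻¹ * ρ g = 1 := by
  rw [← map_mul, inv_mul_cancel, map_one]

theorem rep_inv_apply (ρ : Q →* Module.End K V) (g : Q) (v : V) : ρ g⁻¹ (ρ g v) = v := by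
  have h := congrArg (fun f : Module.End K V => f v) (rep_inv_mul ρ g)
  exact h

theorem rep_apply_inv (ρ : Q →* Module.End K V) (g : Q) (v : V) : ρ g (ρ g⁻¹ v) = v := by
  have h := congrArg (fun f : Module.End K V => f v) (rep_mul_inv ρ g)
  exact h

theorem rep_injective (ρ : Q →* Module.End K V) (g : Q) : Function.Injective (ρ g) := by
  intro v w h
  have h1 := congrArg (ρ g⁻¹) h
  rwa [rep_inv_apply, rep_inv_apply] at h1

theorem monoid_commute_inv {M : Type*} [Monoid M] {a a' y : M} (h1 : a * a' = 1)
    (h2 : a' * a = 1) (h : a * y = y * a) : a' * y = y * a' := by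
  calc a' * y = a' * (y * a) * a' := by rw [mul_assoc, mul_assoc, h1, mul_one]
    _ = a' * (a * y) * a' := by rw [h]
    _ = (a' * a) * y * a' := by simp only [mul_assoc]
    _ = y * a' := by rw [h2, one_mul]

/-- The restriction of a representation to an invariant subspace. -/
noncomputable def restrictRep (ρ : Q →* Module.End K V) (E : Submodule K V)
    (hE : ∀ g : Q, ∀ v ∈ E, ρ g v ∈ E) : Q →* Module.End K E where
  toFun g := (ρ g).restrict (hE g)
  map_one' := by
    ext v
    show ρ 1 (v : V) = v
    rw [map_one]; rfl
  map_mul' g h := by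
    ext v
    show ρ (g * h) (v : V) = ρ g (ρ h (v : V))
    rw [map_mul]; rfl

theorem restrictRep_apply (ρ : Q →* Module.End K V) (E : Submodule K V)
    (hE : ∀ g : Q, ∀ v ∈ E, ρ g v ∈ E) (g : Q) (v : E) :
    ((restrictRep ρ E hE g v : E) : V) = ρ g (v : V) := rfl

/-- An endomorphism fixing all eigenvectors of a diagonalizable `T` is the identity. -/
theorem eq_one_of_fix_eigenspaces (T u : Module.End K V) (hT : ⨆ μ : K, T.eigenspace μ = ⊤)
    (h : ∀ μ : K, ∀ v ∈ T.eigenspace μ, u v = v) : u = 1 := by
  have h1 : ⨆ μ : K, T.eigenspace μ ≤ LinearMap.eqLocus u (1 : Module.End K V) := by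
    apply iSup_le
    intro μ v hv
    rw [LinearMap.mem_eqLocus]
    exact h μ v hv
  rw [hT] at h1
  ext v
  exact LinearMap.mem_eqLocus.mp (h1 (Submodule.mem_top))

/-- Elements of a finite `p`-group act diagonalizably in characteristic not `p`. -/
theorem rep_diagonalizable [IsAlgClosed K] [FiniteDimensional K V] (p : ℕ)
    (hpK : (p : K) ≠ 0) (hQ : IsPGroup p Q) (ρ : Q →* Module.End K V) (x : Q) :
    ⨆ μ : K, (ρ x).eigenspace μ = ⊤ := by
  obtain ⟨k, hk⟩ := hQ x
  have h1 : (ρ x) ^ (p ^ k) = 1 := by rw [← map_pow, hk, map_one]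
  have hss : (ρ x).IsSemisimple := by
    apply Module.End.isSemisimple_of_squarefree_aeval_eq_zero
      (p := Polynomial.X ^ (p ^ k) - Polynomial.C 1)
    · apply Polynomial.Separable.squarefree
      apply Polynomial.separable_X_pow_sub_C
      · rw [Nat.cast_pow]; exact pow_ne_zero _ hpK
      · exact one_ne_zero
    · simp [h1]
  exact hss.iSup_eigenspace_eq_top

end

/-- In characteristic different from `p`, over an algebraically closed field, the
`(⌊log₂ n⌋ + 1)`-th derived subgroup of a finite `p`-group acts trivially on any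
`n`-dimensional representation. -/
theorem derived_trivial_of_char_ne (p : ℕ) [hpf : Fact p.Prime] (K : Type u) [Field K]
    [IsAlgClosed K] (hpK : (p : K) ≠ 0) :
    ∀ (n : ℕ) (V : Type v) [AddCommGroup V] [Module K V] [FiniteDimensional K V] (Q : Type w)
      [Group Q] [Finite Q], IsPGroup p Q → Module.finrank K V ≤ n →
      ∀ (ρ : Q →* Module.End K V),
      ∀ g ∈ derivedSeries Q (Nat.log 2 (Module.finrank K V) + 1), ρ g = 1 := by
  intro n
  induction n with
  | zero =>
    intro V _ _ _ Q _ _ hQ hn ρ g _
    have h0 : Module.finrank K V = 0 := Nat.le_zero.mp hn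
    haveI : Subsingleton V := Module.finrank_zero_iff.mp h0
    ext v
    exact Subsingleton.elim _ _
  | succ n ih =>
    intro V _ _ _ Q _ _ hQ hn ρ g hg
    classical
    obtain ⟨d, hd⟩ : ∃ d, d = Module.finrank K V := ⟨_, rfl⟩
    rw [← hd] at hg hn
    have hdiag := fun x => rep_diagonalizable p hpK hQ ρ x
    by_cases ha : ∀ x y : Q, ρ x * ρ y = ρ y * ρ x
    · -- abelian image
      have h1 : derivedSeries Q (Nat.log 2 d + 1) ≤ derivedSeries Q 1 :=
        derivedSeries_antitone Q (by omega)
      have h2 : g ∈ commutator Q := by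
        have := h1 hg
        rwa [derivedSeries_one] at this
      have h3 : commutator Q ≤ (ρ.toHomUnits).ker := by
        rw [commutator_def, Subgroup.commutator_le]
        intro x _ y _
        rw [MonoidHom.mem_ker, commutatorElement_def, map_mul, map_mul, map_mul, map_inv, map_inv]
        have hc : ρ.toHomUnits x * ρ.toHomUnits y = ρ.toHomUnits y * ρ.toHomUnits x := by
          apply Units.ext
          simp only [Units.val_mul, MonoidHom.coe_toHomUnits]
          exact ha x y
        rw [hc, mul_assoc, mul_assoc, mul_inv_cancel_left, mul_inv_cancel]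
      have h4 := h3 h2
      rw [MonoidHom.mem_ker] at h4
      have h5 := congrArg Units.val h4
      rwa [MonoidHom.coe_toHomUnits] at h5
    · by_cases hb : ∃ z : Q, (∀ y, ρ z * ρ y = ρ y * ρ z) ∧
          ¬ ∃ c : K, ρ z = c • (1 : Module.End K V)
      · obtain ⟨z, hz1, hz2⟩ := hb
        apply eq_one_of_fix_eigenspaces (ρ z) (ρ g) (hdiag z)
        intro μ v hv
        have hE : ∀ y : Q, ∀ v ∈ (ρ z).eigenspace μ, ρ y v ∈ (ρ z).eigenspace μ := by
          intro y v hv
          rw [Module.End.mem_eigenspace_iff] at hv ⊢
          have h1 := congrArg (fun f : Module.End K V => f v) (hz1 y)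
          simp only [Module.End.mul_apply] at h1
          rw [h1, hv, map_smul]
        have hEne : (ρ z).eigenspace μ ≠ ⊤ := by
          intro htop
          apply hz2
          refine ⟨μ, ?_⟩
          ext v
          have hv : v ∈ (ρ z).eigenspace μ := by rw [htop]; trivial
          rw [Module.End.mem_eigenspace_iff] at hv
          rw [hv]; rfl
        have hlt : Module.finrank K ((ρ z).eigenspace μ) < Module.finrank K V :=
          Submodule.finrank_lt hEne
        rw [← hd] at hlt
        have hle : Module.finrank K ((ρ z).eigenspace μ) ≤ n := by omega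
        have hmono : derivedSeries Q (Nat.log 2 d + 1) ≤
            derivedSeries Q (Nat.log 2 (Module.finrank K ((ρ z).eigenspace μ)) + 1) := by
          apply derivedSeries_antitone
          have := Nat.log_mono_right (b := 2) (le_of_lt hlt)
          omega
        have h1 := ih ((ρ z).eigenspace μ) Q hQ hle (restrictRep ρ _ hE) g (hmono hg)
        have h2 := congrArg (fun f : Module.End K ((ρ z).eigenspace μ) =>
          ((f ⟨v, hv⟩ : (ρ z).eigenspace μ) : V)) h1
        exact h2
      · push Not at ha hb
        obtain ⟨x₀, y₀, hxy⟩ := ha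
        let Z₁ : Subgroup Q :=
          { carrier := {z | ∀ y, ρ z * ρ y = ρ y * ρ z}
            mul_mem' := by
              intro a b ha hb y
              have ha' := ha y
              have hb' := hb y
              rw [map_mul, mul_assoc, hb', ← mul_assoc, ha', mul_assoc]
            one_mem' := by intro y; rw [map_one, one_mul, mul_one]
            inv_mem' := by
              intro a ha y
              exact monoid_commute_inv (rep_mul_inv ρ a) (rep_inv_mul ρ a) (ha y) }
        have hZ₁mem : ∀ z, z ∈ Z₁ ↔ ∀ y, ρ z * ρ y = ρ y * ρ z := fun z => Iff.rfl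
        haveI hZ₁n : Z₁.Normal := by
          constructor
          intro z hz h
          rw [hZ₁mem] at hz ⊢
          intro y
          have e : ρ (h * z * h⁻¹) = ρ z := by
            rw [map_mul, map_mul, ← hz h, mul_assoc, rep_mul_inv, mul_one]
          rw [e]; exact hz y
        have hx₀ : x₀ ∉ Z₁ := fun h => hxy ((hZ₁mem x₀).mp h y₀)
        haveI : Nontrivial (Q ⧸ Z₁) :=
          ⟨⟨QuotientGroup.mk x₀, 1, fun h => hx₀ ((QuotientGroup.eq_one_iff x₀).mp h)⟩⟩
        have hQZ : IsPGroup p (Q ⧸ Z₁) := hQ.to_quotient Z₁
        haveI := hQZ.center_nontrivial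
        obtain ⟨⟨xb, hxb⟩, hxb1⟩ := exists_ne (1 : Subgroup.center (Q ⧸ Z₁))
        obtain ⟨x, rfl⟩ := QuotientGroup.mk_surjective xb
        have hxZ : x ∉ Z₁ := by
          intro h
          apply hxb1
          apply Subtype.ext
          exact (QuotientGroup.eq_one_iff x).mpr h
        have hcomm : ∀ g' : Q, g' * x * g'⁻¹ * x⁻¹ ∈ Z₁ := by
          intro g'
          rw [← QuotientGroup.eq_one_iff, QuotientGroup.mk_mul, QuotientGroup.mk_mul,
            QuotientGroup.mk_mul, QuotientGroup.mk_inv, QuotientGroup.mk_inv]
          have h1 := Subgroup.mem_center_iff.mp hxb (QuotientGroup.mk g')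
          rw [h1, mul_assoc (QuotientGroup.mk x : Q ⧸ Z₁), mul_inv_cancel, mul_one, mul_inv_cancel]
        have hscal : ∀ g' : Q, ∃ c : K, ρ g' * ρ x = c • (ρ x * ρ g') := by
          intro g'
          obtain ⟨c, hc⟩ := hb _ ((hZ₁mem _).mp (hcomm g'))
          refine ⟨c, ?_⟩
          have e : g' * x = (g' * x * g'⁻¹ * x⁻¹) * (x * g') := by group
          rw [← map_mul, e, map_mul, hc, map_mul, smul_mul_assoc, one_mul]
        let C : Subgroup Q :=
          { carrier := {g' | ρ g' * ρ x = ρ x * ρ g'}
            mul_mem' := by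
              intro a b ha hb
              have ha' : ρ a * ρ x = ρ x * ρ a := ha
              have hb' : ρ b * ρ x = ρ x * ρ b := hb
              show ρ (a * b) * ρ x = ρ x * ρ (a * b)
              rw [map_mul, mul_assoc, hb', ← mul_assoc, ha', mul_assoc]
            one_mem' := by
              show ρ 1 * ρ x = ρ x * ρ 1
              rw [map_one, one_mul, mul_one]
            inv_mem' := by
              intro a ha
              have ha' : ρ a * ρ x = ρ x * ρ a := ha
              exact monoid_commute_inv (rep_mul_inv ρ a) (rep_inv_mul ρ a) ha' }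
        have hCmem : ∀ g', g' ∈ C ↔ ρ g' * ρ x = ρ x * ρ g' := fun _ => Iff.rfl
        have hscalmul : ∀ (u u' : Module.End K V) (c c' : K), u * ρ x = c • (ρ x * u) →
            u' * ρ x = c' • (ρ x * u') → (u * u') * ρ x = (c * c') • (ρ x * (u * u')) := by
          intro u u' c c' h h'
          calc (u * u') * ρ x = u * (u' * ρ x) := mul_assoc _ _ _
            _ = u * (c' • (ρ x * u')) := by rw [h']
            _ = c' • ((u * ρ x) * u') := by rw [mul_smul_comm, mul_assoc]
            _ = c' • ((c • (ρ x * u)) * u') := by rw [h]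
            _ = (c * c') • (ρ x * (u * u')) := by
                rw [smul_mul_assoc, smul_smul, mul_assoc, mul_comm c' c]
        have hcommC : commutator Q ≤ C := by
          rw [commutator_def, Subgroup.commutator_le]
          intro g₁ _ g₂ _
          rw [hCmem, commutatorElement_def]
          obtain ⟨c₁, h₁⟩ := hscal g₁
          obtain ⟨c₂, h₂⟩ := hscal g₂
          obtain ⟨c₁', h₁'⟩ := hscal g₁⁻¹
          obtain ⟨c₂', h₂'⟩ := hscal g₂⁻¹
          have e1 : (c₁ * c₁') • ρ x = ρ x := by
            have := hscalmul _ _ _ _ h₁ h₁'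
            rw [rep_mul_inv, one_mul, mul_one] at this
            exact this.symm
          have e2 : (c₂ * c₂') • ρ x = ρ x := by
            have := hscalmul _ _ _ _ h₂ h₂'
            rw [rep_mul_inv, one_mul, mul_one] at this
            exact this.symm
          have h12 := hscalmul _ _ _ _ h₁ h₂
          have h12' := hscalmul _ _ _ _ h₁' h₂'
          have hall := hscalmul _ _ _ _ h12 h12'
          have e3 : ρ (g₁ * g₂ * g₁⁻¹ * g₂⁻¹) = ρ g₁ * ρ g₂ * (ρ g₁⁻¹ * ρ g₂⁻¹) := by
            rw [map_mul, map_mul, map_mul, mul_assoc]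
          rw [e3, hall]
          have e4 : c₁ * c₂ * (c₁' * c₂') = (c₁ * c₁') * (c₂ * c₂') := by ring
          rw [e4, ← smul_mul_assoc, mul_smul, e2, e1]
        obtain ⟨g₀, hg₀⟩ : ∃ g₀ : Q, ρ g₀ * ρ x ≠ ρ x * ρ g₀ := by
          by_contra hcon
          push Not at hcon
          exact hxZ ((hZ₁mem x).mpr (fun y => (hcon y).symm))
        have hdim : ∀ μ : K, 2 * Module.finrank K ((ρ x).eigenspace μ) ≤ d := by
          intro μ
          by_cases hbot : (ρ x).eigenspace μ = ⊥
          · rw [hbot, finrank_bot]; omega
          · obtain ⟨c', hc'⟩ := hscal g₀⁻¹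
            have hT : ρ x * ρ g₀ = c' • (ρ g₀ * ρ x) := by
              calc ρ x * ρ g₀ = ρ g₀ * (ρ g₀⁻¹ * ρ x) * ρ g₀ := by
                    rw [← mul_assoc, rep_mul_inv, one_mul]
                _ = ρ g₀ * (c' • (ρ x * ρ g₀⁻¹)) * ρ g₀ := by rw [hc']
                _ = c' • (ρ g₀ * ρ x) := by
                    rw [mul_smul_comm, smul_mul_assoc, mul_assoc, mul_assoc, rep_inv_mul, mul_one]
            have hc'1 : c' ≠ 1 := by
              intro h
              rw [h, one_smul] at hT
              exact hg₀ hT.symm
            obtain ⟨v₀, hv₀, hv₀0⟩ := (Submodule.ne_bot_iff _).mp hbot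
            have hμ0 : μ ≠ 0 := by
              intro h
              rw [h, Module.End.mem_eigenspace_iff, zero_smul] at hv₀
              apply hv₀0
              have h1 := congrArg (ρ x⁻¹) hv₀
              rwa [map_zero, rep_inv_apply] at h1
            have hmap : ∀ v ∈ (ρ x).eigenspace μ, ρ g₀ v ∈ (ρ x).eigenspace (c' * μ) := by
              intro v hv
              rw [Module.End.mem_eigenspace_iff] at hv ⊢
              have h1 := congrArg (fun f : Module.End K V => f v) hT
              simp only [Module.End.mul_apply, LinearMap.smul_apply] at h1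
              rw [h1, hv, map_smul, smul_smul]
            have hdisj : (ρ x).eigenspace μ ⊓ (ρ x).eigenspace (c' * μ) = ⊥ := by
              rw [eq_bot_iff]
              intro v hv
              obtain ⟨h1, h2⟩ := Submodule.mem_inf.mp hv
              rw [Module.End.mem_eigenspace_iff] at h1 h2
              rw [Submodule.mem_bot]
              have h3 : (c' * μ - μ) • v = 0 := by rw [sub_smul, ← h1, ← h2, sub_self]
              rcases smul_eq_zero.mp h3 with h4 | h4
              · exfalso
                have h5 : (c' - 1) * μ = 0 := by rw [sub_mul, one_mul]; exact h4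
                rcases mul_eq_zero.mp h5 with h6 | h6
                · exact hc'1 (sub_eq_zero.mp h6)
                · exact hμ0 h6
              · exact h4
            have hinj : Module.finrank K ((ρ x).eigenspace μ) ≤
                Module.finrank K ((ρ x).eigenspace (c' * μ)) := by
              apply LinearMap.finrank_le_finrank_of_injective (f := (ρ g₀).restrict hmap)
              intro a b hab
              apply Subtype.ext
              apply rep_injective ρ g₀
              exact congrArg Subtype.val hab
            have hsum := Submodule.finrank_sup_add_finrank_inf_eq ((ρ x).eigenspace μ)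
              ((ρ x).eigenspace (c' * μ))
            rw [hdisj, finrank_bot, add_zero] at hsum
            have hle := Submodule.finrank_le ((ρ x).eigenspace μ ⊔ (ρ x).eigenspace (c' * μ))
            omega
        have hEC : ∀ μ : K, ∀ c : C, ∀ v ∈ (ρ x).eigenspace μ,
            (ρ.comp C.subtype) c v ∈ (ρ x).eigenspace μ := by
          intro μ c v hv
          rw [Module.End.mem_eigenspace_iff] at hv ⊢
          have hc : ρ (c : Q) * ρ x = ρ x * ρ (c : Q) := (hCmem _).mp c.2
          have h1 := congrArg (fun f : Module.End K V => f v) hc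
          simp only [Module.End.mul_apply] at h1
          show ρ x (ρ (c : Q) v) = μ • ρ (c : Q) v
          rw [← h1, hv, map_smul]
        obtain ⟨c, hc, rfl⟩ := Subgroup.mem_map.mp
          (derivedSeries_succ_le_map C hcommC (Nat.log 2 d) hg)
        apply eq_one_of_fix_eigenspaces (ρ x) _ (hdiag x)
        intro μ v hv
        by_cases he : Module.finrank K ((ρ x).eigenspace μ) = 0
        · have hbot : (ρ x).eigenspace μ = ⊥ := Submodule.finrank_eq_zero.mp he
          rw [hbot, Submodule.mem_bot] at hv
          rw [hv, map_zero]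
        · have h2 := hdim μ
          have hle : Module.finrank K ((ρ x).eigenspace μ) ≤ n := by omega
          have hmono : derivedSeries C (Nat.log 2 d) ≤
              derivedSeries C (Nat.log 2 (Module.finrank K ((ρ x).eigenspace μ)) + 1) := by
            apply derivedSeries_antitone
            rw [← Nat.log_mul_base (by norm_num) he]
            exact Nat.log_mono_right (by omega)
          have h1 := ih ((ρ x).eigenspace μ) C (hQ.to_subgroup C) hle
            (restrictRep (ρ.comp C.subtype) _ (hEC μ)) c (hmono hc)
          have h3 := congrArg (fun f : Module.End K ((ρ x).eigenspace μ) =>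
            ((f ⟨v, hv⟩ : (ρ x).eigenspace μ) : V)) h1
          exact h3

end Cfsg.Agent.Helper22
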