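import Mathlib
import Cfsg.Agent.S0012
import Cfsg.Agent.Helper22.GLDer1

set_option autoImplicit false

namespace Cfsg.Agent.Helper22

universe u v w

open scoped commutatorElement

section

variable {F : Type u} [Field F] {V : Type v} [AddCommGroup V] [Module F V]

theorem rep_mul_apply {Q : Type w} [Group Q] (ρ : Q →* Module.End F V) (g h : Q) (v : V) :
    ρ (g * h) v = ρ g (ρ h v) := by
  rw [map_mul]; rfl

/-- In characteristic `p`, elements of a `p`-group act unipotently. -/
theorem rep_sub_one_nilpotent {Q : Type w} [Group Q] (p : ℕ) [hpf : Fact p.Prime]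
    (hpF : (p : F) = 0) (hQ : IsPGroup p Q) (ρ : Q →* Module.End F V) (x : Q) :
    ∃ m : ℕ, (ρ x - 1) ^ m = 0 := by
  obtain ⟨k, hk⟩ := hQ x
  refine ⟨p ^ k, ?_⟩
  haveI : CharP F p := (CharP.charP_iff_prime_eq_zero hpf.out).mpr hpF
  have h1 : (Polynomial.X - 1 : Polynomial F) ^ (p ^ k) = Polynomial.X ^ (p ^ k) - 1 := by
    rw [sub_pow_char_pow, one_pow]
  have h2 := congrArg (Polynomial.aeval (ρ x)) h1
  simp only [map_pow, map_sub, Polynomial.aeval_X, map_one] at h2
  rw [h2, ← map_pow, hk, map_one, sub_self]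

/-- Relative fixed vectors: a proper invariant subspace of a representation of a `p`-group in
characteristic `p` has a vector outside it that is fixed modulo it. -/
theorem exists_rel_fixed (p : ℕ) [hpf : Fact p.Prime] (hpF : (p : F) = 0) :
    ∀ (N : ℕ) (Q : Type w) [Group Q] [Finite Q], Nat.card Q ≤ N → IsPGroup p Q →
      ∀ (ρ : Q →* Module.End F V) (W : Submodule F V), (∀ g : Q, ∀ w ∈ W, ρ g w ∈ W) → W ≠ ⊤ →
      ∃ v, v ∉ W ∧ ∀ g : Q, ρ g v - v ∈ W := by
  intro N
  induction N with
  | zero =>
    intro Q _ _ hN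
    exfalso
    have : 0 < Nat.card Q := Nat.card_pos
    omega
  | succ N ih =>
    intro Q _ _ hN hQ ρ W hW hWtop
    classical
    by_cases htriv : Subsingleton Q
    · obtain ⟨v, hv⟩ : ∃ v, v ∉ W := by
        by_contra hcon
        push Not at hcon
        exact hWtop (eq_top_iff.mpr (fun v _ => hcon v))
      refine ⟨v, hv, fun g => ?_⟩
      have hg : g = 1 := Subsingleton.elim _ _
      rw [hg, map_one]
      simp
    · rw [not_subsingleton_iff_nontrivial] at htriv
      obtain ⟨M, hM⟩ : ∃ M : Subgroup Q, IsCoatom M := by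
        rcases eq_top_or_exists_le_coatom (⊥ : Subgroup Q) with h1 | ⟨M, hM, _⟩
        · exact absurd h1 bot_ne_top
        · exact ⟨M, hM⟩
      haveI hMn : M.Normal := Cfsg.Agent.S0012.coatom_normal p hQ M hM
      obtain ⟨g₀, hg₀⟩ : ∃ g₀ : Q, g₀ ∉ M := by
        by_contra hcon
        push Not at hcon
        exact hM.1 (eq_top_iff.mpr (fun g _ => hcon g))
      have hMcard : Nat.card M ≤ N := by
        have h2 := Subgroup.card_le_card_group M
        have h3 : Nat.card M ≠ Nat.card Q := fun h => hM.1 ((Subgroup.card_eq_iff_eq_top M).mp h)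
        omega
      let W' : Submodule F V := ⨅ m : M, W.comap (ρ (m : Q) - 1)
      have hW'mem : ∀ v, v ∈ W' ↔ ∀ m : M, ρ (m : Q) v - v ∈ W := by
        intro v
        simp only [W', Submodule.mem_iInf, Submodule.mem_comap, LinearMap.sub_apply,
          Module.End.one_apply]
      have hW'inv : ∀ h : Q, ∀ v ∈ W', ρ h v ∈ W' := by
        intro h v hv
        rw [hW'mem] at hv ⊢
        intro m
        have hm' : h⁻¹ * (m : Q) * h ∈ M := by
          have := hMn.conj_mem (m : Q) m.2 h⁻¹
          rwa [inv_inv] at this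
        have h1 := hv ⟨_, hm'⟩
        have h2 := hW h _ h1
        have e : ρ (m : Q) (ρ h v) - ρ h v = ρ h (ρ (h⁻¹ * (m : Q) * h) v - v) := by
          have e1 : (m : Q) * h = h * (h⁻¹ * (m : Q) * h) := by group
          calc ρ (m : Q) (ρ h v) - ρ h v = ρ ((m : Q) * h) v - ρ h v := by rw [rep_mul_apply]
            _ = ρ (h * (h⁻¹ * (m : Q) * h)) v - ρ h v := by rw [← e1]
            _ = ρ h (ρ (h⁻¹ * (m : Q) * h) v - v) := by rw [rep_mul_apply, map_sub]
        rw [e]; exact h2
      obtain ⟨v, hvW, hvM⟩ := ih M hMcard (hQ.to_subgroup M) (ρ.comp M.subtype) W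
        (fun m w hw => hW (m : Q) w hw) hWtop
      have hvW' : v ∈ W' := (hW'mem v).mpr hvM
      obtain ⟨k, hk⟩ := rep_sub_one_nilpotent p hpF hQ ρ g₀
      have hpowW' : ∀ j : ℕ, ((ρ g₀ - 1) ^ j) v ∈ W' := by
        intro j
        induction j with
        | zero => simpa using hvW'
        | succ j ihj =>
          rw [pow_succ', Module.End.mul_apply, LinearMap.sub_apply, Module.End.one_apply]
          exact W'.sub_mem (hW'inv g₀ _ ihj) ihj
      have hex : ∃ j : ℕ, ((ρ g₀ - 1) ^ (j + 1)) v ∈ W := by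
        refine ⟨k, ?_⟩
        rw [pow_succ, hk, zero_mul]
        simp
      obtain ⟨j, hjdef⟩ : ∃ j, j = Nat.find hex := ⟨_, rfl⟩
      have hj : ((ρ g₀ - 1) ^ (j + 1)) v ∈ W := by rw [hjdef]; exact Nat.find_spec hex
      have hj' : ((ρ g₀ - 1) ^ j) v ∉ W := by
        rcases Nat.eq_zero_or_pos j with h0 | hpos
        · rw [h0]; simpa using hvW
        · intro hcon
          have h1 := Nat.find_min hex (m := j - 1) (by omega)
          apply h1
          rw [Nat.sub_add_cancel hpos]
          exact hcon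
      obtain ⟨u, hu⟩ : ∃ u, u = ((ρ g₀ - 1) ^ j) v := ⟨_, rfl⟩
      have huW : u ∉ W := by rw [hu]; exact hj'
      have huW' : u ∈ W' := by rw [hu]; exact hpowW' j
      have hug₀ : ρ g₀ u - u ∈ W := by
        have h1 : ((ρ g₀ - 1) ^ (j + 1)) v = ρ g₀ u - u := by
          rw [pow_succ', Module.End.mul_apply, ← hu, LinearMap.sub_apply, Module.End.one_apply]
        rw [← h1]; exact hj
      let H : Subgroup Q :=
        { carrier := {h | ρ h u - u ∈ W}
          mul_mem' := by
            intro a b ha hb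
            have ha' : ρ a u - u ∈ W := ha
            have hb' : ρ b u - u ∈ W := hb
            show ρ (a * b) u - u ∈ W
            have e : ρ (a * b) u - u = ρ a (ρ b u - u) + (ρ a u - u) := by
              rw [rep_mul_apply, map_sub]; abel
            rw [e]
            exact W.add_mem (hW a _ hb') ha'
          one_mem' := by
            show ρ 1 u - u ∈ W
            rw [map_one]; simp
          inv_mem' := by
            intro a ha
            have ha' : ρ a u - u ∈ W := ha
            show ρ a⁻¹ u - u ∈ W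
            have e : ρ a⁻¹ u - u = - ρ a⁻¹ (ρ a u - u) := by
              rw [map_sub, rep_inv_apply]; abel
            rw [e]
            exact W.neg_mem (hW a⁻¹ _ ha') }
      have hHmem : ∀ h, h ∈ H ↔ ρ h u - u ∈ W := fun _ => Iff.rfl
      have hMH : M ≤ H := by
        intro m hm
        rw [hHmem]
        exact (hW'mem u).mp huW' ⟨m, hm⟩
      have hg₀H : g₀ ∈ H := (hHmem g₀).mpr hug₀
      have hHtop : H = ⊤ := by
        apply hM.2 H
        exact lt_of_le_of_ne hMH (fun h => hg₀ (h ▸ hg₀H))
      refine ⟨u, huW, fun g => ?_⟩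
      have hgH : g ∈ H := by rw [hHtop]; trivial
      exact (hHmem g).mp hgH

/-- The ascending fixed-point series of a representation. -/
noncomputable def fixSeries {Q : Type w} [Group Q] (ρ : Q →* Module.End F V) :
    ℕ → Submodule F V
  | 0 => ⊥
  | (i + 1) => ⨅ g : Q, (fixSeries ρ i).comap (ρ g - 1)

theorem mem_fixSeries_succ {Q : Type w} [Group Q] (ρ : Q →* Module.End F V) (i : ℕ) (v : V) :
    v ∈ fixSeries ρ (i + 1) ↔ ∀ g : Q, ρ g v - v ∈ fixSeries ρ i := by
  simp only [fixSeries, Submodule.mem_iInf, Submodule.mem_comap, LinearMap.sub_apply,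
    Module.End.one_apply]

theorem fixSeries_inv {Q : Type w} [Group Q] (ρ : Q →* Module.End F V) :
    ∀ i, ∀ h : Q, ∀ v ∈ fixSeries ρ i, ρ h v ∈ fixSeries ρ i := by
  intro i
  induction i with
  | zero =>
    intro h v hv
    have hv0 : v = 0 := by simpa [fixSeries] using hv
    rw [hv0, map_zero]; exact Submodule.zero_mem _
  | succ i ih =>
    intro h v hv
    rw [mem_fixSeries_succ] at hv ⊢
    intro g
    have e : ρ g (ρ h v) - ρ h v = ρ h (ρ (h⁻¹ * g * h) v - v) := by
      have e1 : g * h = h * (h⁻¹ * g * h) := by group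
      calc ρ g (ρ h v) - ρ h v = ρ (g * h) v - ρ h v := by rw [rep_mul_apply]
        _ = ρ (h * (h⁻¹ * g * h)) v - ρ h v := by rw [← e1]
        _ = ρ h (ρ (h⁻¹ * g * h) v - v) := by rw [rep_mul_apply, map_sub]
    rw [e]
    exact ih h _ (hv _)

theorem fixSeries_mono {Q : Type w} [Group Q] (ρ : Q →* Module.End F V) (i : ℕ) :
    fixSeries ρ i ≤ fixSeries ρ (i + 1) := by
  intro v hv
  rw [mem_fixSeries_succ]
  intro g
  exact Submodule.sub_mem _ (fixSeries_inv ρ i g v hv) hv

theorem fixSeries_mono' {Q : Type w} [Group Q] (ρ : Q →* Module.End F V) {i j : ℕ}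
    (h : i ≤ j) : fixSeries ρ i ≤ fixSeries ρ j := by
  induction h with
  | refl => exact le_rfl
  | step _ ih => exact ih.trans (fixSeries_mono ρ _)

theorem fixSeries_top [FiniteDimensional F V] {Q : Type w} [Group Q] [Finite Q] (p : ℕ)
    [Fact p.Prime] (hpF : (p : F) = 0) (hQ : IsPGroup p Q) (ρ : Q →* Module.End F V) :
    ∀ i, fixSeries ρ i = ⊤ ∨ i ≤ Module.finrank F (fixSeries ρ i) := by
  intro i
  induction i with
  | zero => right; exact Nat.zero_le _
  | succ i ih =>
    by_cases htop : fixSeries ρ (i + 1) = ⊤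
    · left; exact htop
    · right
      have hi : fixSeries ρ i ≠ ⊤ := by
        intro h
        apply htop
        exact eq_top_iff.mpr (h ▸ fixSeries_mono ρ i)
      rcases ih with h | h
      · exact absurd h hi
      · obtain ⟨v, hv, hvg⟩ := exists_rel_fixed p hpF (Nat.card Q) Q le_rfl hQ ρ
          (fixSeries ρ i) (fixSeries_inv ρ i) hi
        have hlt : fixSeries ρ i < fixSeries ρ (i + 1) := by
          refine lt_of_le_of_ne (fixSeries_mono ρ i) ?_
          intro heq
          apply hv
          rw [heq, mem_fixSeries_succ]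
          exact hvg
        have := Submodule.finrank_lt_finrank_of_lt hlt
        omega

end

/-- In characteristic `p`, the `(⌊log₂ n⌋ + 1)`-th derived subgroup of a finite `p`-group acts
trivially on any `n`-dimensional representation. -/
theorem derived_trivial_of_char_eq (p : ℕ) [hpf : Fact p.Prime] (F : Type u) [Field F]
    (hpF : (p : F) = 0) (V : Type v) [AddCommGroup V] [Module F V] [FiniteDimensional F V]
    (Q : Type w) [Group Q] [Finite Q] (hQ : IsPGroup p Q) (ρ : Q →* Module.End F V) :
    ∀ g ∈ derivedSeries Q (Nat.log 2 (Module.finrank F V) + 1), ρ g = 1 := by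
  classical
  obtain ⟨d, hd⟩ : ∃ d, d = Module.finrank F V := ⟨_, rfl⟩
  rw [← hd]
  have htop : ∀ j, d ≤ j → fixSeries ρ j = ⊤ := by
    intro j hj
    have h1 : fixSeries ρ d = ⊤ := by
      rcases fixSeries_top p hpF hQ ρ d with h | h
      · exact h
      · by_contra hne
        have := Submodule.finrank_lt hne
        omega
    exact eq_top_iff.mpr (h1 ▸ fixSeries_mono' ρ hj)
  let D : ℕ → Subgroup Q := fun k =>
    { carrier := {g | ∀ i, ∀ v ∈ fixSeries ρ (i + k), ρ g v - v ∈ fixSeries ρ i}
      mul_mem' := by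
        intro a b ha hb i v hv
        have e : ρ (a * b) v - v = ρ a (ρ b v - v) + (ρ a v - v) := by
          rw [rep_mul_apply, map_sub]; abel
        rw [e]
        exact Submodule.add_mem _ (fixSeries_inv ρ i a _ (hb i v hv)) (ha i v hv)
      one_mem' := by
        intro i v _
        rw [map_one]; simp
      inv_mem' := by
        intro a ha i v hv
        have e : ρ a⁻¹ v - v = - ρ a⁻¹ (ρ a v - v) := by
          rw [map_sub, rep_inv_apply]; abel
        rw [e]
        exact Submodule.neg_mem _ (fixSeries_inv ρ i a⁻¹ _ (ha i v hv)) }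
  have hDmem : ∀ k g, g ∈ D k ↔ ∀ i, ∀ v ∈ fixSeries ρ (i + k), ρ g v - v ∈ fixSeries ρ i :=
    fun _ _ => Iff.rfl
  have hD1 : D 1 = ⊤ := by
    rw [eq_top_iff]
    intro g _
    rw [hDmem]
    intro i v hv
    exact (mem_fixSeries_succ ρ i v).mp hv g
  have hDcomm : ∀ a b, ⁅D a, D b⁆ ≤ D (a + b) := by
    intro a b
    rw [Subgroup.commutator_le]
    intro g hg h hh
    rw [hDmem] at hg hh ⊢
    intro i v hv
    obtain ⟨w, hw⟩ : ∃ w, w = ρ g⁻¹ (ρ h⁻¹ v) := ⟨_, rfl⟩
    have hwV : w ∈ fixSeries ρ (i + (a + b)) := by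
      rw [hw]
      exact fixSeries_inv ρ _ _ _ (fixSeries_inv ρ _ _ _ hv)
    have hv' : v = ρ h (ρ g w) := by
      rw [hw, rep_apply_inv, rep_apply_inv]
    have e1 : ρ ⁅g, h⁆ v = ρ g (ρ h w) := by
      rw [commutatorElement_def, rep_mul_apply, rep_mul_apply, rep_mul_apply, hw]
    have e2 : ρ ⁅g, h⁆ v - v =
        (ρ g (ρ h w - w) - (ρ h w - w)) - (ρ h (ρ g w - w) - (ρ g w - w)) := by
      rw [e1]
      conv_lhs => rw [hv']
      simp only [map_sub]
      abel
    rw [e2]
    have h1 : ρ h w - w ∈ fixSeries ρ (i + a) := by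
      apply hh (i + a) w
      have e3 : i + a + b = i + (a + b) := by omega
      rw [e3]; exact hwV
    have h2 : ρ g w - w ∈ fixSeries ρ (i + b) := by
      apply hg (i + b) w
      have e3 : i + b + a = i + (a + b) := by omega
      rw [e3]; exact hwV
    exact Submodule.sub_mem _ (hg i _ h1) (hh i _ h2)
  have hder : ∀ j, derivedSeries Q j ≤ D (2 ^ j) := by
    intro j
    induction j with
    | zero => rw [pow_zero, hD1]; exact le_top
    | succ j ih =>
      rw [derivedSeries_succ]
      have e3 : 2 ^ (j + 1) = 2 ^ j + 2 ^ j := by ring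
      rw [e3]
      exact (Subgroup.commutator_mono ih ih).trans (hDcomm _ _)
  intro g hg
  have hgD := (hDmem _ g).mp (hder _ hg) 0
  ext v
  have hv : v ∈ fixSeries ρ (0 + 2 ^ (Nat.log 2 d + 1)) := by
    rw [htop _ (by have := Nat.lt_pow_succ_log_self (b := 2) (by norm_num) d; omega)]
    trivial
  have h1 := hgD v hv
  have h2 : ρ g v - v = 0 := by simpa [fixSeries] using h1
  exact sub_eq_zero.mp h2

/-- A finite `p`-subgroup of `GL_n(F)` has derived length at most `⌊log₂ n⌋ + 1`. -/
theorem gl_derived {P : Type*} [Group P] [Finite P] (p : ℕ) [Fact p.Prime] (hP : IsPGroup p P)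
    (F : Type*) [Field F] (n : ℕ) (ρ : P →* Matrix.GeneralLinearGroup (Fin n) F)
    (hρ : Function.Injective ρ) : derivedSeries P (Nat.log 2 n + 1) = ⊥ := by
  classical
  rw [eq_bot_iff]
  intro g hg
  rw [Subgroup.mem_bot]
  by_cases hpF : (p : F) = 0
  · let ρ₁ : P →* Module.End F (Fin n → F) :=
      (MonoidHomClass.toMonoidHom (Matrix.toLinAlgEquiv' :
        Matrix (Fin n) (Fin n) F ≃ₐ[F] Module.End F (Fin n → F))).comp
        ((Units.coeHom (Matrix (Fin n) (Fin n) F)).comp ρ)
    have hinj : Function.Injective ρ₁ := by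
      intro a b hab
      have h2 : (Matrix.toLinAlgEquiv' : Matrix (Fin n) (Fin n) F ≃ₐ[F] _) ((ρ a : Matrix (Fin n) (Fin n) F)) =
          (Matrix.toLinAlgEquiv' : Matrix (Fin n) (Fin n) F ≃ₐ[F] _) ((ρ b : Matrix (Fin n) (Fin n) F)) := hab
      exact hρ (Units.ext (Matrix.toLinAlgEquiv'.injective h2))
    have h1 := derived_trivial_of_char_eq p F hpF (Fin n → F) P hP ρ₁ g
      (by rw [Module.finrank_fin_fun]; exact hg)
    exact hinj (h1.trans (map_one ρ₁).symm)
  · have hpK : (p : AlgebraicClosure F) ≠ 0 := by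
      intro h
      apply hpF
      have h1 : algebraMap F (AlgebraicClosure F) (p : F) = 0 := by rw [map_natCast]; exact h
      exact (map_eq_zero (algebraMap F (AlgebraicClosure F))).mp h1
    let ρ₁ : P →* Module.End (AlgebraicClosure F) (Fin n → AlgebraicClosure F) :=
      (MonoidHomClass.toMonoidHom (Matrix.toLinAlgEquiv' :
        Matrix (Fin n) (Fin n) (AlgebraicClosure F) ≃ₐ[AlgebraicClosure F]
          Module.End (AlgebraicClosure F) (Fin n → AlgebraicClosure F))).comp
        ((MonoidHomClass.toMonoidHom ((algebraMap F (AlgebraicClosure F)).mapMatrix :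
          Matrix (Fin n) (Fin n) F →+* Matrix (Fin n) (Fin n) (AlgebraicClosure F))).comp
          ((Units.coeHom (Matrix (Fin n) (Fin n) F)).comp ρ))
    have hinj : Function.Injective ρ₁ := by
      intro a b hab
      have h2 : (Matrix.toLinAlgEquiv' : Matrix (Fin n) (Fin n) (AlgebraicClosure F) ≃ₐ[AlgebraicClosure F] _)
            (((ρ a : Matrix (Fin n) (Fin n) F)).map (algebraMap F (AlgebraicClosure F))) =
          (Matrix.toLinAlgEquiv' : Matrix (Fin n) (Fin n) (AlgebraicClosure F) ≃ₐ[AlgebraicClosure F] _)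
            (((ρ b : Matrix (Fin n) (Fin n) F)).map (algebraMap F (AlgebraicClosure F))) := hab
      have h3 := Matrix.toLinAlgEquiv'.injective h2
      have h4 := Matrix.map_injective (algebraMap F (AlgebraicClosure F)).injective h3
      exact hρ (Units.ext h4)
    have h1 := derived_trivial_of_char_ne p (AlgebraicClosure F) hpK n
      (Fin n → AlgebraicClosure F) P hP (by rw [Module.finrank_fin_fun]) ρ₁ g
      (by rw [Module.finrank_fin_fun]; exact hg)
    exact hinj (h1.trans (map_one ρ₁).symm)

end Cfsg.Agent.Helper22
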