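import Mathlib
import Cfsg.Agent.Helper22.GLDer2

set_option autoImplicit false

namespace Cfsg.Agent.Helper22

universe u v w

/-- Eigenspaces of a matrix over a finite field `F` (viewed over an algebraically closed
extension) for a primitive `p`-th root of unity have dimension at most `n / e`, `e` the order
of `|F|` modulo `p`. -/
theorem frob_eigen_bound {F : Type*} [Field F] [Fintype F] (K : Type*) [Field K] [Algebra F K]
    [IsAlgClosed K] (p : ℕ) [hpf : Fact p.Prime] (hpq : ¬ p ∣ Fintype.card F) (n : ℕ)
    (A : Matrix (Fin n) (Fin n) F) (ζ : K) (hζ1 : ζ ≠ 1) (hζp : ζ ^ p = 1) :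
    Module.finrank K (Module.End.eigenspace
      (Matrix.toLinAlgEquiv' (A.map (algebraMap F K)) : Module.End K (Fin n → K)) ζ) *
        orderOf ((Fintype.card F : ℕ) : ZMod p) ≤ n := by
  classical
  obtain ⟨p', hp'⟩ := CharP.exists F
  haveI := hp'
  obtain ⟨f, hp'prime, hcard⟩ := FiniteField.card F p'
  haveI : Fact p'.Prime := ⟨hp'prime⟩
  haveI : CharP K p' := charP_of_injective_algebraMap (algebraMap F K).injective p'
  haveI : ExpChar K p' := ExpChar.prime hp'prime
  set q := Fintype.card F with hq
  set e := orderOf ((q : ℕ) : ZMod p) with he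
  set T : Module.End K (Fin n → K) := Matrix.toLinAlgEquiv' (A.map (algebraMap F K)) with hT
  let τ : ℕ → K →+* K := fun i => iterateFrobenius K p' ((f : ℕ) * i)
  have hτ : ∀ i x, τ i x = x ^ (q ^ i) := by
    intro i x
    show iterateFrobenius K p' ((f : ℕ) * i) x = x ^ (q ^ i)
    rw [iterateFrobenius_def, hcard, ← pow_mul]
  have hτF : ∀ i (a : F), τ i (algebraMap F K a) = algebraMap F K a := by
    intro i a
    rw [hτ, ← map_pow, hq, FiniteField.pow_card_pow]
  have hτsurj : ∀ i, Function.Surjective (τ i) := by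
    intro i y
    obtain ⟨z, hz⟩ := IsAlgClosed.exists_pow_nat_eq y (n := q ^ i) (pow_pos Fintype.card_pos i)
    exact ⟨z, by rw [hτ, hz]⟩
  have hE1 : ∀ i (μ : K) (v : Fin n → K), v ∈ T.eigenspace μ →
      (fun j => τ i (v j)) ∈ T.eigenspace (τ i μ) := by
    intro i μ v hv
    rw [Module.End.mem_eigenspace_iff] at hv ⊢
    have h1 : ∀ j, ∑ l, algebraMap F K (A j l) * v l = μ * v j := by
      intro j
      have := congrFun hv j
      simpa [hT, Matrix.toLinAlgEquiv'_apply, Matrix.mulVec, dotProduct] using this
    funext j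
    have h2 : T (fun j => τ i (v j)) j = ∑ l, algebraMap F K (A j l) * τ i (v l) := by
      simp [hT, Matrix.toLinAlgEquiv'_apply, Matrix.mulVec, dotProduct]
    rw [h2]
    show _ = τ i μ * τ i (v j)
    rw [← map_mul, ← h1 j, map_sum]
    apply Finset.sum_congr rfl
    intro l _
    rw [map_mul, hτF]
  have hord : orderOf ζ = p := orderOf_eq_prime hζp hζ1
  have hcop : Nat.Coprime p q := (Nat.Prime.coprime_iff_not_dvd hpf.out).mpr hpq
  have hE2 : ∀ i j : ℕ, i ≤ j → j < e → ζ ^ (q ^ i) = ζ ^ (q ^ j) → i = j := by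
    intro i j hij hj h
    by_contra hne
    have hlt : i < j := lt_of_le_of_ne hij hne
    obtain ⟨m, rfl⟩ : ∃ m, j = i + m := ⟨j - i, by omega⟩
    have hm : 0 < m := by omega
    set η := ζ ^ (q ^ i) with hη
    have hηord : orderOf η = p := by
      rw [hη, Nat.Coprime.orderOf_pow (by rw [hord]; exact Nat.Coprime.pow_right i hcop), hord]
    have hηp : η ^ p = 1 := by rw [← hηord]; exact pow_orderOf_eq_one η
    have hη0 : η ≠ 0 := by
      intro h0
      rw [h0, zero_pow hpf.out.ne_zero] at hηp
      exact zero_ne_one hηp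
    have h1 : η ^ (q ^ m) = η := by
      rw [hη, ← pow_mul, ← pow_add]
      exact h.symm
    have hqm : 1 ≤ q ^ m := Nat.one_le_pow _ _ Fintype.card_pos
    have h2 : η ^ (q ^ m - 1) = 1 := by
      have e1 : q ^ m = (q ^ m - 1) + 1 := by omega
      rw [e1, pow_succ] at h1
      have h3 : η ^ (q ^ m - 1) * η = 1 * η := by rw [h1, one_mul]
      exact mul_right_cancel₀ hη0 h3
    have h3 : p ∣ q ^ m - 1 := by
      rw [← hηord]
      exact orderOf_dvd_of_pow_eq_one h2
    have h4 : ((q : ℕ) : ZMod p) ^ m = 1 := by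
      have h5 := (ZMod.natCast_eq_zero_iff (q ^ m - 1) p).mpr h3
      rw [Nat.cast_sub hqm, Nat.cast_pow, Nat.cast_one, sub_eq_zero] at h5
      exact h5
    have h6 := orderOf_dvd_of_pow_eq_one h4
    have h7 := Nat.le_of_dvd hm h6
    omega
  set d := Module.finrank K (T.eigenspace ζ) with hd
  let b := Module.finBasis K (T.eigenspace ζ)
  let w : Fin d × Fin e → (Fin n → K) := fun x => fun j => τ x.2 ((b x.1 : Fin n → K) j)
  have hw : LinearIndependent K w := by
    rw [Fintype.linearIndependent_iff]
    intro c hc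
    rw [Fintype.sum_prod_type_right] at hc
    have hind : iSupIndep (fun i : Fin e => T.eigenspace (ζ ^ (q ^ (i : ℕ)))) := by
      have h0 := Module.End.eigenspaces_iSupIndep T
      exact h0.comp (f := fun i : Fin e => ζ ^ (q ^ (i : ℕ))) (by
        intro i j hij
        rcases le_total (i : ℕ) (j : ℕ) with h | h
        · exact Fin.ext (hE2 i j h j.2 hij)
        · exact Fin.ext (hE2 j i h i.2 hij.symm).symm)
    have hu := (iSupIndep_iff_finsetSum_eq_zero_imp_eq_zero _).mp hind Finset.univ
      (fun i => ∑ k : Fin d, c (k, i) • w (k, i)) (by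
        intro i _
        apply Submodule.sum_mem
        intro k _
        apply Submodule.smul_mem
        have := hE1 (i : ℕ) ζ (b k : Fin n → K) (b k).2
        rwa [hτ] at this) hc
    rintro ⟨k, i⟩
    have hui := hu i (Finset.mem_univ i)
    choose γ hγ using fun k' : Fin d => hτsurj (i : ℕ) (c (k', i))
    have h3 : (fun j => τ (i : ℕ) ((∑ k' : Fin d, γ k' • (b k' : Fin n → K)) j)) = 0 := by
      rw [← hui]
      funext j
      simp only [Finset.sum_apply, Pi.smul_apply, smul_eq_mul, map_sum, map_mul, hγ]
      rfl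
    have h4 : ∑ k' : Fin d, γ k' • (b k' : Fin n → K) = 0 := by
      funext j
      have := congrFun h3 j
      exact (map_eq_zero (τ (i : ℕ))).mp this
    have h5 : ∑ k' : Fin d, γ k' • b k' = 0 := by
      apply Subtype.ext
      rw [Submodule.coe_sum]
      simpa using h4
    have h6 := (Fintype.linearIndependent_iff.mp b.linearIndependent) γ h5 k
    rw [← hγ k, h6, map_zero]
  have hfin := hw.fintype_card_le_finrank
  rw [Fintype.card_prod, Fintype.card_fin, Fintype.card_fin, Module.finrank_fin_fun] at hfin
  exact hfin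

/-- Refined derived-length bound: if all eigenspaces for primitive `p`-th roots of unity have
dimension at most `M`, then the `(⌊log₂ M⌋ + 1)`-th derived subgroup acts trivially. -/
theorem derived_trivial_refined (p : ℕ) [hpf : Fact p.Prime] (K : Type u) [Field K]
    [IsAlgClosed K] (hpK : (p : K) ≠ 0) (V₀ : Type v) [AddCommGroup V₀] [Module K V₀]
    [FiniteDimensional K V₀] (Q : Type w) [Group Q] [Finite Q] (hQ : IsPGroup p Q)
    (ρ₀ : Q →* Module.End K V₀) (M : ℕ)
    (hM : ∀ z : Q, ∀ ζ : K, ζ ≠ 1 → ζ ^ p = 1 →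
      Module.finrank K ((ρ₀ z).eigenspace ζ) ≤ M) :
    ∀ (N : ℕ) (E : Submodule K V₀), (∀ g : Q, ∀ v ∈ E, ρ₀ g v ∈ E) → Module.finrank K E ≤ N →
      ∀ g ∈ derivedSeries Q (Nat.log 2 M + 1), ∀ v ∈ E, ρ₀ g v = v := by
  intro N
  induction N with
  | zero =>
    intro E hE hN g _ v hv
    have h0 : Module.finrank K E = 0 := Nat.le_zero.mp hN
    have h1 : E = ⊥ := Submodule.finrank_eq_zero.mp h0
    rw [h1, Submodule.mem_bot] at hv
    rw [hv, map_zero]
  | succ N ih =>
    intro E hE hN g hg
    classical
    set ρ : Q →* Module.End K E := restrictRep ρ₀ E hE with hρ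
    suffices hsuff : ρ g = 1 by
      intro v hv
      have h2 := congrArg (fun f : Module.End K E => ((f ⟨v, hv⟩ : E) : V₀)) hsuff
      exact h2
    have hdiag := fun x => rep_diagonalizable p hpK hQ ρ x
    by_cases ha : ∀ x y : Q, ρ x * ρ y = ρ y * ρ x
    · have h1 : derivedSeries Q (Nat.log 2 M + 1) ≤ derivedSeries Q 1 :=
        derivedSeries_antitone Q (by omega)
      have h2 : g ∈ commutator Q := by
        have := h1 hg
        rwa [derivedSeries_one] at this
      have h3 : commutator Q ≤ (ρ.toHomUnits).ker := by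
        rw [commutator_def, Subgroup.commutator_le]
        intro x _ y _
        rw [MonoidHom.mem_ker, commutatorElement_def, map_mul, map_mul, map_mul, map_inv, map_inv]
        have hc : ρ.toHomUnits x * ρ.toHomUnits y = ρ.toHomUnits y * ρ.toHomUnits x := by
          apply Units.ext
          simp only [Units.val_mul, MonoidHom.coe_toHomUnits]
          exact ha x y
        rw [hc, mul_assoc, mul_assoc, mul_inv_cancel_left, mul_inv_cancel]
      have h4 := h3 h2
      rw [MonoidHom.mem_ker] at h4
      have h5 := congrArg Units.val h4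
      rwa [MonoidHom.coe_toHomUnits] at h5
    · by_cases hb : ∃ z : Q, (∀ y, ρ z * ρ y = ρ y * ρ z) ∧
          ¬ ∃ c : K, ρ z = c • (1 : Module.End K E)
      · obtain ⟨z, hz1, hz2⟩ := hb
        apply eq_one_of_fix_eigenspaces (ρ z) (ρ g) (hdiag z)
        intro μ v hv
        have hEinv : ∀ y : Q, ∀ v ∈ (ρ z).eigenspace μ, ρ y v ∈ (ρ z).eigenspace μ := by
          intro y v hv
          rw [Module.End.mem_eigenspace_iff] at hv ⊢
          have h1 := congrArg (fun f : Module.End K E => f v) (hz1 y)
          simp only [Module.End.mul_apply] at h1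
          rw [h1, hv, map_smul]
        have hEne : (ρ z).eigenspace μ ≠ ⊤ := by
          intro htop
          apply hz2
          refine ⟨μ, ?_⟩
          ext v
          have hv : v ∈ (ρ z).eigenspace μ := by rw [htop]; trivial
          rw [Module.End.mem_eigenspace_iff] at hv
          rw [hv]; rfl
        have hlt : Module.finrank K ((ρ z).eigenspace μ) < Module.finrank K E :=
          Submodule.finrank_lt hEne
        set E' : Submodule K V₀ := ((ρ z).eigenspace μ).map E.subtype with hE'
        have hE'le : Module.finrank K E' ≤ N := by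
          have h7 : Module.finrank K E' ≤ Module.finrank K ((ρ z).eigenspace μ) :=
            Submodule.finrank_map_le E.subtype ((ρ z).eigenspace μ)
          omega
        have hE'inv : ∀ y : Q, ∀ u ∈ E', ρ₀ y u ∈ E' := by
          rintro y u ⟨u', hu', rfl⟩
          exact ⟨ρ y u', hEinv y u' hu', rfl⟩
        have h1 := ih E' hE'inv hE'le g hg (v : V₀) ⟨v, hv, rfl⟩
        apply Subtype.ext
        exact h1
      · push Not at ha hb
        obtain ⟨x₀, y₀, hxy⟩ := ha
        set N₁ : Subgroup Q := (ρ.toHomUnits).ker with hN₁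
        have hN₁mem : ∀ a : Q, a ∈ N₁ ↔ ρ a = 1 := by
          intro a
          rw [hN₁, MonoidHom.mem_ker]
          constructor
          · intro h
            have h5 := congrArg Units.val h
            rwa [MonoidHom.coe_toHomUnits] at h5
          · intro h
            apply Units.ext
            rw [MonoidHom.coe_toHomUnits]
            exact h
        have hx₀ : x₀ ∉ N₁ := by
          intro h
          apply hxy
          rw [(hN₁mem x₀).mp h, one_mul, mul_one]
        haveI : Nontrivial (Q ⧸ N₁) :=
          ⟨⟨QuotientGroup.mk x₀, 1, fun h => hx₀ ((QuotientGroup.eq_one_iff x₀).mp h)⟩⟩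
        have hQZ : IsPGroup p (Q ⧸ N₁) := hQ.to_quotient N₁
        haveI := hQZ.center_nontrivial
        obtain ⟨⟨zb, hzb⟩, hzb1⟩ := exists_ne (1 : Subgroup.center (Q ⧸ N₁))
        obtain ⟨z, rfl⟩ := QuotientGroup.mk_surjective zb
        have hzN : z ∉ N₁ := by
          intro h
          apply hzb1
          apply Subtype.ext
          exact (QuotientGroup.eq_one_iff z).mpr h
        have hzc : ∀ y, ρ z * ρ y = ρ y * ρ z := by
          intro y
          have h1 := Subgroup.mem_center_iff.mp hzb (QuotientGroup.mk y)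
          have h2 : ((y * z)⁻¹ * (z * y) : Q) ∈ N₁ := by
            rw [← QuotientGroup.eq_one_iff, QuotientGroup.mk_mul, QuotientGroup.mk_inv,
              QuotientGroup.mk_mul, QuotientGroup.mk_mul, h1, inv_mul_cancel]
          have h3 := (hN₁mem _).mp h2
          rw [map_mul] at h3
          have h4 : ρ (y * z) * (ρ (y * z)⁻¹ * ρ (z * y)) = ρ (y * z) * 1 := by rw [h3]
          rw [← mul_assoc, rep_mul_inv, one_mul, mul_one, map_mul, map_mul] at h4
          exact h4
        obtain ⟨c, hc⟩ := hb z hzc
        have hc1 : c ≠ 1 := by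
          intro h
          apply hzN
          rw [hN₁mem, hc, h, one_smul]
        have hEnt : ∃ v₀ : E, v₀ ≠ 0 := by
          by_contra hcon
          push Not at hcon
          apply hzN
          rw [hN₁mem]
          ext v
          rw [hcon v, map_zero]
          rfl
        obtain ⟨v₀, hv₀⟩ := hEnt
        have hsc : ∀ a : K, a • (1 : Module.End K E) = 1 → a = 1 := by
          intro a h
          have h1 := congrArg (fun f : Module.End K E => f v₀) h
          simp only [LinearMap.smul_apply, Module.End.one_apply] at h1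
          have h2 : a • v₀ = (1 : K) • v₀ := by rw [h1, one_smul]
          exact smul_left_injective K hv₀ h2
        obtain ⟨k, hk⟩ := hQ z
        have hck : c ^ (p ^ k) = 1 := by
          apply hsc
          have h1 : ρ (z ^ (p ^ k)) = 1 := by rw [hk, map_one]
          rw [map_pow, hc, smul_pow, one_pow] at h1
          exact h1
        obtain ⟨i, hik, hci⟩ := (Nat.dvd_prime_pow hpf.out).mp (orderOf_dvd_of_pow_eq_one hck)
        have hi0 : i ≠ 0 := by
          rintro rfl
          rw [pow_zero, orderOf_eq_one_iff] at hci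
          exact hc1 hci
        obtain ⟨i', rfl⟩ : ∃ i', i = i' + 1 := ⟨i - 1, by omega⟩
        set ζ := c ^ (p ^ i') with hζ
        have hζp : ζ ^ p = 1 := by
          rw [hζ, ← pow_mul, ← pow_succ, ← hci]
          exact pow_orderOf_eq_one c
        have hζ1 : ζ ≠ 1 := by
          intro h
          have h1 := orderOf_dvd_of_pow_eq_one h
          rw [hci] at h1
          have h2 := Nat.le_of_dvd (pow_pos hpf.out.pos _) h1
          have h3 : p ^ i' < p ^ (i' + 1) := Nat.pow_lt_pow_right hpf.out.one_lt (by omega)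
          omega
        have hρz' : ρ (z ^ (p ^ i')) = ζ • (1 : Module.End K E) := by
          rw [map_pow, hc, smul_pow, one_pow]
        have hEle : E ≤ (ρ₀ (z ^ (p ^ i'))).eigenspace ζ := by
          intro v hv
          rw [Module.End.mem_eigenspace_iff]
          have h1 := congrArg (fun f : Module.End K E => ((f ⟨v, hv⟩ : E) : V₀)) hρz'
          exact h1
        have hfin : Module.finrank K E ≤ M :=
          (Submodule.finrank_mono hEle).trans (hM _ ζ hζ1 hζp)
        have hmono : derivedSeries Q (Nat.log 2 M + 1) ≤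
            derivedSeries Q (Nat.log 2 (Module.finrank K E) + 1) := by
          apply derivedSeries_antitone
          have := Nat.log_mono_right (b := 2) hfin
          omega
        exact derived_trivial_of_char_ne p K hpK (N + 1) E Q hQ hN ρ g (hmono hg)

/-- A `p`-subgroup of `GL_n(F)`, `F` finite of order prime to `p`, has derived length at most
`⌊log₂ (n / e)⌋ + 1`, `e` the order of `|F|` modulo `p`. -/
theorem gl_derived_fin {F : Type*} [Field F] [Fintype F] (p : ℕ) [hpf : Fact p.Prime]
    (hpq : ¬ p ∣ Fintype.card F) (n : ℕ)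
    (P : Subgroup (GL (Fin n) F)) (hP : IsPGroup p P) :
    derivedSeries ↥P (Nat.log 2 (n / orderOf ((Fintype.card F : ℕ) : ZMod p)) + 1) = ⊥ := by
  classical
  have hepos : 0 < orderOf ((Fintype.card F : ℕ) : ZMod p) := by
    rw [orderOf_pos_iff, isOfFinOrder_iff_pow_eq_one]
    refine ⟨p - 1, by have := hpf.out.two_le; omega, ?_⟩
    apply ZMod.pow_card_sub_one_eq_one
    intro h
    exact hpq ((ZMod.natCast_eq_zero_iff _ _).mp h)
  have hpF : (p : F) ≠ 0 := by
    intro h
    obtain ⟨p', hp'⟩ := CharP.exists F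
    haveI := hp'
    obtain ⟨f, hp'prime, hcard⟩ := FiniteField.card F p'
    have h1 := (CharP.cast_eq_zero_iff F p' p).mp h
    have h2 : p' = p := (Nat.prime_dvd_prime_iff_eq hp'prime hpf.out).mp h1
    apply hpq
    rw [hcard, h2]
    exact dvd_pow_self p (PNat.ne_zero f)
  have hpK : (p : AlgebraicClosure F) ≠ 0 := by
    intro h
    apply hpF
    have h1 : algebraMap F (AlgebraicClosure F) (p : F) = 0 := by rw [map_natCast]; exact h
    exact (map_eq_zero (algebraMap F (AlgebraicClosure F))).mp h1
  rw [eq_bot_iff]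
  intro g hg
  rw [Subgroup.mem_bot]
  let ρ₁ : ↥P →* Module.End (AlgebraicClosure F) (Fin n → AlgebraicClosure F) :=
    (MonoidHomClass.toMonoidHom (Matrix.toLinAlgEquiv' :
      Matrix (Fin n) (Fin n) (AlgebraicClosure F) ≃ₐ[AlgebraicClosure F]
        Module.End (AlgebraicClosure F) (Fin n → AlgebraicClosure F))).comp
      ((MonoidHomClass.toMonoidHom ((algebraMap F (AlgebraicClosure F)).mapMatrix :
        Matrix (Fin n) (Fin n) F →+* Matrix (Fin n) (Fin n) (AlgebraicClosure F))).comp
        ((Units.coeHom (Matrix (Fin n) (Fin n) F)).comp P.subtype))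
  have hinj : Function.Injective ρ₁ := by
    intro a b hab
    have h2 : (Matrix.toLinAlgEquiv' : Matrix (Fin n) (Fin n) (AlgebraicClosure F) ≃ₐ[AlgebraicClosure F] _)
          ((((a : GL (Fin n) F) : Matrix (Fin n) (Fin n) F)).map (algebraMap F (AlgebraicClosure F))) =
        (Matrix.toLinAlgEquiv' : Matrix (Fin n) (Fin n) (AlgebraicClosure F) ≃ₐ[AlgebraicClosure F] _)
          ((((b : GL (Fin n) F) : Matrix (Fin n) (Fin n) F)).map (algebraMap F (AlgebraicClosure F))) := hab
    have h3 := Matrix.toLinAlgEquiv'.injective h2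
    have h4 := Matrix.map_injective (algebraMap F (AlgebraicClosure F)).injective h3
    exact Subtype.ext (Units.ext h4)
  have hM : ∀ z : ↥P, ∀ ζ : AlgebraicClosure F, ζ ≠ 1 → ζ ^ p = 1 →
      Module.finrank (AlgebraicClosure F) ((ρ₁ z).eigenspace ζ) ≤
        n / orderOf ((Fintype.card F : ℕ) : ZMod p) := by
    intro z ζ hζ1 hζp
    rw [Nat.le_div_iff_mul_le hepos]
    exact frob_eigen_bound (AlgebraicClosure F) p hpq n
      ((z : GL (Fin n) F) : Matrix (Fin n) (Fin n) F) ζ hζ1 hζp
  have h1 := derived_trivial_refined p (AlgebraicClosure F) hpK (Fin n → AlgebraicClosure F) ↥P hP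
    ρ₁ (n / orderOf ((Fintype.card F : ℕ) : ZMod p)) hM n ⊤ (fun _ _ _ => Submodule.mem_top)
    (by rw [finrank_top, Module.finrank_fin_fun]) g hg
  apply hinj
  rw [map_one]
  apply LinearMap.ext
  intro v
  exact h1 v Submodule.mem_top

end Cfsg.Agent.Helper22
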