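import Mathlib
import Cfsg.Agent.Helper22.GLDer3

set_option autoImplicit false

namespace Cfsg.Agent.Helper22

universe u v w

/-- In characteristic different from `p`, over an algebraically closed field, the
`(⌊log_p n⌋ + 1)`-th derived subgroup of a finite `p`-group acts trivially on any
`n`-dimensional representation. -/
theorem derived_trivial_of_char_ne_p (p : ℕ) [hpf : Fact p.Prime] (K : Type u) [Field K]
    [IsAlgClosed K] (hpK : (p : K) ≠ 0) :
    ∀ (n : ℕ) (V : Type v) [AddCommGroup V] [Module K V] [FiniteDimensional K V] (Q : Type w)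
      [Group Q] [Finite Q], IsPGroup p Q → Module.finrank K V ≤ n →
      ∀ (ρ : Q →* Module.End K V),
      ∀ g ∈ derivedSeries Q (Nat.log p (Module.finrank K V) + 1), ρ g = 1 := by
  intro n
  induction n with
  | zero =>
    intro V _ _ _ Q _ _ hQ hn ρ g _
    have h0 : Module.finrank K V = 0 := Nat.le_zero.mp hn
    haveI : Subsingleton V := Module.finrank_zero_iff.mp h0
    ext v
    exact Subsingleton.elim _ _
  | succ n ih =>
    intro V _ _ _ Q _ _ hQ hn ρ g hg
    classical
    obtain ⟨d, hd⟩ : ∃ d, d = Module.finrank K V := ⟨_, rfl⟩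
    rw [← hd] at hg hn
    have hdiag := fun x => rep_diagonalizable p hpK hQ ρ x
    by_cases ha : ∀ x y : Q, ρ x * ρ y = ρ y * ρ x
    · -- abelian image
      have h1 : derivedSeries Q (Nat.log p d + 1) ≤ derivedSeries Q 1 :=
        derivedSeries_antitone Q (by omega)
      have h2 : g ∈ commutator Q := by
        have := h1 hg
        rwa [derivedSeries_one] at this
      have h3 : commutator Q ≤ (ρ.toHomUnits).ker := by
        rw [commutator_def, Subgroup.commutator_le]
        intro x _ y _
        rw [MonoidHom.mem_ker, commutatorElement_def, map_mul, map_mul, map_mul, map_inv, map_inv]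
        have hc : ρ.toHomUnits x * ρ.toHomUnits y = ρ.toHomUnits y * ρ.toHomUnits x := by
          apply Units.ext
          simp only [Units.val_mul, MonoidHom.coe_toHomUnits]
          exact ha x y
        rw [hc, mul_assoc, mul_assoc, mul_inv_cancel_left, mul_inv_cancel]
      have h4 := h3 h2
      rw [MonoidHom.mem_ker] at h4
      have h5 := congrArg Units.val h4
      rwa [MonoidHom.coe_toHomUnits] at h5
    · by_cases hb : ∃ z : Q, (∀ y, ρ z * ρ y = ρ y * ρ z) ∧
          ¬ ∃ c : K, ρ z = c • (1 : Module.End K V)
      · obtain ⟨z, hz1, hz2⟩ := hb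
        apply eq_one_of_fix_eigenspaces (ρ z) (ρ g) (hdiag z)
        intro μ v hv
        have hE : ∀ y : Q, ∀ v ∈ (ρ z).eigenspace μ, ρ y v ∈ (ρ z).eigenspace μ := by
          intro y v hv
          rw [Module.End.mem_eigenspace_iff] at hv ⊢
          have h1 := congrArg (fun f : Module.End K V => f v) (hz1 y)
          simp only [Module.End.mul_apply] at h1
          rw [h1, hv, map_smul]
        have hEne : (ρ z).eigenspace μ ≠ ⊤ := by
          intro htop
          apply hz2
          refine ⟨μ, ?_⟩
          ext v
          have hv : v ∈ (ρ z).eigenspace μ := by rw [htop]; trivial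
          rw [Module.End.mem_eigenspace_iff] at hv
          rw [hv]; rfl
        have hlt : Module.finrank K ((ρ z).eigenspace μ) < Module.finrank K V :=
          Submodule.finrank_lt hEne
        rw [← hd] at hlt
        have hle : Module.finrank K ((ρ z).eigenspace μ) ≤ n := by omega
        have hmono : derivedSeries Q (Nat.log p d + 1) ≤
            derivedSeries Q (Nat.log p (Module.finrank K ((ρ z).eigenspace μ)) + 1) := by
          apply derivedSeries_antitone
          have := Nat.log_mono_right (b := p) (le_of_lt hlt)
          omega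
        have h1 := ih ((ρ z).eigenspace μ) Q hQ hle (restrictRep ρ _ hE) g (hmono hg)
        have h2 := congrArg (fun f : Module.End K ((ρ z).eigenspace μ) =>
          ((f ⟨v, hv⟩ : (ρ z).eigenspace μ) : V)) h1
        exact h2
      · push Not at ha hb
        obtain ⟨x₀, y₀, hxy⟩ := ha
        let Z₁ : Subgroup Q :=
          { carrier := {z | ∀ y, ρ z * ρ y = ρ y * ρ z}
            mul_mem' := by
              intro a b ha hb y
              have ha' := ha y
              have hb' := hb y
              rw [map_mul, mul_assoc, hb', ← mul_assoc, ha', mul_assoc]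
            one_mem' := by intro y; rw [map_one, one_mul, mul_one]
            inv_mem' := by
              intro a ha y
              exact monoid_commute_inv (rep_mul_inv ρ a) (rep_inv_mul ρ a) (ha y) }
        have hZ₁mem : ∀ z, z ∈ Z₁ ↔ ∀ y, ρ z * ρ y = ρ y * ρ z := fun z => Iff.rfl
        haveI hZ₁n : Z₁.Normal := by
          constructor
          intro z hz h
          rw [hZ₁mem] at hz ⊢
          intro y
          have e : ρ (h * z * h⁻¹) = ρ z := by
            rw [map_mul, map_mul, ← hz h, mul_assoc, rep_mul_inv, mul_one]
          rw [e]; exact hz y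
        have hx₀ : x₀ ∉ Z₁ := fun h => hxy ((hZ₁mem x₀).mp h y₀)
        haveI : Nontrivial (Q ⧸ Z₁) :=
          ⟨⟨QuotientGroup.mk x₀, 1, fun h => hx₀ ((QuotientGroup.eq_one_iff x₀).mp h)⟩⟩
        have hQZ : IsPGroup p (Q ⧸ Z₁) := hQ.to_quotient Z₁
        haveI := hQZ.center_nontrivial
        obtain ⟨⟨xb, hxb⟩, hxb1⟩ := exists_ne (1 : Subgroup.center (Q ⧸ Z₁))
        obtain ⟨x, rfl⟩ := QuotientGroup.mk_surjective xb
        have hxZ : x ∉ Z₁ := by
          intro h
          apply hxb1
          apply Subtype.ext
          exact (QuotientGroup.eq_one_iff x).mpr h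
        have hcomm : ∀ g' : Q, g' * x * g'⁻¹ * x⁻¹ ∈ Z₁ := by
          intro g'
          rw [← QuotientGroup.eq_one_iff, QuotientGroup.mk_mul, QuotientGroup.mk_mul,
            QuotientGroup.mk_mul, QuotientGroup.mk_inv, QuotientGroup.mk_inv]
          have h1 := Subgroup.mem_center_iff.mp hxb (QuotientGroup.mk g')
          rw [h1, mul_assoc (QuotientGroup.mk x : Q ⧸ Z₁), mul_inv_cancel, mul_one, mul_inv_cancel]
        have hscal : ∀ g' : Q, ∃ c : K, ρ g' * ρ x = c • (ρ x * ρ g') := by
          intro g'
          obtain ⟨c, hc⟩ := hb _ ((hZ₁mem _).mp (hcomm g'))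
          refine ⟨c, ?_⟩
          have e : g' * x = (g' * x * g'⁻¹ * x⁻¹) * (x * g') := by group
          rw [← map_mul, e, map_mul, hc, map_mul, smul_mul_assoc, one_mul]
        let C : Subgroup Q :=
          { carrier := {g' | ρ g' * ρ x = ρ x * ρ g'}
            mul_mem' := by
              intro a b ha hb
              have ha' : ρ a * ρ x = ρ x * ρ a := ha
              have hb' : ρ b * ρ x = ρ x * ρ b := hb
              show ρ (a * b) * ρ x = ρ x * ρ (a * b)
              rw [map_mul, mul_assoc, hb', ← mul_assoc, ha', mul_assoc]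
            one_mem' := by
              show ρ 1 * ρ x = ρ x * ρ 1
              rw [map_one, one_mul, mul_one]
            inv_mem' := by
              intro a ha
              have ha' : ρ a * ρ x = ρ x * ρ a := ha
              exact monoid_commute_inv (rep_mul_inv ρ a) (rep_inv_mul ρ a) ha' }
        have hCmem : ∀ g', g' ∈ C ↔ ρ g' * ρ x = ρ x * ρ g' := fun _ => Iff.rfl
        have hscalmul : ∀ (u u' : Module.End K V) (c c' : K), u * ρ x = c • (ρ x * u) →
            u' * ρ x = c' • (ρ x * u') → (u * u') * ρ x = (c * c') • (ρ x * (u * u')) := by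
          intro u u' c c' h h'
          calc (u * u') * ρ x = u * (u' * ρ x) := mul_assoc _ _ _
            _ = u * (c' • (ρ x * u')) := by rw [h']
            _ = c' • ((u * ρ x) * u') := by rw [mul_smul_comm, mul_assoc]
            _ = c' • ((c • (ρ x * u)) * u') := by rw [h]
            _ = (c * c') • (ρ x * (u * u')) := by
                rw [smul_mul_assoc, smul_smul, mul_assoc, mul_comm c' c]
        have hcommC : commutator Q ≤ C := by
          rw [commutator_def, Subgroup.commutator_le]
          intro g₁ _ g₂ _
          rw [hCmem, commutatorElement_def]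
          obtain ⟨c₁, h₁⟩ := hscal g₁
          obtain ⟨c₂, h₂⟩ := hscal g₂
          obtain ⟨c₁', h₁'⟩ := hscal g₁⁻¹
          obtain ⟨c₂', h₂'⟩ := hscal g₂⁻¹
          have e1 : (c₁ * c₁') • ρ x = ρ x := by
            have := hscalmul _ _ _ _ h₁ h₁'
            rw [rep_mul_inv, one_mul, mul_one] at this
            exact this.symm
          have e2 : (c₂ * c₂') • ρ x = ρ x := by
            have := hscalmul _ _ _ _ h₂ h₂'
            rw [rep_mul_inv, one_mul, mul_one] at this
            exact this.symm
          have h12 := hscalmul _ _ _ _ h₁ h₂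
          have h12' := hscalmul _ _ _ _ h₁' h₂'
          have hall := hscalmul _ _ _ _ h12 h12'
          have e3 : ρ (g₁ * g₂ * g₁⁻¹ * g₂⁻¹) = ρ g₁ * ρ g₂ * (ρ g₁⁻¹ * ρ g₂⁻¹) := by
            rw [map_mul, map_mul, map_mul, mul_assoc]
          rw [e3, hall]
          have e4 : c₁ * c₂ * (c₁' * c₂') = (c₁ * c₁') * (c₂ * c₂') := by ring
          rw [e4, ← smul_mul_assoc, mul_smul, e2, e1]
        obtain ⟨g₀, hg₀⟩ : ∃ g₀ : Q, ρ g₀ * ρ x ≠ ρ x * ρ g₀ := by
          by_contra hcon
          push Not at hcon
          exact hxZ ((hZ₁mem x).mpr (fun y => (hcon y).symm))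
        have hdim : ∀ μ : K, p * Module.finrank K ((ρ x).eigenspace μ) ≤ d := by
          intro μ
          by_cases hbot : (ρ x).eigenspace μ = ⊥
          · rw [hbot, finrank_bot]; omega
          · obtain ⟨c', hc'⟩ := hscal g₀⁻¹
            have hT : ρ x * ρ g₀ = c' • (ρ g₀ * ρ x) := by
              calc ρ x * ρ g₀ = ρ g₀ * (ρ g₀⁻¹ * ρ x) * ρ g₀ := by
                    rw [← mul_assoc, rep_mul_inv, one_mul]
                _ = ρ g₀ * (c' • (ρ x * ρ g₀⁻¹)) * ρ g₀ := by rw [hc']
                _ = c' • (ρ g₀ * ρ x) := by
                    rw [mul_smul_comm, smul_mul_assoc, mul_assoc, mul_assoc, rep_inv_mul, mul_one]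
            have hc'1 : c' ≠ 1 := by
              intro h
              rw [h, one_smul] at hT
              exact hg₀ hT.symm
            obtain ⟨v₀, hv₀, hv₀0⟩ := (Submodule.ne_bot_iff _).mp hbot
            have hμ0 : μ ≠ 0 := by
              intro h
              rw [h, Module.End.mem_eigenspace_iff, zero_smul] at hv₀
              apply hv₀0
              have h1 := congrArg (ρ x⁻¹) hv₀
              rwa [map_zero, rep_inv_apply] at h1
            have hTi : ∀ i : ℕ, ρ x * ρ g₀ ^ i = c' ^ i • (ρ g₀ ^ i * ρ x) := by
              intro i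
              induction i with
              | zero => simp
              | succ i ihi =>
                calc ρ x * ρ g₀ ^ (i + 1) = (ρ x * ρ g₀ ^ i) * ρ g₀ := by rw [pow_succ, mul_assoc]
                  _ = (c' ^ i • (ρ g₀ ^ i * ρ x)) * ρ g₀ := by rw [ihi]
                  _ = c' ^ i • (ρ g₀ ^ i * (ρ x * ρ g₀)) := by rw [smul_mul_assoc, mul_assoc]
                  _ = c' ^ i • (ρ g₀ ^ i * (c' • (ρ g₀ * ρ x))) := by rw [hT]
                  _ = c' ^ (i + 1) • (ρ g₀ ^ (i + 1) * ρ x) := by
                      rw [mul_smul_comm, smul_smul, ← mul_assoc, ← pow_succ, ← pow_succ]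
            have hmapi : ∀ i : ℕ, ∀ v ∈ (ρ x).eigenspace μ,
                (ρ g₀ ^ i) v ∈ (ρ x).eigenspace (c' ^ i * μ) := by
              intro i v hv
              rw [Module.End.mem_eigenspace_iff] at hv ⊢
              have h1 := congrArg (fun f : Module.End K V => f v) (hTi i)
              simp only [Module.End.mul_apply, LinearMap.smul_apply] at h1
              rw [h1, hv, map_smul, smul_smul]
            obtain ⟨k, hk⟩ := hQ g₀
            have hc'k : c' ^ (p ^ k) = 1 := by
              have h1 := hTi (p ^ k)
              rw [← map_pow, hk, map_one, mul_one, one_mul] at h1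
              have h2 := congrArg (fun f : Module.End K V => f v₀) h1
              simp only [LinearMap.smul_apply] at h2
              have hv₀' := Module.End.mem_eigenspace_iff.mp hv₀
              rw [hv₀'] at h2
              have h3 : (1 : K) • (μ • v₀) = c' ^ (p ^ k) • (μ • v₀) := by rw [one_smul]; exact h2
              have h4 : μ • v₀ ≠ 0 := smul_ne_zero hμ0 hv₀0
              exact (smul_left_injective K h4 h3).symm
            obtain ⟨s, hsk, hcs⟩ :=
              (Nat.dvd_prime_pow hpf.out).mp (orderOf_dvd_of_pow_eq_one hc'k)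
            have hs0 : s ≠ 0 := by
              rintro rfl
              rw [pow_zero, orderOf_eq_one_iff] at hcs
              exact hc'1 hcs
            have hpord : p ≤ orderOf c' := by
              rw [hcs]
              calc p = p ^ 1 := (pow_one p).symm
                _ ≤ p ^ s := Nat.pow_le_pow_right hpf.out.pos (by omega)
            have hinjμ : Function.Injective (fun i : Fin p => c' ^ (i : ℕ) * μ) := by
              intro i j hij
              have h1 : c' ^ (i : ℕ) = c' ^ (j : ℕ) := mul_right_cancel₀ hμ0 hij
              exact Fin.ext (pow_injOn_Iio_orderOf (lt_of_lt_of_le i.2 hpord)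
                (lt_of_lt_of_le j.2 hpord) h1)
            set r := Module.finrank K ((ρ x).eigenspace μ) with hr
            let b := Module.finBasis K ((ρ x).eigenspace μ)
            let w : Fin r × Fin p → V := fun y => (ρ g₀ ^ (y.2 : ℕ)) (b y.1 : V)
            have hw : LinearIndependent K w := by
              rw [Fintype.linearIndependent_iff]
              intro cc hcc
              rw [Fintype.sum_prod_type_right] at hcc
              have hind : iSupIndep (fun i : Fin p => (ρ x).eigenspace (c' ^ (i : ℕ) * μ)) :=
                (Module.End.eigenspaces_iSupIndep (ρ x)).comp hinjμ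
              have hu := (iSupIndep_iff_finsetSum_eq_zero_imp_eq_zero _).mp hind Finset.univ
                (fun i => ∑ k : Fin r, cc (k, i) • w (k, i)) (by
                  intro i _
                  apply Submodule.sum_mem
                  intro k _
                  apply Submodule.smul_mem
                  exact hmapi (i : ℕ) (b k : V) (b k).2) hcc
              rintro ⟨k, i⟩
              have hui := hu i (Finset.mem_univ i)
              have h3 : (ρ g₀ ^ (i : ℕ)) (∑ k' : Fin r, cc (k', i) • (b k' : V)) = 0 := by
                rw [map_sum, ← hui]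
                apply Finset.sum_congr rfl
                intro k' _
                rw [map_smul]
              have hinjg : Function.Injective (ρ g₀ ^ (i : ℕ)) := by
                rw [← map_pow]
                exact rep_injective ρ _
              have h4 : ∑ k' : Fin r, cc (k', i) • (b k' : V) = 0 :=
                hinjg (by rw [h3, map_zero])
              have h5 : ∑ k' : Fin r, cc (k', i) • b k' = 0 := by
                apply Subtype.ext
                rw [Submodule.coe_sum]
                simpa using h4
              exact (Fintype.linearIndependent_iff.mp b.linearIndependent)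
                (fun k' => cc (k', i)) h5 k
            have hfin := hw.fintype_card_le_finrank
            rw [Fintype.card_prod, Fintype.card_fin, Fintype.card_fin, ← hd] at hfin
            rw [mul_comm]
            exact hfin
        have hEC : ∀ μ : K, ∀ c : C, ∀ v ∈ (ρ x).eigenspace μ,
            (ρ.comp C.subtype) c v ∈ (ρ x).eigenspace μ := by
          intro μ c v hv
          rw [Module.End.mem_eigenspace_iff] at hv ⊢
          have hc : ρ (c : Q) * ρ x = ρ x * ρ (c : Q) := (hCmem _).mp c.2
          have h1 := congrArg (fun f : Module.End K V => f v) hc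
          simp only [Module.End.mul_apply] at h1
          show ρ x (ρ (c : Q) v) = μ • ρ (c : Q) v
          rw [← h1, hv, map_smul]
        obtain ⟨c, hc, rfl⟩ := Subgroup.mem_map.mp
          (derivedSeries_succ_le_map C hcommC (Nat.log p d) hg)
        apply eq_one_of_fix_eigenspaces (ρ x) _ (hdiag x)
        intro μ v hv
        by_cases he : Module.finrank K ((ρ x).eigenspace μ) = 0
        · have hbot : (ρ x).eigenspace μ = ⊥ := Submodule.finrank_eq_zero.mp he
          rw [hbot, Submodule.mem_bot] at hv
          rw [hv, map_zero]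
        · have h2 := hdim μ
          have h2' : 2 * Module.finrank K ((ρ x).eigenspace μ) ≤
              p * Module.finrank K ((ρ x).eigenspace μ) :=
            Nat.mul_le_mul_right _ hpf.out.two_le
          have hle : Module.finrank K ((ρ x).eigenspace μ) ≤ n := by omega
          have hmono : derivedSeries C (Nat.log p d) ≤
              derivedSeries C (Nat.log p (Module.finrank K ((ρ x).eigenspace μ)) + 1) := by
            apply derivedSeries_antitone
            rw [← Nat.log_mul_base hpf.out.one_lt he]
            exact Nat.log_mono_right (by rw [mul_comm]; exact h2)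
          have h1 := ih ((ρ x).eigenspace μ) C (hQ.to_subgroup C) hle
            (restrictRep (ρ.comp C.subtype) _ (hEC μ)) c (hmono hc)
          have h3 := congrArg (fun f : Module.End K ((ρ x).eigenspace μ) =>
            ((f ⟨v, hv⟩ : (ρ x).eigenspace μ) : V)) h1
          exact h3


/-- Refined derived-length bound: if all eigenspaces for primitive `p`-th roots of unity have
dimension at most `M`, then the `(⌊log₂ M⌋ + 1)`-th derived subgroup acts trivially. -/
theorem derived_trivial_refined_p (p : ℕ) [hpf : Fact p.Prime] (K : Type u) [Field K]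
    [IsAlgClosed K] (hpK : (p : K) ≠ 0) (V₀ : Type v) [AddCommGroup V₀] [Module K V₀]
    [FiniteDimensional K V₀] (Q : Type w) [Group Q] [Finite Q] (hQ : IsPGroup p Q)
    (ρ₀ : Q →* Module.End K V₀) (M : ℕ)
    (hM : ∀ z : Q, ∀ ζ : K, ζ ≠ 1 → ζ ^ p = 1 →
      Module.finrank K ((ρ₀ z).eigenspace ζ) ≤ M) :
    ∀ (N : ℕ) (E : Submodule K V₀), (∀ g : Q, ∀ v ∈ E, ρ₀ g v ∈ E) → Module.finrank K E ≤ N →
      ∀ g ∈ derivedSeries Q (Nat.log p M + 1), ∀ v ∈ E, ρ₀ g v = v := by
  intro N
  induction N with
  | zero =>
    intro E hE hN g _ v hv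
    have h0 : Module.finrank K E = 0 := Nat.le_zero.mp hN
    have h1 : E = ⊥ := Submodule.finrank_eq_zero.mp h0
    rw [h1, Submodule.mem_bot] at hv
    rw [hv, map_zero]
  | succ N ih =>
    intro E hE hN g hg
    classical
    set ρ : Q →* Module.End K E := restrictRep ρ₀ E hE with hρ
    suffices hsuff : ρ g = 1 by
      intro v hv
      have h2 := congrArg (fun f : Module.End K E => ((f ⟨v, hv⟩ : E) : V₀)) hsuff
      exact h2
    have hdiag := fun x => rep_diagonalizable p hpK hQ ρ x
    by_cases ha : ∀ x y : Q, ρ x * ρ y = ρ y * ρ x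
    · have h1 : derivedSeries Q (Nat.log p M + 1) ≤ derivedSeries Q 1 :=
        derivedSeries_antitone Q (by omega)
      have h2 : g ∈ commutator Q := by
        have := h1 hg
        rwa [derivedSeries_one] at this
      have h3 : commutator Q ≤ (ρ.toHomUnits).ker := by
        rw [commutator_def, Subgroup.commutator_le]
        intro x _ y _
        rw [MonoidHom.mem_ker, commutatorElement_def, map_mul, map_mul, map_mul, map_inv, map_inv]
        have hc : ρ.toHomUnits x * ρ.toHomUnits y = ρ.toHomUnits y * ρ.toHomUnits x := by
          apply Units.ext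
          simp only [Units.val_mul, MonoidHom.coe_toHomUnits]
          exact ha x y
        rw [hc, mul_assoc, mul_assoc, mul_inv_cancel_left, mul_inv_cancel]
      have h4 := h3 h2
      rw [MonoidHom.mem_ker] at h4
      have h5 := congrArg Units.val h4
      rwa [MonoidHom.coe_toHomUnits] at h5
    · by_cases hb : ∃ z : Q, (∀ y, ρ z * ρ y = ρ y * ρ z) ∧
          ¬ ∃ c : K, ρ z = c • (1 : Module.End K E)
      · obtain ⟨z, hz1, hz2⟩ := hb
        apply eq_one_of_fix_eigenspaces (ρ z) (ρ g) (hdiag z)
        intro μ v hv
        have hEinv : ∀ y : Q, ∀ v ∈ (ρ z).eigenspace μ, ρ y v ∈ (ρ z).eigenspace μ := by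
          intro y v hv
          rw [Module.End.mem_eigenspace_iff] at hv ⊢
          have h1 := congrArg (fun f : Module.End K E => f v) (hz1 y)
          simp only [Module.End.mul_apply] at h1
          rw [h1, hv, map_smul]
        have hEne : (ρ z).eigenspace μ ≠ ⊤ := by
          intro htop
          apply hz2
          refine ⟨μ, ?_⟩
          ext v
          have hv : v ∈ (ρ z).eigenspace μ := by rw [htop]; trivial
          rw [Module.End.mem_eigenspace_iff] at hv
          rw [hv]; rfl
        have hlt : Module.finrank K ((ρ z).eigenspace μ) < Module.finrank K E :=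
          Submodule.finrank_lt hEne
        set E' : Submodule K V₀ := ((ρ z).eigenspace μ).map E.subtype with hE'
        have hE'le : Module.finrank K E' ≤ N := by
          have h7 : Module.finrank K E' ≤ Module.finrank K ((ρ z).eigenspace μ) :=
            Submodule.finrank_map_le E.subtype ((ρ z).eigenspace μ)
          omega
        have hE'inv : ∀ y : Q, ∀ u ∈ E', ρ₀ y u ∈ E' := by
          rintro y u ⟨u', hu', rfl⟩
          exact ⟨ρ y u', hEinv y u' hu', rfl⟩
        have h1 := ih E' hE'inv hE'le g hg (v : V₀) ⟨v, hv, rfl⟩
        apply Subtype.ext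
        exact h1
      · push Not at ha hb
        obtain ⟨x₀, y₀, hxy⟩ := ha
        set N₁ : Subgroup Q := (ρ.toHomUnits).ker with hN₁
        have hN₁mem : ∀ a : Q, a ∈ N₁ ↔ ρ a = 1 := by
          intro a
          rw [hN₁, MonoidHom.mem_ker]
          constructor
          · intro h
            have h5 := congrArg Units.val h
            rwa [MonoidHom.coe_toHomUnits] at h5
          · intro h
            apply Units.ext
            rw [MonoidHom.coe_toHomUnits]
            exact h
        have hx₀ : x₀ ∉ N₁ := by
          intro h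
          apply hxy
          rw [(hN₁mem x₀).mp h, one_mul, mul_one]
        haveI : Nontrivial (Q ⧸ N₁) :=
          ⟨⟨QuotientGroup.mk x₀, 1, fun h => hx₀ ((QuotientGroup.eq_one_iff x₀).mp h)⟩⟩
        have hQZ : IsPGroup p (Q ⧸ N₁) := hQ.to_quotient N₁
        haveI := hQZ.center_nontrivial
        obtain ⟨⟨zb, hzb⟩, hzb1⟩ := exists_ne (1 : Subgroup.center (Q ⧸ N₁))
        obtain ⟨z, rfl⟩ := QuotientGroup.mk_surjective zb
        have hzN : z ∉ N₁ := by
          intro h
          apply hzb1
          apply Subtype.ext
          exact (QuotientGroup.eq_one_iff z).mpr h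
        have hzc : ∀ y, ρ z * ρ y = ρ y * ρ z := by
          intro y
          have h1 := Subgroup.mem_center_iff.mp hzb (QuotientGroup.mk y)
          have h2 : ((y * z)⁻¹ * (z * y) : Q) ∈ N₁ := by
            rw [← QuotientGroup.eq_one_iff, QuotientGroup.mk_mul, QuotientGroup.mk_inv,
              QuotientGroup.mk_mul, QuotientGroup.mk_mul, h1, inv_mul_cancel]
          have h3 := (hN₁mem _).mp h2
          rw [map_mul] at h3
          have h4 : ρ (y * z) * (ρ (y * z)⁻¹ * ρ (z * y)) = ρ (y * z) * 1 := by rw [h3]
          rw [← mul_assoc, rep_mul_inv, one_mul, mul_one, map_mul, map_mul] at h4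
          exact h4
        obtain ⟨c, hc⟩ := hb z hzc
        have hc1 : c ≠ 1 := by
          intro h
          apply hzN
          rw [hN₁mem, hc, h, one_smul]
        have hEnt : ∃ v₀ : E, v₀ ≠ 0 := by
          by_contra hcon
          push Not at hcon
          apply hzN
          rw [hN₁mem]
          ext v
          rw [hcon v, map_zero]
          rfl
        obtain ⟨v₀, hv₀⟩ := hEnt
        have hsc : ∀ a : K, a • (1 : Module.End K E) = 1 → a = 1 := by
          intro a h
          have h1 := congrArg (fun f : Module.End K E => f v₀) h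
          simp only [LinearMap.smul_apply, Module.End.one_apply] at h1
          have h2 : a • v₀ = (1 : K) • v₀ := by rw [h1, one_smul]
          exact smul_left_injective K hv₀ h2
        obtain ⟨k, hk⟩ := hQ z
        have hck : c ^ (p ^ k) = 1 := by
          apply hsc
          have h1 : ρ (z ^ (p ^ k)) = 1 := by rw [hk, map_one]
          rw [map_pow, hc, smul_pow, one_pow] at h1
          exact h1
        obtain ⟨i, hik, hci⟩ := (Nat.dvd_prime_pow hpf.out).mp (orderOf_dvd_of_pow_eq_one hck)
        have hi0 : i ≠ 0 := by
          rintro rfl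
          rw [pow_zero, orderOf_eq_one_iff] at hci
          exact hc1 hci
        obtain ⟨i', rfl⟩ : ∃ i', i = i' + 1 := ⟨i - 1, by omega⟩
        set ζ := c ^ (p ^ i') with hζ
        have hζp : ζ ^ p = 1 := by
          rw [hζ, ← pow_mul, ← pow_succ, ← hci]
          exact pow_orderOf_eq_one c
        have hζ1 : ζ ≠ 1 := by
          intro h
          have h1 := orderOf_dvd_of_pow_eq_one h
          rw [hci] at h1
          have h2 := Nat.le_of_dvd (pow_pos hpf.out.pos _) h1
          have h3 : p ^ i' < p ^ (i' + 1) := Nat.pow_lt_pow_right hpf.out.one_lt (by omega)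
          omega
        have hρz' : ρ (z ^ (p ^ i')) = ζ • (1 : Module.End K E) := by
          rw [map_pow, hc, smul_pow, one_pow]
        have hEle : E ≤ (ρ₀ (z ^ (p ^ i'))).eigenspace ζ := by
          intro v hv
          rw [Module.End.mem_eigenspace_iff]
          have h1 := congrArg (fun f : Module.End K E => ((f ⟨v, hv⟩ : E) : V₀)) hρz'
          exact h1
        have hfin : Module.finrank K E ≤ M :=
          (Submodule.finrank_mono hEle).trans (hM _ ζ hζ1 hζp)
        have hmono : derivedSeries Q (Nat.log p M + 1) ≤
            derivedSeries Q (Nat.log p (Module.finrank K E) + 1) := by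
          apply derivedSeries_antitone
          have := Nat.log_mono_right (b := p) hfin
          omega
        exact derived_trivial_of_char_ne_p p K hpK (N + 1) E Q hQ hN ρ g (hmono hg)

/-- A `p`-subgroup of `GL_n(F)`, `F` finite of order prime to `p`, has derived length at most
`⌊log₂ (n / e)⌋ + 1`, `e` the order of `|F|` modulo `p`. -/
theorem gl_derived_fin_p {F : Type*} [Field F] [Fintype F] (p : ℕ) [hpf : Fact p.Prime]
    (hpq : ¬ p ∣ Fintype.card F) (n : ℕ)
    (P : Subgroup (GL (Fin n) F)) (hP : IsPGroup p P) :
    derivedSeries ↥P (Nat.log p (n / orderOf ((Fintype.card F : ℕ) : ZMod p)) + 1) = ⊥ := by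
  classical
  have hepos : 0 < orderOf ((Fintype.card F : ℕ) : ZMod p) := by
    rw [orderOf_pos_iff, isOfFinOrder_iff_pow_eq_one]
    refine ⟨p - 1, by have := hpf.out.two_le; omega, ?_⟩
    apply ZMod.pow_card_sub_one_eq_one
    intro h
    exact hpq ((ZMod.natCast_eq_zero_iff _ _).mp h)
  have hpF : (p : F) ≠ 0 := by
    intro h
    obtain ⟨p', hp'⟩ := CharP.exists F
    haveI := hp'
    obtain ⟨f, hp'prime, hcard⟩ := FiniteField.card F p'
    have h1 := (CharP.cast_eq_zero_iff F p' p).mp h
    have h2 : p' = p := (Nat.prime_dvd_prime_iff_eq hp'prime hpf.out).mp h1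
    apply hpq
    rw [hcard, h2]
    exact dvd_pow_self p (PNat.ne_zero f)
  have hpK : (p : AlgebraicClosure F) ≠ 0 := by
    intro h
    apply hpF
    have h1 : algebraMap F (AlgebraicClosure F) (p : F) = 0 := by rw [map_natCast]; exact h
    exact (map_eq_zero (algebraMap F (AlgebraicClosure F))).mp h1
  rw [eq_bot_iff]
  intro g hg
  rw [Subgroup.mem_bot]
  let ρ₁ : ↥P →* Module.End (AlgebraicClosure F) (Fin n → AlgebraicClosure F) :=
    (MonoidHomClass.toMonoidHom (Matrix.toLinAlgEquiv' :
      Matrix (Fin n) (Fin n) (AlgebraicClosure F) ≃ₐ[AlgebraicClosure F]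
        Module.End (AlgebraicClosure F) (Fin n → AlgebraicClosure F))).comp
      ((MonoidHomClass.toMonoidHom ((algebraMap F (AlgebraicClosure F)).mapMatrix :
        Matrix (Fin n) (Fin n) F →+* Matrix (Fin n) (Fin n) (AlgebraicClosure F))).comp
        ((Units.coeHom (Matrix (Fin n) (Fin n) F)).comp P.subtype))
  have hinj : Function.Injective ρ₁ := by
    intro a b hab
    have h2 : (Matrix.toLinAlgEquiv' : Matrix (Fin n) (Fin n) (AlgebraicClosure F) ≃ₐ[AlgebraicClosure F] _)
          ((((a : GL (Fin n) F) : Matrix (Fin n) (Fin n) F)).map (algebraMap F (AlgebraicClosure F))) =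
        (Matrix.toLinAlgEquiv' : Matrix (Fin n) (Fin n) (AlgebraicClosure F) ≃ₐ[AlgebraicClosure F] _)
          ((((b : GL (Fin n) F) : Matrix (Fin n) (Fin n) F)).map (algebraMap F (AlgebraicClosure F))) := hab
    have h3 := Matrix.toLinAlgEquiv'.injective h2
    have h4 := Matrix.map_injective (algebraMap F (AlgebraicClosure F)).injective h3
    exact Subtype.ext (Units.ext h4)
  have hM : ∀ z : ↥P, ∀ ζ : AlgebraicClosure F, ζ ≠ 1 → ζ ^ p = 1 →
      Module.finrank (AlgebraicClosure F) ((ρ₁ z).eigenspace ζ) ≤
        n / orderOf ((Fintype.card F : ℕ) : ZMod p) := by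
    intro z ζ hζ1 hζp
    rw [Nat.le_div_iff_mul_le hepos]
    exact frob_eigen_bound (AlgebraicClosure F) p hpq n
      ((z : GL (Fin n) F) : Matrix (Fin n) (Fin n) F) ζ hζ1 hζp
  have h1 := derived_trivial_refined_p p (AlgebraicClosure F) hpK (Fin n → AlgebraicClosure F) ↥P hP
    ρ₁ (n / orderOf ((Fintype.card F : ℕ) : ZMod p)) hM n ⊤ (fun _ _ _ => Submodule.mem_top)
    (by rw [finrank_top, Module.finrank_fin_fun]) g hg
  apply hinj
  rw [map_one]
  apply LinearMap.ext
  intro v
  exact h1 v Submodule.mem_top

end Cfsg.Agent.Helper22
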