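import Mathlib
import Cfsg.Agent.Helper22.GLDer4

set_option autoImplicit false

namespace Cfsg.Agent.Helper22

universe u

section

variable {F : Type*} [Field F]

/-- The wreath (induced) representation of `D ≀ᵣ Q` on `Q → V`. -/
noncomputable def wreathRep {V D Q : Type*} [AddCommGroup V] [Module F V] [Group D] [Group Q]
    (ρ : D →* Module.End F V) : D ≀ᵣ Q →* Module.End F (Q → V) where
  toFun a :=
    { toFun := fun φ y => ρ (a.left y) (φ (a.right⁻¹ * y))
      map_add' := by
        intro φ ψ
        funext y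
        simp
      map_smul' := by
        intro c φ
        funext y
        simp }
  map_one' := by
    apply LinearMap.ext
    intro φ
    funext y
    show ρ ((1 : D ≀ᵣ Q).left y) (φ ((1 : D ≀ᵣ Q).right⁻¹ * y)) = φ y
    simp
  map_mul' a b := by
    apply LinearMap.ext
    intro φ
    funext y
    show ρ ((a * b).left y) (φ ((a * b).right⁻¹ * y)) =
      ρ (a.left y) (ρ (b.left (a.right⁻¹ * y)) (φ (b.right⁻¹ * (a.right⁻¹ * y))))
    rw [RegularWreathProduct.mul_left, RegularWreathProduct.mul_right, Pi.mul_apply, map_mul,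
      mul_inv_rev, mul_assoc]
    rfl

theorem wreathRep_injective {V D Q : Type*} [AddCommGroup V] [Module F V] [Nontrivial V]
    [Group D] [Group Q] [DecidableEq Q] (ρ : D →* Module.End F V) (hρ : Function.Injective ρ) :
    Function.Injective (wreathRep (Q := Q) ρ) := by
  intro a b hab
  obtain ⟨v, hv⟩ := exists_ne (0 : V)
  have key : ∀ (φ : Q → V) (y : Q),
      ρ (a.left y) (φ (a.right⁻¹ * y)) = ρ (b.left y) (φ (b.right⁻¹ * y)) := by
    intro φ y
    exact congrFun (congrArg (fun T : Module.End F (Q → V) => T φ) hab) y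
  have hr : a.right = b.right := by
    by_contra hne
    have h1 := key (Pi.single (a.right⁻¹ * 1) v) 1
    have hne' : b.right⁻¹ * 1 ≠ a.right⁻¹ * 1 := by
      intro h
      apply hne
      rw [mul_one, mul_one] at h
      exact (inv_injective h).symm
    rw [Pi.single_eq_same, Pi.single_eq_of_ne hne', map_zero] at h1
    exact hv (rep_injective ρ _ (by rw [h1, map_zero]))
  apply RegularWreathProduct.ext
  · funext y
    apply hρ
    apply LinearMap.ext
    intro v'
    exact key (fun _ => v') y
  · exact hr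

end

theorem orderOf_card_zmod_pos {F : Type*} [Field F] [Fintype F] (p : ℕ) [hpf : Fact p.Prime]
    (hpq : ¬ p ∣ Fintype.card F) : 0 < orderOf ((Fintype.card F : ℕ) : ZMod p) := by
  rw [orderOf_pos_iff, isOfFinOrder_iff_pow_eq_one]
  refine ⟨p - 1, by have := hpf.out.two_le; omega, ?_⟩
  apply ZMod.pow_card_sub_one_eq_one
  intro h
  exact hpq ((ZMod.natCast_eq_zero_iff _ _).mp h)

/-- A space of dimension at most `e = ord_p(q)` over `F` with an automorphism of order `p`. -/
theorem exists_order_p_rep {F : Type u} [Field F] [Fintype F] (p : ℕ) [hpf : Fact p.Prime]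
    (hpq : ¬ p ∣ Fintype.card F) :
    ∃ (V : Type u) (_ : AddCommGroup V) (_ : Module F V) (_ : Module.Finite F V)
      (_ : Nontrivial V) (T : Module.End F V),
      Module.finrank F V ≤ orderOf ((Fintype.card F : ℕ) : ZMod p) ∧ T ^ p = 1 ∧ T ≠ 1 := by
  classical
  obtain ⟨p', hp'⟩ := CharP.exists F
  haveI := hp'
  obtain ⟨f, hp'prime, hcard⟩ := FiniteField.card F p'
  haveI : Fact p'.Prime := ⟨hp'prime⟩
  haveI : CharP (AlgebraicClosure F) p' :=
    charP_of_injective_algebraMap (algebraMap F (AlgebraicClosure F)).injective p'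
  haveI : ExpChar (AlgebraicClosure F) p' := ExpChar.prime hp'prime
  have hepos := orderOf_card_zmod_pos p hpq
  set q := Fintype.card F with hq
  set e := orderOf ((q : ℕ) : ZMod p) with he
  have hq1 : 1 < q := Fintype.one_lt_card
  have hpF : (p : F) ≠ 0 := by
    intro h
    have h1 := (CharP.cast_eq_zero_iff F p' p).mp h
    have h2 : p' = p := (Nat.prime_dvd_prime_iff_eq hp'prime hpf.out).mp h1
    apply hpq
    rw [hcard, h2]
    exact dvd_pow_self p (PNat.ne_zero f)
  have hpK : (p : AlgebraicClosure F) ≠ 0 := by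
    intro h
    apply hpF
    have h1 : algebraMap F (AlgebraicClosure F) (p : F) = 0 := by rw [map_natCast]; exact h
    exact (map_eq_zero (algebraMap F (AlgebraicClosure F))).mp h1
  let τ : AlgebraicClosure F →+* AlgebraicClosure F :=
    iterateFrobenius (AlgebraicClosure F) p' ((f : ℕ) * e)
  have hτ : ∀ x, τ x = x ^ (q ^ e) := by
    intro x
    show iterateFrobenius (AlgebraicClosure F) p' ((f : ℕ) * e) x = x ^ (q ^ e)
    rw [iterateFrobenius_def, hcard, ← pow_mul]
  have hτF : ∀ a : F, τ (algebraMap F (AlgebraicClosure F) a) =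
      algebraMap F (AlgebraicClosure F) a := by
    intro a
    rw [hτ, ← map_pow, hq, FiniteField.pow_card_pow]
  let τa : AlgebraicClosure F →ₐ[F] AlgebraicClosure F := { τ with commutes' := hτF }
  let S : Subalgebra F (AlgebraicClosure F) :=
    AlgHom.equalizer τa (AlgHom.id F (AlgebraicClosure F))
  have hSmem : ∀ x : AlgebraicClosure F, x ∈ S ↔ x ^ (q ^ e) = x := by
    intro x
    rw [AlgHom.mem_equalizer]
    show τ x = x ↔ _
    rw [hτ]
  have hpoly_ne : (Polynomial.X ^ q ^ e - Polynomial.X : Polynomial (AlgebraicClosure F)) ≠ 0 :=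
    FiniteField.X_pow_card_pow_sub_X_ne_zero (AlgebraicClosure F) hepos.ne' hq1
  have hsub : (S : Set (AlgebraicClosure F)) ⊆
      ((Polynomial.X ^ q ^ e - Polynomial.X : Polynomial (AlgebraicClosure F)).roots.toFinset :
        Set (AlgebraicClosure F)) := by
    intro x hx
    rw [Finset.mem_coe, Multiset.mem_toFinset, Polynomial.mem_roots hpoly_ne,
      Polynomial.IsRoot.def]
    simp only [Polynomial.eval_sub, Polynomial.eval_pow, Polynomial.eval_X]
    rw [(hSmem x).mp hx, sub_self]
  have hSfin : (S : Set (AlgebraicClosure F)).Finite :=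
    Set.Finite.subset (Finset.finite_toSet _) hsub
  haveI : Finite ↥S := hSfin.to_subtype
  haveI : Fintype ↥S := Fintype.ofFinite _
  have hcardS : Nat.card ↥S ≤ q ^ e := by
    have h1 := Nat.card_mono (Finset.finite_toSet _) hsub
    calc Nat.card ↥S ≤ _ := h1
      _ = ((Polynomial.X ^ q ^ e - Polynomial.X :
            Polynomial (AlgebraicClosure F)).roots.toFinset).card := by
          rw [Nat.card_coe_set_eq, Set.ncard_coe_finset]
      _ ≤ (Polynomial.X ^ q ^ e - Polynomial.X :
            Polynomial (AlgebraicClosure F)).roots.card := Multiset.toFinset_card_le _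
      _ ≤ (Polynomial.X ^ q ^ e - Polynomial.X :
            Polynomial (AlgebraicClosure F)).natDegree := Polynomial.card_roots' _
      _ = q ^ e :=
          FiniteField.X_pow_card_pow_sub_X_natDegree_eq (AlgebraicClosure F) hepos.ne' hq1
  have hfr : Module.finrank F ↥S ≤ e := by
    have h1 := Module.card_eq_pow_finrank (K := F) (V := ↥S)
    rw [← Nat.card_eq_fintype_card] at h1
    rw [h1] at hcardS
    exact (Nat.pow_le_pow_iff_right hq1).mp hcardS
  haveI : NeZero ((p : ℕ) : AlgebraicClosure F) := ⟨hpK⟩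
  obtain ⟨ζ, hζ⟩ := IsAlgClosed.exists_root (Polynomial.cyclotomic p (AlgebraicClosure F)) (by
    rw [Polynomial.degree_cyclotomic, Nat.totient_prime hpf.out]
    have := hpf.out.two_le
    intro h
    have h2 : p - 1 = 0 := by exact_mod_cast h
    omega)
  have hprim : IsPrimitiveRoot ζ p := Polynomial.isRoot_cyclotomic_iff.mp hζ
  have hζp : ζ ^ p = 1 := hprim.pow_eq_one
  have hζ1 : ζ ≠ 1 := hprim.ne_one hpf.out.one_lt
  have hζS : ζ ∈ S := by
    rw [hSmem]
    have h1 : ((q : ℕ) : ZMod p) ^ e = 1 := pow_orderOf_eq_one _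
    have hqe : 1 ≤ q ^ e := Nat.one_le_pow _ _ (by omega)
    have h2 : ((q ^ e - 1 : ℕ) : ZMod p) = 0 := by
      rw [Nat.cast_sub hqe, Nat.cast_pow, Nat.cast_one, h1, sub_self]
    obtain ⟨m, hm⟩ := (ZMod.natCast_eq_zero_iff _ _).mp h2
    have h3 : q ^ e = p * m + 1 := by omega
    rw [h3, pow_succ, pow_mul, hζp, one_pow, one_mul]
  let ζ' : ↥S := ⟨ζ, hζS⟩
  refine ⟨↥S, inferInstance, inferInstance, inferInstance, ⟨⟨0, 1, ?_⟩⟩,
    Algebra.lmul F ↥S ζ', hfr, ?_, ?_⟩
  · intro h
    have := congrArg Subtype.val h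
    exact zero_ne_one this
  · rw [← map_pow]
    have h1 : ζ' ^ p = 1 := Subtype.ext (by simpa using hζp)
    rw [h1, map_one]
  · intro h
    have h1 : Algebra.lmul F ↥S ζ' = Algebra.lmul F ↥S 1 := by rw [h, map_one]
    have h2 := Algebra.lmul_injective h1
    exact hζ1 (congrArg Subtype.val h2)

/-- Faithful representations of the iterated wreath products. -/
theorem exists_iwp_rep {F : Type u} [Field F] (Q : Type u) [Group Q] [Fintype Q] [DecidableEq Q]
    (V₀ : Type u) [AddCommGroup V₀] [Module F V₀] [Module.Finite F V₀] [Nontrivial V₀]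
    (ρ₀ : Q →* Module.End F V₀) (hρ₀ : Function.Injective ρ₀) :
    ∀ j : ℕ, ∃ (V : Type u) (_ : AddCommGroup V) (_ : Module F V) (_ : Module.Finite F V)
      (_ : Nontrivial V) (ρ : IteratedWreathProduct Q (j + 1) →* Module.End F V),
      Module.finrank F V = Module.finrank F V₀ * Fintype.card Q ^ j ∧ Function.Injective ρ := by
  intro j
  induction j with
  | zero =>
    haveI : Subsingleton (IteratedWreathProduct Q 0) := by
      rw [IteratedWreathProduct_zero]
      infer_instance
    refine ⟨V₀, inferInstance, inferInstance, inferInstance, inferInstance,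
      (ρ₀.comp (RegularWreathProduct.rightHom (D := IteratedWreathProduct Q 0) (Q := Q)) :
        IteratedWreathProduct Q 0 ≀ᵣ Q →* Module.End F V₀), by rw [pow_zero, mul_one], ?_⟩
    intro a b hab
    have h1 : (a : IteratedWreathProduct Q 0 ≀ᵣ Q).right =
        (b : IteratedWreathProduct Q 0 ≀ᵣ Q).right := hρ₀ hab
    apply RegularWreathProduct.ext (D := IteratedWreathProduct Q 0) (Q := Q)
    · funext y
      exact Subsingleton.elim _ _
    · exact h1
  | succ j ih =>
    obtain ⟨V, i1, i2, i3, i4, ρ, hfin, hinj⟩ := ih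
    refine ⟨Q → V, inferInstance, inferInstance, inferInstance, inferInstance,
      (wreathRep (Q := Q) ρ : IteratedWreathProduct Q (j + 1) ≀ᵣ Q →* Module.End F (Q → V)),
      ?_, ?_⟩
    · rw [Module.finrank_pi_fintype F (ι := Q) (M := fun _ => V), Finset.sum_const,
        Finset.card_univ, smul_eq_mul, hfin, pow_succ]
      ring
    · exact wreathRep_injective ρ hinj

/-- A faithful representation of dimension at most `n` gives an embedding into `GL_n`. -/
theorem exists_gl_embedding {F : Type u} [Field F] {W : Type u} [Group W] (V : Type u)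
    [AddCommGroup V] [Module F V] [Module.Finite F V] (ρ : W →* Module.End F V)
    (hρ : Function.Injective ρ) (n : ℕ) (hn : Module.finrank F V ≤ n) :
    ∃ γ : W →* GL (Fin n) F, Function.Injective γ := by
  classical
  have hfin : Module.finrank F (V × (Fin (n - Module.finrank F V) → F)) = n := by
    rw [Module.finrank_prod, Module.finrank_fin_fun]
    omega
  let b := Module.finBasisOfFinrankEq F (V × (Fin (n - Module.finrank F V) → F)) hfin
  let ρ' : W →* Module.End F (V × (Fin (n - Module.finrank F V) → F)) :=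
    { toFun := fun w => LinearMap.prodMap (ρ w) LinearMap.id
      map_one' := by
        rw [map_one]
        apply LinearMap.ext
        rintro ⟨x, y⟩
        rfl
      map_mul' := by
        intro a c
        rw [map_mul]
        apply LinearMap.ext
        rintro ⟨x, y⟩
        rfl }
  have hρ' : Function.Injective ρ' := by
    intro a c hac
    apply hρ
    apply LinearMap.ext
    intro x
    have h1 := congrArg
      (fun T : Module.End F (V × (Fin (n - Module.finrank F V) → F)) => (T (x, 0)).1) hac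
    exact h1
  let μ : W →* Matrix (Fin n) (Fin n) F :=
    (MonoidHomClass.toMonoidHom (LinearMap.toMatrixAlgEquiv b)).comp ρ'
  have hμ : Function.Injective μ := (LinearMap.toMatrixAlgEquiv b).injective.comp hρ'
  refine ⟨μ.toHomUnits, ?_⟩
  intro a c hac
  apply hμ
  have h1 := congrArg Units.val hac
  rwa [MonoidHom.coe_toHomUnits, MonoidHom.coe_toHomUnits] at h1

/-- The `⌊log_p (n / e)⌋`-th derived subgroup of a Sylow `p`-subgroup of `GL_n(F)` is
nontrivial. -/
theorem gl_sylow_derived_ne_bot {F : Type u} [Field F] [Fintype F] (p : ℕ) [hpf : Fact p.Prime]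
    (hpq : ¬ p ∣ Fintype.card F) (n : ℕ) (hen : orderOf ((Fintype.card F : ℕ) : ZMod p) ≤ n)
    (P : Sylow p (GL (Fin n) F)) :
    derivedSeries ↥(P : Subgroup (GL (Fin n) F))
      (Nat.log p (n / orderOf ((Fintype.card F : ℕ) : ZMod p))) ≠ ⊥ := by
  classical
  have hepos := orderOf_card_zmod_pos p hpq
  set e := orderOf ((Fintype.card F : ℕ) : ZMod p) with he
  set k := Nat.log p (n / e) with hkdef
  have hk : e * p ^ k ≤ n := by
    have h1 : n / e ≠ 0 := (Nat.div_pos hen hepos).ne'
    have h2 := Nat.pow_log_le_self p h1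
    calc e * p ^ k ≤ e * (n / e) := Nat.mul_le_mul_left e h2
      _ ≤ n := Nat.mul_div_le n e
  obtain ⟨V₀, i1, i2, i3, i4, T, hV₀, hTp, hT1⟩ := exists_order_p_rep p hpq
  let u : (Module.End F V₀)ˣ :=
    ⟨T, T ^ (p - 1), by rw [← pow_succ', Nat.sub_add_cancel hpf.out.one_le, hTp],
      by rw [← pow_succ, Nat.sub_add_cancel hpf.out.one_le, hTp]⟩
  have hup : u ^ p = 1 := Units.ext (by
    rw [Units.val_pow_eq_pow_val]
    exact hTp)
  have hu1 : u ≠ 1 := fun h => hT1 (congrArg Units.val h)
  have hord : orderOf u = p := orderOf_eq_prime hup hu1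
  have hQcard : Nat.card (Subgroup.zpowers u) = p := by rw [Nat.card_zpowers, hord]
  haveI : Finite (Subgroup.zpowers u) :=
    Nat.finite_of_card_ne_zero (by rw [hQcard]; exact hpf.out.ne_zero)
  haveI : Fintype (Subgroup.zpowers u) := Fintype.ofFinite _
  have hQcomm : ∀ a b : Subgroup.zpowers u, a * b = b * a := by
    rintro ⟨a, ha⟩ ⟨b, hb⟩
    obtain ⟨i, rfl⟩ := Subgroup.mem_zpowers_iff.mp ha
    obtain ⟨j, rfl⟩ := Subgroup.mem_zpowers_iff.mp hb
    apply Subtype.ext
    show u ^ i * u ^ j = u ^ j * u ^ i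
    rw [← zpow_add, ← zpow_add, add_comm]
  obtain ⟨s, hs⟩ : ∃ s : Subgroup.zpowers u, s ≠ 1 :=
    ⟨⟨u, Subgroup.mem_zpowers u⟩, fun h => hu1 (congrArg Subtype.val h)⟩
  let ρ₀ : Subgroup.zpowers u →* Module.End F V₀ :=
    (Units.coeHom _).comp (Subgroup.subtype _)
  have hρ₀ : Function.Injective ρ₀ := fun a b h => Subtype.ext (Units.ext h)
  obtain ⟨V, j1, j2, j3, j4, ρ, hfinV, hρ⟩ := exists_iwp_rep (Subgroup.zpowers u) V₀ ρ₀ hρ₀ k
  have hdim : Module.finrank F V ≤ n := by
    rw [hfinV, ← Nat.card_eq_fintype_card, hQcard]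
    calc Module.finrank F V₀ * p ^ k ≤ e * p ^ k := Nat.mul_le_mul_right _ hV₀
      _ ≤ n := hk
  obtain ⟨γ, hγ⟩ := exists_gl_embedding V ρ hρ n hdim
  have hW : derivedSeries (IteratedWreathProduct (Subgroup.zpowers u) (k + 1)) k ≠ ⊥ :=
    iterated_derived (Subgroup.zpowers u) hQcomm s hs k
  have hWp : IsPGroup p (IteratedWreathProduct (Subgroup.zpowers u) (k + 1)) := by
    apply IsPGroup.of_card (n := ∑ i ∈ Finset.range (k + 1), p ^ i)
    rw [IteratedWreathProduct.card, hQcard]
  have hrange : IsPGroup p γ.range := hWp.of_equiv (MonoidHom.ofInjective hγ)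
  obtain ⟨P', hP'⟩ := hrange.exists_le_sylow
  let φ : IteratedWreathProduct (Subgroup.zpowers u) (k + 1) →*
      ↥(P : Subgroup (GL (Fin n) F)) :=
    (P'.equiv P).toMonoidHom.comp ((Subgroup.inclusion hP').comp γ.rangeRestrict)
  have hφ : Function.Injective φ := by
    apply (MulEquiv.injective _).comp
    apply (Subgroup.inclusion_injective hP').comp
    exact MonoidHom.rangeRestrict_injective_iff.mpr hγ
  obtain ⟨w, hw1⟩ := (Subgroup.ne_bot_iff_exists_ne_one.mp hW)
  intro h0
  have h1 : φ w ∈ derivedSeries ↥(P : Subgroup (GL (Fin n) F)) k :=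
    map_derivedSeries_le_derivedSeries φ k (Subgroup.mem_map_of_mem φ w.2)
  rw [h0, Subgroup.mem_bot] at h1
  have h2 : (w : IteratedWreathProduct (Subgroup.zpowers u) (k + 1)) = 1 :=
    hφ (h1.trans (map_one φ).symm)
  exact hw1 (Subtype.ext h2)

end Cfsg.Agent.Helper22
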