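import Mathlib
import Cfsg.Prelude
import Cfsg.Agent.S0001
import Cfsg.Agent.S0003
import Cfsg.Agent.S0048
import Cfsg.Agent.S0650

set_option autoImplicit false

open Pointwise

namespace Cfsg.Agent.Helper22

universe u

/-- In a finite cyclic group, subgroups of the same order are equal. -/
theorem subgroup_eq_of_card_eq_of_isCyclic {C : Type*} [Group C] [Finite C] [IsCyclic C]
    (A B : Subgroup C) (h : Nat.card A = Nat.card B) : A = B := by
  classical
  haveI := Fintype.ofFinite C
  have key : ∀ D : Subgroup C, (D : Set C) = {x : C | x ^ Nat.card D = 1} := by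
    intro D
    have hpos : 0 < Nat.card D := Nat.card_pos
    have hsub : (D : Set C).toFinset ⊆ Finset.univ.filter (fun a : C => a ^ Nat.card D = 1) := by
      intro x hx
      rw [Set.mem_toFinset] at hx
      rw [Finset.mem_filter]
      refine ⟨Finset.mem_univ _, ?_⟩
      have h1 : (⟨x, hx⟩ : D) ^ Nat.card D = 1 := pow_card_eq_one'
      exact congrArg Subtype.val h1
    have hcard : (Finset.univ.filter (fun a : C => a ^ Nat.card D = 1)).card ≤
        ((D : Set C).toFinset).card := by
      refine (IsCyclic.card_pow_eq_one_le hpos).trans ?_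
      rw [Set.toFinset_card, ← Nat.card_eq_fintype_card]
      exact le_of_eq rfl
    have heq := Finset.eq_of_subset_of_card_le hsub hcard
    ext x
    constructor
    · intro hx
      have h1 : x ∈ (D : Set C).toFinset := Set.mem_toFinset.mpr hx
      rw [heq, Finset.mem_filter] at h1
      exact h1.2
    · intro hx
      have h1 : x ∈ Finset.univ.filter (fun a : C => a ^ Nat.card D = 1) :=
        Finset.mem_filter.mpr ⟨Finset.mem_univ _, hx⟩
      rw [← heq] at h1
      exact Set.mem_toFinset.mp h1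
  apply SetLike.coe_injective
  rw [key A, key B, h]

/-- Elementwise description of conjugate subgroups. -/
theorem mem_conj_smul_iff' {G : Type*} [Group G] (g : G) (S : Subgroup G) (x : G) :
    x ∈ MulAut.conj g • S ↔ ∃ s ∈ S, g * s * g⁻¹ = x := by
  rw [Subgroup.mem_smul_pointwise_iff_exists]
  simp only [MulAut.smul_def, MulAut.conj_apply]

theorem conj_mul_smul_aux {G : Type*} [Group G] (g : G) (U : Subgroup G) :
    MulAut.conj g⁻¹ • MulAut.conj g • U = U := by
  rw [← S0001.conj_mul_smul, inv_mul_cancel, map_one, one_smul]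

/-- If all primary subgroups are cyclic, then primary subgroups of the same order are
conjugate. -/
theorem conj_of_cyclic_primary {G : Type*} [Group G] [Finite G]
    (hcyc : ∀ p : ℕ, p.Prime → ∀ U : Subgroup G, IsPGroup p U → IsCyclic U)
    (p : ℕ) (hp : p.Prime) (H K : Subgroup G) (hH : IsPGroup p H) (hK : IsPGroup p K)
    (hcard : Nat.card H = Nat.card K) : ∃ g : G, MulAut.conj g • H = K := by
  haveI : Fact p.Prime := ⟨hp⟩
  obtain ⟨P, hHP⟩ := hH.exists_le_sylow
  obtain ⟨Q, hKQ⟩ := hK.exists_le_sylow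
  obtain ⟨g, hg⟩ := MulAction.exists_smul_eq G P Q
  have hgQ : MulAut.conj g • (P : Subgroup G) = (Q : Subgroup G) := by
    rw [← Sylow.coe_subgroup_smul, hg]
  have hle : MulAut.conj g • H ≤ (Q : Subgroup G) := by
    rw [← hgQ]
    exact Subgroup.pointwise_smul_le_pointwise_smul_iff.mpr hHP
  haveI : IsCyclic (Q : Subgroup G) := hcyc p hp _ Q.2
  have h1 : (MulAut.conj g • H).subgroupOf (Q : Subgroup G) = K.subgroupOf (Q : Subgroup G) := by
    apply subgroup_eq_of_card_eq_of_isCyclic
    rw [S0001.card_subgroupOf_of_le hle, S0001.card_subgroupOf_of_le hKQ, S0001.card_conj_smul,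
      hcard]
  refine ⟨g, ?_⟩
  have h2 := congrArg (Subgroup.map (Q : Subgroup G).subtype) h1
  rwa [Subgroup.map_subgroupOf_eq_of_le hle, Subgroup.map_subgroupOf_eq_of_le hKQ] at h2

/-- Lifting a `p`-subgroup of the quotient by a normal subgroup of prime order. -/
theorem lift_primary {G : Type*} [Group G] [Finite G] (N : Subgroup G) [N.Normal] (q : ℕ)
    (hq : q.Prime) (hN : Nat.card N = q) (p : ℕ) (hp : p.Prime) (Ub : Subgroup (G ⧸ N))
    (hUb : IsPGroup p Ub) :
    ∃ U : Subgroup G, IsPGroup p U ∧ U.map (QuotientGroup.mk' N) = Ub ∧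
      Nat.card U = (if p = q then q else 1) * Nat.card Ub := by
  haveI : Fact p.Prime := ⟨hp⟩
  obtain ⟨k, hk⟩ := IsPGroup.iff_card.mp hUb
  obtain ⟨U', hU'def⟩ : ∃ U' : Subgroup G, U' = Ub.comap (QuotientGroup.mk' N) := ⟨_, rfl⟩
  have hNU' : N ≤ U' := by
    intro x hx
    rw [hU'def, Subgroup.mem_comap]
    have h1 : QuotientGroup.mk' N x = 1 := (QuotientGroup.eq_one_iff x).mpr hx
    rw [h1]
    exact Ub.one_mem
  have hmapU' : U'.map (QuotientGroup.mk' N) = Ub := by
    rw [hU'def]
    exact Subgroup.map_comap_eq_self_of_surjective (QuotientGroup.mk'_surjective N) Ub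
  have hcardU' : Nat.card U' = Nat.card Ub * q := by
    have h1 := S0001.card_map_mk_mul_card hNU'
    rw [hmapU', hN] at h1
    exact h1.symm
  by_cases hpq : p = q
  · refine ⟨U', ?_, hmapU', ?_⟩
    · apply IsPGroup.of_card (n := k + 1)
      rw [hcardU', hk, ← hpq, pow_succ]
    · rw [if_pos hpq, hcardU', mul_comm]
  · have hdvd : p ^ k ∣ Nat.card U' := by
      rw [hcardU', hk]
      exact dvd_mul_right _ _
    obtain ⟨S, hS⟩ := Sylow.exists_subgroup_card_pow_prime p hdvd
    obtain ⟨U, hUdef⟩ : ∃ U : Subgroup G, U = S.map U'.subtype := ⟨_, rfl⟩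
    have hUcard : Nat.card U = p ^ k := by
      rw [hUdef, Subgroup.card_map_of_injective U'.subtype_injective, hS]
    have hUU' : U ≤ U' := by
      rw [hUdef]
      exact Subgroup.map_subtype_le S
    have hdisj : N ⊓ U = ⊥ := by
      apply Subgroup.eq_bot_of_card_eq
      have h1 : Nat.card (N ⊓ U : Subgroup G) ∣ q := hN ▸ Subgroup.card_dvd_of_le inf_le_left
      have h2 : Nat.card (N ⊓ U : Subgroup G) ∣ p ^ k := hUcard ▸ Subgroup.card_dvd_of_le inf_le_right
      exact Nat.eq_one_of_dvd_coprimes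
        (Nat.Coprime.pow_right k ((Nat.coprime_primes hq hp).mpr (Ne.symm hpq))) h1 h2
    have hcardmap : Nat.card (U.map (QuotientGroup.mk' N)) = Nat.card U :=
      S0001.card_map_mk_of_disjoint hdisj
    refine ⟨U, IsPGroup.of_card hUcard, ?_, ?_⟩
    · apply Subgroup.eq_of_le_of_card_ge
      · rw [← hmapU']
        exact Subgroup.map_mono hUU'
      · rw [hcardmap, hUcard, hk]
    · rw [if_neg hpq, one_mul, hUcard, hk]

/-- Uniqueness of the `r`-part. -/
theorem pow_part_unique {r a b m m' : ℕ} (hr : r.Prime) (h : r ^ a * m = r ^ b * m')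
    (hm : ¬ r ∣ m) (hm' : ¬ r ∣ m') : a = b ∧ m = m' := by
  have key : ∀ (a b m m' : ℕ), r ^ a * m = r ^ b * m' → ¬ r ∣ m → a < b → False := by
    intro a b m m' h hm hab
    obtain ⟨d, rfl⟩ : ∃ d, b = a + (d + 1) := ⟨b - a - 1, by omega⟩
    rw [pow_add, mul_assoc] at h
    have h1 := Nat.eq_of_mul_eq_mul_left (pow_pos hr.pos a) h
    apply hm
    rw [h1, pow_succ, mul_assoc, mul_comm r, ← mul_assoc]
    exact dvd_mul_left r _
  have hab : a = b := by
    rcases Nat.lt_trichotomy a b with h1 | h1 | h1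
    · exact absurd (key a b m m' h hm h1) id
    · exact h1
    · exact absurd (key b a m' m h.symm hm' h1) id
  refine ⟨hab, ?_⟩
  subst hab
  exact Nat.eq_of_mul_eq_mul_left (pow_pos hr.pos a) h

/-- A Hall complement to a normal Sylow part inside a solvable subgroup. -/
theorem hall_part {G : Type u} [Group G] [Finite G] [Group.IsSolvable G] (r : ℕ) (hr : r.Prime)
    (X U : Subgroup G) (a m : ℕ) (hX : Nat.card X = r ^ a * m) (hm : ¬ r ∣ m) (hUX : U ≤ X)
    (hU : Nat.card U = r ^ a) : ∃ A : Subgroup G, A ≤ X ∧ Nat.card A = m ∧ U ⊔ A = X := by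
  have hcop : m.Coprime (r ^ a) :=
    (Nat.Coprime.pow_left a ((Nat.Prime.coprime_iff_not_dvd hr).mpr hm)).symm
  obtain ⟨A₀, hA₀⟩ := S0003.result (G := X) m (r ^ a) (by rw [hX, mul_comm]) hcop
  refine ⟨A₀.map X.subtype, Subgroup.map_subtype_le A₀, ?_, ?_⟩
  · rw [Subgroup.card_map_of_injective X.subtype_injective, hA₀]
  · apply Subgroup.eq_of_le_of_card_ge (sup_le hUX (Subgroup.map_subtype_le A₀))
    have h1 : r ^ a ∣ Nat.card (U ⊔ A₀.map X.subtype : Subgroup G) :=
      hU ▸ Subgroup.card_dvd_of_le le_sup_left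
    have h2 : m ∣ Nat.card (U ⊔ A₀.map X.subtype : Subgroup G) := by
      have h3 : Nat.card (A₀.map X.subtype) = m := by
        rw [Subgroup.card_map_of_injective X.subtype_injective, hA₀]
      exact h3 ▸ Subgroup.card_dvd_of_le le_sup_right
    have h3 : r ^ a * m ∣ Nat.card (U ⊔ A₀.map X.subtype : Subgroup G) :=
      Nat.Coprime.mul_dvd_of_dvd_of_dvd hcop.symm h1 h2
    rw [hX]
    exact Nat.le_of_dvd Nat.card_pos h3

/-- Gross: in a finite solvable group in which primary subgroups of the same order are conjugate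
and all primary subgroups for primes other than `r` are cyclic, any two subgroups of the same
order are conjugate. -/
theorem gross_conj : ∀ (n : ℕ) (G : Type u) [Group G] [Finite G], Nat.card G = n →
    Group.IsSolvable G → ∀ r : ℕ,
    (∀ p : ℕ, p.Prime → ∀ H K : Subgroup G, IsPGroup p H → IsPGroup p K →
      Nat.card H = Nat.card K → ∃ g : G, MulAut.conj g • H = K) →
    (∀ p : ℕ, p.Prime → p ≠ r → ∀ U : Subgroup G, IsPGroup p U → IsCyclic U) →
    ∀ H K : Subgroup G, Nat.card H = Nat.card K → ∃ g : G, MulAut.conj g • H = K := by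
  intro n
  induction n using Nat.strong_induction_on with
  | _ n ih =>
  intro G _ _ hcard hsol r hB hCyc H K hHK
  classical
  haveI := hsol
  by_cases hex : ∃ N : Subgroup G, N.Normal ∧ (Nat.card N).Prime
  · -- Case 1: a normal subgroup of prime order
    obtain ⟨N, hNn, hqp⟩ := hex
    obtain ⟨q, hqdef⟩ : ∃ q : ℕ, q = Nat.card N := ⟨_, rfl⟩
    rw [← hqdef] at hqp
    haveI := hNn
    haveI : Fact q.Prime := ⟨hqp⟩
    have hNp : IsPGroup q N := IsPGroup.of_card (n := 1) (by rw [← hqdef, pow_one])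
    have hNne : N ≠ ⊥ := by
      intro h
      rw [h, Subgroup.card_bot] at hqdef
      exact hqp.one_lt.ne' hqdef
    have huniq : ∀ U : Subgroup G, Nat.card U = q → U = N := by
      intro U hU
      obtain ⟨g, hg⟩ := hB q hqp U N (IsPGroup.of_card (n := 1) (by rw [hU, pow_one])) hNp
        (hU.trans hqdef)
      have h1 : U = MulAut.conj g⁻¹ • N := by
        rw [← hg, conj_mul_smul_aux]
      rw [h1, Subgroup.Normal.conj_smul_eq_self]
    have hNle : ∀ X : Subgroup G, q ∣ Nat.card X → N ≤ X := by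
      intro X hX
      obtain ⟨y, hy⟩ := exists_prime_orderOf_dvd_card' (G := X) q hX
      have h1 := huniq (Subgroup.zpowers (y : G))
        (by rw [Nat.card_zpowers, Subgroup.orderOf_coe, hy])
      rw [← h1, Subgroup.zpowers_le]
      exact y.2
    -- hypotheses for the quotient
    have hB' : ∀ p : ℕ, p.Prime → ∀ Hb Kb : Subgroup (G ⧸ N), IsPGroup p Hb → IsPGroup p Kb →
        Nat.card Hb = Nat.card Kb → ∃ g : G ⧸ N, MulAut.conj g • Hb = Kb := by
      intro p hp Hb Kb hHb hKb hc
      obtain ⟨U₁, hU₁p, hU₁m, hU₁c⟩ := lift_primary N q hqp hqdef.symm p hp Hb hHb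
      obtain ⟨U₂, hU₂p, hU₂m, hU₂c⟩ := lift_primary N q hqp hqdef.symm p hp Kb hKb
      obtain ⟨g, hg⟩ := hB p hp U₁ U₂ hU₁p hU₂p (by rw [hU₁c, hU₂c, hc])
      refine ⟨QuotientGroup.mk' N g, ?_⟩
      rw [← hU₁m, ← hU₂m, ← S0001.map_conj_smul, hg]
    have hCyc' : ∀ p : ℕ, p.Prime → p ≠ r → ∀ Ub : Subgroup (G ⧸ N), IsPGroup p Ub →
        IsCyclic Ub := by
      intro p hp hpr Ub hUb
      obtain ⟨U, hUp, hUm, -⟩ := lift_primary N q hqp hqdef.symm p hp Ub hUb
      haveI := hCyc p hp hpr U hUp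
      rw [← hUm]
      exact isCyclic_of_surjective ((QuotientGroup.mk' N).subgroupMap U)
        (MonoidHom.subgroupMap_surjective (QuotientGroup.mk' N) U)
    have hdisj : ∀ X : Subgroup G, ¬ q ∣ Nat.card X → N ⊓ X = ⊥ := by
      intro X hX
      by_contra hne
      apply hX
      have h1 : Nat.card (N ⊓ X : Subgroup G) ∣ q := hqdef ▸ Subgroup.card_dvd_of_le inf_le_left
      rcases (Nat.dvd_prime hqp).mp h1 with h2 | h2
      · exact absurd (Subgroup.eq_bot_of_card_eq _ h2) hne
      · rw [← h2]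
        exact Subgroup.card_dvd_of_le inf_le_right
    have hcardmap : Nat.card (H.map (QuotientGroup.mk' N)) =
        Nat.card (K.map (QuotientGroup.mk' N)) := by
      by_cases hq' : q ∣ Nat.card H
      · have h1 := S0001.card_map_mk_mul_card (hNle H hq')
        have h2 := S0001.card_map_mk_mul_card (hNle K (hHK ▸ hq'))
        rw [← hHK, ← h1] at h2
        exact (Nat.eq_of_mul_eq_mul_right Nat.card_pos h2).symm
      · rw [S0001.card_map_mk_of_disjoint (hdisj H hq'),
          S0001.card_map_mk_of_disjoint (hdisj K (hHK ▸ hq')), hHK]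
    have hlt : Nat.card (G ⧸ N) < n := hcard ▸ S0001.card_quotient_lt hNne
    obtain ⟨gb, hgb⟩ := ih _ hlt (G ⧸ N) rfl inferInstance r hB' hCyc'
      (H.map (QuotientGroup.mk' N)) (K.map (QuotientGroup.mk' N)) hcardmap
    obtain ⟨g, rfl⟩ := QuotientGroup.mk'_surjective N gb
    obtain ⟨H', hH'def⟩ : ∃ H' : Subgroup G, H' = MulAut.conj g • H := ⟨_, rfl⟩
    have hH'card : Nat.card H' = Nat.card H := by rw [hH'def, S0001.card_conj_smul]
    have hmapeq : H'.map (QuotientGroup.mk' N) = K.map (QuotientGroup.mk' N) := by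
      rw [hH'def, S0001.map_conj_smul, hgb]
    have hsup : H' ⊔ N = K ⊔ N := S0001.sup_eq_of_map_eq hmapeq
    by_cases hq' : q ∣ Nat.card H
    · have h1 : N ≤ H' := hNle H' (hH'card ▸ hq')
      have h2 : N ≤ K := hNle K (hHK ▸ hq')
      refine ⟨g, ?_⟩
      rw [← hH'def, ← sup_eq_left.mpr h1, hsup, sup_eq_left.mpr h2]
    · have hqK : ¬ q ∣ Nat.card K := hHK ▸ hq'
      obtain ⟨L, hLdef⟩ : ∃ L : Subgroup G, L = K ⊔ N := ⟨_, rfl⟩
      have hKL : K ≤ L := hLdef ▸ le_sup_left
      have hNL : N ≤ L := hLdef ▸ le_sup_right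
      have hH'L : H' ≤ L := by
        rw [hLdef, ← hsup]
        exact le_sup_left
      have hLcard : Nat.card L = Nat.card K * q := by
        have h1 := S0001.card_map_mk_mul_card hNL
        have h2 : L.map (QuotientGroup.mk' N) = K.map (QuotientGroup.mk' N) := by
          rw [hLdef, Subgroup.map_sup, S0003.map_mk_self_eq_bot, sup_bot_eq]
        rw [h2, S0001.card_map_mk_of_disjoint (hdisj K hqK), ← hqdef] at h1
        exact h1.symm
      haveI hNLn : (N.subgroupOf L).Normal := inferInstance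
      have hNLcard : Nat.card (N.subgroupOf L) = q := by
        rw [S0001.card_subgroupOf_of_le hNL, hqdef]
      have hidx : (N.subgroupOf L).index = Nat.card K := by
        have h1 := Subgroup.card_mul_index (N.subgroupOf L)
        rw [hNLcard, hLcard, mul_comm] at h1
        exact Nat.eq_of_mul_eq_mul_right hqp.pos h1
      have hcop : (Nat.card (N.subgroupOf L)).Coprime (N.subgroupOf L).index := by
        rw [hNLcard, hidx]
        exact (Nat.Prime.coprime_iff_not_dvd hqp).mpr hqK
      obtain ⟨l, hl⟩ := S0001.conj_of_card (N.subgroupOf L) hcop (Or.inl inferInstance)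
        (H'.subgroupOf L) (K.subgroupOf L)
        (by rw [S0001.card_subgroupOf_of_le hH'L, hidx, hH'card, hHK])
        (by rw [S0001.card_subgroupOf_of_le hKL, hidx])
      have h1 := S0001.conj_of_subgroupOf hH'L hKL l hl
      refine ⟨(l : G) * g, ?_⟩
      rw [S0001.conj_mul_smul, ← hH'def]
      exact h1
  · -- Case 2: no normal subgroup of prime order
    push Not at hex
    by_cases htriv : Subsingleton G
    · refine ⟨1, ?_⟩
      rw [Subgroup.eq_bot_of_subsingleton H, Subgroup.eq_bot_of_subsingleton K]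
      exact Subgroup.Normal.conj_smul_eq_self 1 ⊥
    rw [not_subsingleton_iff_nontrivial] at htriv
    obtain ⟨N, hNn, hNne, hNmin⟩ := S0048.exists_minimal_normal (G := G)
    obtain ⟨hNab, q, hq, hNexp⟩ := S0043.min_normal_solvable N hNne hNmin
    haveI := hNn
    have hNq : IsPGroup q N := fun x => ⟨1, by rw [pow_one]; exact Subtype.ext (hNexp x x.2)⟩
    have hNnc : ¬ IsCyclic N := by
      intro hc
      have h1 : Monoid.exponent N = Nat.card N := IsCyclic.exponent_eq_card
      have h2 : Monoid.exponent N ∣ q := Monoid.exponent_dvd_of_forall_pow_eq_one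
        (fun x => Subtype.ext (hNexp x x.2))
      rw [h1] at h2
      rcases (Nat.dvd_prime hq).mp h2 with h3 | h3
      · exact hNne (Subgroup.eq_bot_of_card_eq _ h3)
      · exact hex N hNn (h3 ▸ hq)
    have hqr : q = r := by
      by_contra hne
      exact hNnc (hCyc q hq hne N hNq)
    subst hqr
    haveI : Fact q.Prime := ⟨hq⟩
    obtain ⟨v, hv⟩ := IsPGroup.iff_card.mp hNq
    have hrN : ∀ x : G, (∃ a, orderOf x = q ^ a) → x ∈ N := by
      rintro x ⟨a, ha⟩
      by_contra hxN
      have hzx : Nat.card (Subgroup.zpowers x) = q ^ a := by rw [Nat.card_zpowers, ha]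
      rcases le_or_gt a v with hav | hav
      · obtain ⟨N₁, hN₁⟩ := Sylow.exists_subgroup_card_pow_prime_of_le_card hq hNq (n := a)
          (by rw [hv]; exact Nat.pow_le_pow_right hq.pos hav)
        have hN₁c : Nat.card (N₁.map N.subtype) = q ^ a := by
          rw [Subgroup.card_map_of_injective N.subtype_injective, hN₁]
        obtain ⟨g, hg⟩ := hB q hq (N₁.map N.subtype) (Subgroup.zpowers x)
          (IsPGroup.of_card hN₁c) (IsPGroup.of_card hzx) (hN₁c.trans hzx.symm)
        have h1 : Subgroup.zpowers x ≤ N := by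
          rw [← hg]
          calc MulAut.conj g • N₁.map N.subtype ≤ MulAut.conj g • N :=
                Subgroup.pointwise_smul_le_pointwise_smul_iff.mpr (Subgroup.map_subtype_le N₁)
            _ = N := Subgroup.Normal.conj_smul_eq_self g N
        exact hxN (h1 (Subgroup.mem_zpowers x))
      · obtain ⟨y, hydef⟩ : ∃ y : G, y = x ^ (q ^ (a - v)) := ⟨_, rfl⟩
        have hyo : orderOf y = q ^ v := by
          rw [hydef, orderOf_pow_of_dvd (pow_pos hq.pos _).ne'
            (by rw [ha]; exact pow_dvd_pow q (by omega)), ha, Nat.pow_div (by omega) hq.pos]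
          congr 1
          omega
        have hzy : Nat.card (Subgroup.zpowers y) = q ^ v := by rw [Nat.card_zpowers, hyo]
        obtain ⟨g, hg⟩ := hB q hq N (Subgroup.zpowers y) hNq (IsPGroup.of_card hzy)
          (hv.trans hzy.symm)
        rw [Subgroup.Normal.conj_smul_eq_self] at hg
        apply hNnc
        rw [hg]
        infer_instance
    obtain ⟨R⟩ : Nonempty (Sylow q G) := inferInstance
    have hRN : (R : Subgroup G) ≤ N := by
      intro x hx
      apply hrN x
      obtain ⟨a, ha⟩ := (IsPGroup.iff_orderOf.mp R.2) ⟨x, hx⟩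
      exact ⟨a, by rwa [Subgroup.orderOf_mk] at ha⟩
    have hNR : N = (R : Subgroup G) := R.3 hNq hRN
    have hNidx : ¬ q ∣ N.index := by
      rw [hNR]
      exact R.not_dvd_index
    have hpart : ∀ X : Subgroup G, ∃ a m, Nat.card (N ⊓ X : Subgroup G) = q ^ a ∧
        Nat.card X = q ^ a * m ∧ ¬ q ∣ m := by
      intro X
      obtain ⟨a, ha⟩ := IsPGroup.iff_card.mp (hNq.to_le (inf_le_left : N ⊓ X ≤ N))
      refine ⟨a, N.relIndex X, ha, ?_, ?_⟩
      · have h1 := Subgroup.card_mul_index ((N ⊓ X).subgroupOf X)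
        rw [S0001.card_subgroupOf_of_le inf_le_right, Subgroup.inf_subgroupOf_right, ha] at h1
        exact h1.symm
      · intro hdvd
        exact hNidx (hdvd.trans (Subgroup.relIndex_dvd_index_of_normal N X))
    obtain ⟨a, m, haH, hHc, hm⟩ := hpart H
    obtain ⟨b, m', hbK, hKc, hm'⟩ := hpart K
    obtain ⟨hab, hmm⟩ := pow_part_unique hq (by rw [← hHc, ← hKc, hHK]) hm hm'
    subst hab
    subst hmm
    obtain ⟨g, hg⟩ := hB q hq (N ⊓ H) (N ⊓ K) (hNq.to_le inf_le_left) (hNq.to_le inf_le_left)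
      (haH.trans hbK.symm)
    obtain ⟨H', hH'def⟩ : ∃ H' : Subgroup G, H' = MulAut.conj g • H := ⟨_, rfl⟩
    have hH'card : Nat.card H' = q ^ a * m := by rw [hH'def, S0001.card_conj_smul, hHc]
    obtain ⟨U, hUdef⟩ : ∃ U : Subgroup G, U = N ⊓ K := ⟨_, rfl⟩
    have hUH' : U = N ⊓ H' := by
      rw [hUdef, ← hg, Subgroup.smul_inf, Subgroup.Normal.conj_smul_eq_self, hH'def]
    have hUcard : Nat.card U = q ^ a := by rw [hUdef, hbK]
    have hnormU : ∀ X : Subgroup G, U = N ⊓ X → X ≤ Subgroup.normalizer (U : Set G) := by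
      intro X hX k hk
      apply S0650.mem_normalizer_of_conj U k
      intro x hx
      rw [hX] at hx ⊢
      exact Subgroup.mem_inf.mpr ⟨hNn.conj_mem x (Subgroup.mem_inf.mp hx).1 k,
        X.mul_mem (X.mul_mem hk (Subgroup.mem_inf.mp hx).2) (X.inv_mem hk)⟩
    obtain ⟨M, hMdef⟩ : ∃ M : Subgroup G, M = Subgroup.normalizer (U : Set G) := ⟨_, rfl⟩
    have hH'M : H' ≤ M := hMdef ▸ hnormU H' hUH'
    have hKM : K ≤ M := hMdef ▸ hnormU K hUdef
    obtain ⟨AH, hAH1, hAH2, hAH3⟩ := hall_part q hq H' U a m hH'card hm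
      (hUH' ▸ inf_le_right) hUcard
    obtain ⟨AK, hAK1, hAK2, hAK3⟩ := hall_part q hq K U a m hKc hm
      (hUdef ▸ inf_le_right) hUcard
    have hAHM : AH ≤ M := hAH1.trans hH'M
    have hAKM : AK ≤ M := hAK1.trans hKM
    obtain ⟨c, mM, hmM, hMc⟩ := Nat.exists_eq_pow_mul_and_not_dvd
      (Nat.card_pos (α := M)).ne' q hq.one_lt.ne'
    have hcopM : mM.Coprime (q ^ c) :=
      (Nat.Coprime.pow_left c ((Nat.Prime.coprime_iff_not_dvd hq).mpr hmM)).symm
    have hcopm : m.Coprime (q ^ c) :=
      (Nat.Coprime.pow_left c ((Nat.Prime.coprime_iff_not_dvd hq).mpr hm)).symm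
    obtain ⟨T₁, hT₁c, hT₁⟩ := S0003.hall_contain (G := M) mM (q ^ c) (by rw [hMc, mul_comm])
      hcopM (AH.subgroupOf M) (by rw [S0001.card_subgroupOf_of_le hAHM, hAH2]; exact hcopm)
    obtain ⟨T₂, hT₂c, hT₂⟩ := S0003.hall_contain (G := M) mM (q ^ c) (by rw [hMc, mul_comm])
      hcopM (AK.subgroupOf M) (by rw [S0001.card_subgroupOf_of_le hAKM, hAK2]; exact hcopm)
    obtain ⟨x, hx⟩ := S0003.hall_conj (G := M) mM (q ^ c) (by rw [hMc, mul_comm]) hcopM T₁ T₂
      hT₁c hT₂c
    obtain ⟨A₁, hA₁def⟩ : ∃ A₁ : Subgroup M, A₁ = MulAut.conj x • AH.subgroupOf M := ⟨_, rfl⟩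
    have hA₁T : A₁ ≤ T₂ := by
      rw [hA₁def, ← hx]
      exact Subgroup.pointwise_smul_le_pointwise_smul_iff.mpr hT₁
    have hA₁c : Nat.card A₁ = m := by
      rw [hA₁def, S0001.card_conj_smul, S0001.card_subgroupOf_of_le hAHM, hAH2]
    have hA₂c : Nat.card (AK.subgroupOf M) = m := by
      rw [S0001.card_subgroupOf_of_le hAKM, hAK2]
    -- the induction hypothesis for T₂
    have hqn : q ∣ n := by
      rw [← hcard]
      have h1 : q ∣ Nat.card N := by
        rw [hv]
        have hv0 : v ≠ 0 := by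
          rintro rfl
          rw [pow_zero] at hv
          exact hNne (Subgroup.eq_bot_of_card_eq _ hv)
        exact dvd_pow_self q hv0
      exact h1.trans (Subgroup.card_subgroup_dvd_card N)
    have hT₂lt : Nat.card T₂ < n := by
      have h1 : Nat.card T₂ ≤ Nat.card M := Subgroup.card_le_card_group T₂
      have h2 : Nat.card M ≤ Nat.card G := Subgroup.card_le_card_group M
      rw [hcard] at h2
      rcases Nat.lt_or_ge (Nat.card T₂) n with h3 | h3
      · exact h3
      · exfalso
        have h4 : Nat.card T₂ = n := le_antisymm (h1.trans h2) h3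
        rw [hT₂c] at h4
        exact hmM (h4 ▸ hqn)
    have hinj : Function.Injective (M.subtype.comp T₂.subtype) :=
      M.subtype_injective.comp T₂.subtype_injective
    have hcycT : ∀ p : ℕ, p.Prime → ∀ U₂ : Subgroup T₂, IsPGroup p U₂ → IsCyclic U₂ := by
      intro p hp U₂ hU₂
      by_cases hpq : p = q
      · subst hpq
        haveI : Fact p.Prime := ⟨hp⟩
        obtain ⟨k, hk⟩ := IsPGroup.iff_card.mp hU₂
        have h1 : p ^ k ∣ mM := by
          rw [← hk, ← hT₂c]
          exact Subgroup.card_subgroup_dvd_card U₂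
        have hk0 : k = 0 := by
          by_contra hk0
          exact hmM ((dvd_pow_self p hk0).trans h1)
        rw [hk0, pow_zero] at hk
        haveI : Subsingleton U₂ := (Nat.card_eq_one_iff_unique.mp hk).1
        exact isCyclic_of_subsingleton
      · haveI := hCyc p hp hpq (U₂.map (M.subtype.comp T₂.subtype)) (hU₂.map _)
        exact isCyclic_of_injective
          ((U₂.equivMapOfInjective (M.subtype.comp T₂.subtype) hinj).toMonoidHom)
          (U₂.equivMapOfInjective (M.subtype.comp T₂.subtype) hinj).injective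
    obtain ⟨t, ht⟩ := ih _ hT₂lt T₂ rfl inferInstance q
      (fun p hp X Y hX hY hXY => conj_of_cyclic_primary hcycT p hp X Y hX hY hXY)
      (fun p hp _ U₂ hU₂ => hcycT p hp U₂ hU₂)
      (A₁.subgroupOf T₂) ((AK.subgroupOf M).subgroupOf T₂)
      (by rw [S0001.card_subgroupOf_of_le hA₁T, S0001.card_subgroupOf_of_le hT₂, hA₁c, hA₂c])
    have h1 := S0001.conj_of_subgroupOf hA₁T hT₂ t ht
    rw [hA₁def, ← S0001.conj_mul_smul] at h1
    have h2 := S0001.conj_of_subgroupOf hAHM hAKM ((t : M) * x) h1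
    obtain ⟨y, hydef⟩ : ∃ y : G, y = (((t : M) * x : M) : G) := ⟨_, rfl⟩
    rw [← hydef] at h2
    have hyM : y ∈ Subgroup.normalizer (U : Set G) := by
      rw [hydef, ← hMdef]
      exact ((t : M) * x).2
    have hyU : MulAut.conj y • U = U := by
      ext z
      rw [mem_conj_smul_iff']
      constructor
      · rintro ⟨s, hs, rfl⟩
        exact (Subgroup.mem_normalizer_iff.mp hyM s).mp hs
      · intro hz
        refine ⟨y⁻¹ * z * y⁻¹⁻¹, ?_, by group⟩
        exact (Subgroup.mem_normalizer_iff.mp (Subgroup.inv_mem _ hyM) z).mp hz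
    refine ⟨y * g, ?_⟩
    rw [S0001.conj_mul_smul, ← hH'def, ← hAH3, Subgroup.smul_sup, hyU, h2, hAK3]

end Cfsg.Agent.Helper22
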