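import Mathlib
import Cfsg.Prelude
import Cfsg.Agent.Helper21.BaerSuzuki
import Cfsg.Agent.Helper22.FittingAux
import Cfsg.Agent.Helper22.SylowSup

set_option autoImplicit false

namespace Cfsg.Agent.Helper22

/-- If the Sylow `2`-subgroups are not normal, some element inverts a nontrivial element of odd
order. -/
theorem exists_inverted_odd_of_sylow_two_not_normal {G : Type*} [Group G] [Finite G]
    (P : Sylow 2 G) (hP : ¬ (P : Subgroup G).Normal) :
    ∃ y s : G, y ≠ 1 ∧ Odd (orderOf y) ∧ s * y * s⁻¹ = y⁻¹ := by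
  haveI : Fact (Nat.Prime 2) := ⟨Nat.prime_two⟩
  obtain ⟨O, hOdef⟩ : ∃ O : Subgroup G, O = Cfsg.pCore 2 G := ⟨_, rfl⟩
  haveI hOn : O.Normal := by
    rw [hOdef]; exact Subgroup.sSup_normal _ (fun _ h => h.1)
  have hOp : IsPGroup 2 O := by rw [hOdef]; exact isPGroup_pCore22 2 G
  have hOmax : ∀ K : Subgroup G, K.Normal → IsPGroup 2 K → K ≤ O := by
    intro K h1 h2
    rw [hOdef]; exact le_sSup ⟨h1, h2⟩
  have hPO : ¬ (P : Subgroup G) ≤ O := by
    intro h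
    have h1 := P.is_maximal' hOp h
    exact hP (h1 ▸ hOn)
  obtain ⟨t, htP, htO⟩ := SetLike.not_le_iff_exists.mp hPO
  have htb1 : (t : G ⧸ O) ≠ 1 := fun h => htO ((QuotientGroup.eq_one_iff t).mp h)
  obtain ⟨k, hk⟩ := (IsPGroup.iff_orderOf.mp P.isPGroup') ⟨t, htP⟩
  have htk : t ^ (2 ^ k) = 1 := by
    rw [Subgroup.orderOf_mk] at hk
    rw [← hk]; exact pow_orderOf_eq_one t
  have htbk : (t : G ⧸ O) ^ (2 ^ k) = 1 := by
    rw [← QuotientGroup.mk_pow, htk]; rfl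
  obtain ⟨j, hj, hjk⟩ := (Nat.dvd_prime_pow Nat.prime_two).mp (orderOf_dvd_of_pow_eq_one htbk)
  have hj0 : j ≠ 0 := by
    rintro rfl
    rw [pow_zero, orderOf_eq_one_iff] at hjk
    exact htb1 hjk
  obtain ⟨j', rfl⟩ := Nat.exists_eq_succ_of_ne_zero hj0
  have htb' : orderOf ((t : G ⧸ O) ^ (2 ^ j')) = 2 := by
    rw [orderOf_pow_of_dvd (pow_ne_zero _ two_ne_zero) (by rw [hjk]; exact pow_dvd_pow 2 (Nat.le_succ j')),
      hjk, Nat.succ_eq_add_one, pow_succ, Nat.mul_div_cancel_left _ (by positivity)]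
  obtain ⟨hb, hb1, hbodd, hbinv⟩ := Cfsg.Agent.Helper21.involution_inverts_odd
    ((t : G ⧸ O) ^ (2 ^ j')) htb' (by
      intro Nb hNbn hNb2 hmem
      have hcomap : IsPGroup 2 (Nb.comap (QuotientGroup.mk' O)) :=
        hNb2.comap_of_ker_isPGroup (QuotientGroup.mk' O) (by rw [QuotientGroup.ker_mk']; exact hOp)
      have hle : Nb.comap (QuotientGroup.mk' O) ≤ O := hOmax _ (hNbn.comap _) hcomap
      have hxmem : t ^ (2 ^ j') ∈ Nb.comap (QuotientGroup.mk' O) := by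
        rw [Subgroup.mem_comap]; exact hmem
      have h1 : ((t ^ (2 ^ j') : G) : G ⧸ O) = 1 := (QuotientGroup.eq_one_iff _).mpr (hle hxmem)
      rw [QuotientGroup.mk_pow] at h1
      rw [h1, orderOf_one] at htb'
      norm_num at htb')
  generalize (t : G ⧸ O) ^ (2 ^ j') = tb at htb' hbinv
  -- a prime r dividing the order of hb
  have hne : orderOf hb ≠ 1 := fun h => hb1 (orderOf_eq_one_iff.mp h)
  obtain ⟨r, hr, hrd⟩ := Nat.exists_prime_and_dvd hne
  haveI : Fact r.Prime := ⟨hr⟩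
  have hr2 : r ≠ 2 := by
    rintro rfl
    exact (Nat.not_even_iff_odd.mpr hbodd) (even_iff_two_dvd.mpr hrd)
  obtain ⟨y0, hy0⟩ := QuotientGroup.mk_surjective (hb ^ (orderOf hb / r))
  have hb'ord : orderOf (hb ^ (orderOf hb / r)) = r := by
    rw [orderOf_pow_of_dvd (Nat.div_pos (Nat.le_of_dvd (orderOf_pos hb) hrd) hr.pos).ne'
      (Nat.div_dvd_of_dvd hrd), Nat.div_div_self hrd (orderOf_pos hb).ne']
  have hb'inv : tb * (hb ^ (orderOf hb / r)) * tb⁻¹ = (hb ^ (orderOf hb / r))⁻¹ := by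
    rw [← conj_pow, hbinv, inv_pow]
  generalize hb ^ (orderOf hb / r) = hb' at hy0 hb'ord hb'inv
  obtain ⟨m, hm⟩ : ∃ m, m = ordCompl[r] (orderOf y0) := ⟨_, rfl⟩
  have hmcop : Nat.Coprime r m := by
    rw [hm]; exact Nat.coprime_ordCompl hr (orderOf_pos y0).ne'
  obtain ⟨y, hy⟩ : ∃ y, y = y0 ^ m := ⟨_, rfl⟩
  have hyord : orderOf y = r ^ ((orderOf y0).factorization r) := by
    rw [hy, hm]
    rw [orderOf_pow_of_dvd (Nat.div_pos (Nat.le_of_dvd (orderOf_pos y0) (Nat.ordProj_dvd _ _))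
      (Nat.pos_of_ne_zero (pow_ne_zero _ hr.ne_zero))).ne' (Nat.ordCompl_dvd _ _)]
    exact Nat.div_eq_of_eq_mul_left (Nat.div_pos (Nat.le_of_dvd (orderOf_pos y0)
      (Nat.ordProj_dvd _ _)) (Nat.pos_of_ne_zero (pow_ne_zero _ hr.ne_zero)))
      (Nat.ordProj_mul_ordCompl_eq_self _ _).symm
  have hyb : (y : G ⧸ O) = hb' ^ m := by rw [hy, QuotientGroup.mk_pow, hy0]
  have hyb1 : (y : G ⧸ O) ≠ 1 := by
    rw [hyb]
    intro h
    have h1 := orderOf_dvd_of_pow_eq_one h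
    rw [hb'ord] at h1
    have h2 := Nat.Coprime.eq_one_of_dvd hmcop h1
    exact hr.one_lt.ne' h2
  have hybinv : tb * (y : G ⧸ O) * tb⁻¹ = (y : G ⧸ O)⁻¹ := by
    rw [hyb, ← conj_pow, hb'inv, inv_pow]
  obtain ⟨t1, ht1⟩ := QuotientGroup.mk_surjective tb
  -- the Sylow argument
  have hYp : IsPGroup r (Subgroup.zpowers y) :=
    IsPGroup.of_card (n := (orderOf y0).factorization r) (by rw [Nat.card_zpowers, hyord])
  have hP'p : IsPGroup r (Subgroup.zpowers (t1 * y * t1⁻¹)) := by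
    apply IsPGroup.of_card (n := (orderOf y0).factorization r)
    rw [Nat.card_zpowers, ← hyord]
    exact (MulAut.conj t1).orderOf_eq y
  have hmk : ((t1 * y * t1⁻¹ : G) : G ⧸ O) = ((y⁻¹ : G) : G ⧸ O) := by
    rw [QuotientGroup.mk_mul, QuotientGroup.mk_mul, QuotientGroup.mk_inv, QuotientGroup.mk_inv, ht1]
    exact hybinv
  have hle : Subgroup.zpowers (t1 * y * t1⁻¹) ≤ Subgroup.zpowers y ⊔ O := by
    rw [Subgroup.zpowers_le]
    have h1 : (y⁻¹)⁻¹ * (t1 * y * t1⁻¹) ∈ O := QuotientGroup.eq.mp hmk.symm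
    have h2 : t1 * y * t1⁻¹ = y⁻¹ * ((y⁻¹)⁻¹ * (t1 * y * t1⁻¹)) := by group
    rw [h2]
    exact Subgroup.mul_mem_sup (Subgroup.inv_mem _ (Subgroup.mem_zpowers y)) h1
  obtain ⟨b, hb2⟩ := IsPGroup.iff_card.mp hOp
  have hrO : ¬ r ∣ Nat.card O := by
    rw [hb2]
    intro h
    have h1 := hr.dvd_of_dvd_pow h
    exact hr2 ((Nat.prime_dvd_prime_iff_eq hr Nat.prime_two).mp h1)
  obtain ⟨n, hnO, hn⟩ := exists_conj_mem_of_pgroup_sup r (Subgroup.zpowers y)
    (Subgroup.zpowers (t1 * y * t1⁻¹)) O hrO hYp hP'p hle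
  have hw := hn _ (Subgroup.mem_zpowers _)
  have hwO : n⁻¹ * (t1 * y * t1⁻¹) * n * y ∈ O := by
    rw [← QuotientGroup.eq_one_iff]
    rw [QuotientGroup.mk_mul, QuotientGroup.mk_mul, QuotientGroup.mk_mul, QuotientGroup.mk_inv,
      (QuotientGroup.eq_one_iff n).mpr hnO, hmk, QuotientGroup.mk_inv]
    simp
  have hwY : n⁻¹ * (t1 * y * t1⁻¹) * n * y ∈ Subgroup.zpowers y :=
    Subgroup.mul_mem _ hw (Subgroup.mem_zpowers y)
  have hone : n⁻¹ * (t1 * y * t1⁻¹) * n * y = 1 := by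
    have h1 : (n⁻¹ * (t1 * y * t1⁻¹) * n * y) ^ (2 ^ b) = 1 := by
      have := pow_card_eq_one' (G := O) (x := ⟨_, hwO⟩)
      rw [hb2] at this
      exact congrArg Subtype.val this
    have h2 : (n⁻¹ * (t1 * y * t1⁻¹) * n * y) ^ (r ^ ((orderOf y0).factorization r)) = 1 := by
      have := pow_card_eq_one' (G := Subgroup.zpowers y) (x := ⟨_, hwY⟩)
      rw [Nat.card_zpowers, hyord] at this
      exact congrArg Subtype.val this
    have h3 := pow_gcd_eq_one.mpr ⟨h1, h2⟩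
    have hcop : Nat.Coprime (2 ^ b) (r ^ ((orderOf y0).factorization r)) :=
      Nat.Coprime.pow _ _ ((Nat.coprime_primes Nat.prime_two hr).mpr (Ne.symm hr2))
    rw [hcop.gcd_eq_one, pow_one] at h3
    exact h3
  refine ⟨y, n⁻¹ * t1, ?_, ?_, ?_⟩
  · intro h
    apply hyb1
    rw [h]; rfl
  · rw [hyord]
    exact Odd.pow (hr.odd_of_ne_two hr2)
  · have e : n⁻¹ * t1 * y * (n⁻¹ * t1)⁻¹ = (n⁻¹ * (t1 * y * t1⁻¹) * n * y) * y⁻¹ := by group
    rw [e, hone, one_mul]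

/-- An element inverting a nontrivial odd-order element gives an even `N/C`. -/
theorem two_dvd_relIndex_centralizer_of_mem {G : Type*} [Group G] [Finite G] (H : Subgroup G)
    (s : G) (hsN : s ∈ Subgroup.normalizer (H : Set G))
    (hs : s ∉ Subgroup.centralizer (H : Set G)) (hs2 : s ^ 2 ∈ Subgroup.centralizer (H : Set G)) :
    2 ∣ (Subgroup.centralizer (H : Set G)).relIndex (Subgroup.normalizer (H : Set G)) := by
  have e : (Subgroup.centralizer (H : Set G)).relIndex (Subgroup.normalizer (H : Set G)) =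
      Nat.card (↥(Subgroup.normalizer (H : Set G)) ⧸ H.normalizerMonoidHom.ker) := by
    rw [Subgroup.normalizerMonoidHom_ker]; rfl
  rw [e]
  let q : ↥(Subgroup.normalizer (H : Set G)) ⧸ H.normalizerMonoidHom.ker :=
    ((⟨s, hsN⟩ : ↥(Subgroup.normalizer (H : Set G))) :
      ↥(Subgroup.normalizer (H : Set G)) ⧸ H.normalizerMonoidHom.ker)
  have hq1 : q ≠ 1 := by
    intro h
    have h1 := (QuotientGroup.eq_one_iff _).mp h
    rw [Subgroup.normalizerMonoidHom_ker, Subgroup.mem_subgroupOf] at h1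
    exact hs h1
  have hq2 : q ^ 2 = 1 := by
    show ((⟨s, hsN⟩ : ↥(Subgroup.normalizer (H : Set G))) :
      ↥(Subgroup.normalizer (H : Set G)) ⧸ H.normalizerMonoidHom.ker) ^ 2 = 1
    rw [← QuotientGroup.mk_pow, QuotientGroup.eq_one_iff, Subgroup.normalizerMonoidHom_ker,
      Subgroup.mem_subgroupOf]
    exact hs2
  have hord : orderOf q = 2 := orderOf_eq_prime hq2 hq1
  rw [← hord]
  exact orderOf_dvd_natCard q

end Cfsg.Agent.Helper22
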