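import Mathlib
import Cfsg.Agent.S0033
import Cfsg.Agent.Helper22.ConjSmul

set_option autoImplicit false
set_option linter.style.haveILetI false

namespace Cfsg.Agent.Helper22

open Cfsg
open Cfsg.Agent.Lead
open scoped Pointwise

universe u

section Kegel

variable {G : Type u} [Group G]

/-- cumulative product `x · φ(x) ⋯ φ^{i-1}(x)` -/
def cumProd (φ : G ≃* G) (x : G) (i : ℕ) : G :=
  ((List.range i).map (fun j : ℕ => (φ ^ j) x)).prod

theorem cumProd_zero (φ : G ≃* G) (x : G) : cumProd φ x 0 = 1 := by simp [cumProd]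

theorem cumProd_succ (φ : G ≃* G) (x : G) (i : ℕ) :
    cumProd φ x (i + 1) = cumProd φ x i * (φ ^ i) x := by
  unfold cumProd
  rw [List.range_succ, List.map_append, List.prod_append]
  simp

theorem mulAut_pow_succ_apply (φ : G ≃* G) (x : G) (i : ℕ) :
    (φ ^ (i + 1)) x = φ ((φ ^ i) x) := by
  rw [pow_succ']; rfl

theorem cumProd_succ' (φ : G ≃* G) (x : G) (i : ℕ) :
    cumProd φ x (i + 1) = x * φ (cumProd φ x i) := by
  induction i with
  | zero => simp [cumProd_succ, cumProd_zero]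
  | succ i ih =>
    calc cumProd φ x (i + 1 + 1) = cumProd φ x (i + 1) * (φ ^ (i + 1)) x := cumProd_succ _ _ _
      _ = x * φ (cumProd φ x i) * φ ((φ ^ i) x) := by rw [ih, mulAut_pow_succ_apply]
      _ = x * φ (cumProd φ x i * (φ ^ i) x) := by rw [map_mul, mul_assoc]
      _ = x * φ (cumProd φ x (i + 1)) := by rw [cumProd_succ]

theorem cumProd_add (φ : G ≃* G) (x : G) (a b : ℕ) :
    cumProd φ x (a + b) = cumProd φ x a * (φ ^ a) (cumProd φ x b) := by
  induction b with
  | zero => simp [cumProd_zero]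
  | succ b ih =>
    rw [← add_assoc, cumProd_succ, ih, cumProd_succ, map_mul, mul_assoc, pow_add,
      MulAut.mul_apply]

theorem cumProd_mul (φ : G ≃* G) (x : G) (j m : ℕ) :
    cumProd φ x (j * m) = cumProd (φ ^ j) (cumProd φ x j) m := by
  induction m with
  | zero => simp [cumProd_zero]
  | succ m ih =>
    rw [mul_add, mul_one, cumProd_add, ih, cumProd_succ, ← pow_mul]

theorem cumProd_one (φ : G ≃* G) (k : ℕ) : cumProd φ 1 k = 1 := by
  induction k with
  | zero => exact cumProd_zero φ 1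
  | succ k ih => rw [cumProd_succ, ih, map_one, one_mul]

/-- `φ` is a splitting automorphism with parameter `p`. -/
def IsSplit (p : ℕ) (φ : G ≃* G) : Prop := ∀ x, cumProd φ x p = 1

theorem cumProd_period (p : ℕ) (φ : G ≃* G) (hφp : φ ^ p = 1) (hs : IsSplit p φ) (x : G)
    (k i : ℕ) : cumProd φ x (p * k + i) = cumProd φ x i := by
  rw [cumProd_add, cumProd_mul, hs x, cumProd_one, one_mul, pow_mul, hφp, one_pow]
  rfl

theorem cumProd_injective (p : ℕ) (hp : p.Prime) (φ : G ≃* G) (hφp : φ ^ p = 1)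
    (hs : IsSplit p φ) (j : ℕ) (hj0 : 0 < j) (hjp : j < p) :
    Function.Injective (fun x => cumProd φ x j) := by
  have hcop : Nat.Coprime j p :=
    Nat.Coprime.symm ((Nat.Prime.coprime_iff_not_dvd hp).mpr (Nat.not_dvd_of_pos_of_lt hj0 hjp))
  obtain ⟨m, -, hm⟩ := Nat.exists_mul_mod_eq_one_of_coprime hcop hp.one_lt
  have key : ∀ x, cumProd (φ ^ j) (cumProd φ x j) m = x := by
    intro x
    rw [← cumProd_mul]
    have h1 : j * m = p * (j * m / p) + 1 := by
      have := Nat.div_add_mod (j * m) p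
      omega
    rw [h1, cumProd_period p φ hφp hs, cumProd_succ, cumProd_zero]
    simp
  intro x y hxy
  have hx := key x
  have hxy' : cumProd φ x j = cumProd φ y j := hxy
  rw [hxy', key y] at hx
  exact hx.symm

theorem mulAut_pow_mem (φ : G ≃* G) (T : Subgroup G) (hT : ∀ x ∈ T, φ x ∈ T) (x : G)
    (hx : x ∈ T) (j : ℕ) : (φ ^ j) x ∈ T := by
  induction j with
  | zero => simpa using hx
  | succ j ih => rw [mulAut_pow_succ_apply]; exact hT _ ih

theorem cumProd_mem (φ : G ≃* G) (T : Subgroup G) (hT : ∀ x ∈ T, φ x ∈ T) (x : G)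
    (hx : x ∈ T) (j : ℕ) : cumProd φ x j ∈ T := by
  induction j with
  | zero => rw [cumProd_zero]; exact T.one_mem
  | succ j ih => rw [cumProd_succ]; exact T.mul_mem ih (mulAut_pow_mem φ T hT x hx j)

theorem cumProd_mul_left (φ : G ≃* G) (v x : G) (i : ℕ) :
    cumProd φ (v * x) i =
      ((List.range i).map
        (fun j => cumProd φ x j * (φ ^ j) v * (cumProd φ x j)⁻¹)).prod * cumProd φ x i := by
  induction i with
  | zero => simp [cumProd_zero]
  | succ i ih =>
    rw [cumProd_succ, ih, List.range_succ, List.map_append, List.prod_append, cumProd_succ,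
      map_mul]
    simp only [List.map_cons, List.map_nil, List.prod_cons, List.prod_nil, mul_one]
    group

/-! ### twisting by inner automorphisms -/

theorem twist_pow_apply (φ : G ≃* G) (g x : G) (i : ℕ) :
    ((MulAut.conj g * φ) ^ i) x = cumProd φ g i * (φ ^ i) x * (cumProd φ g i)⁻¹ := by
  induction i with
  | zero => simp [cumProd_zero]
  | succ i ih =>
    rw [mulAut_pow_succ_apply, ih, MulAut.mul_apply, MulAut.conj_apply, map_mul, map_mul,
      map_inv, cumProd_succ', mulAut_pow_succ_apply]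
    group

theorem twist_cumProd (φ : G ≃* G) (g x : G) (i : ℕ) :
    cumProd (MulAut.conj g * φ) x i = cumProd φ (x * g) i * (cumProd φ g i)⁻¹ := by
  induction i with
  | zero => simp [cumProd_zero]
  | succ i ih =>
    rw [cumProd_succ, ih, twist_pow_apply, cumProd_succ, cumProd_succ, map_mul]
    group

theorem twist_split (p : ℕ) (φ : G ≃* G) (hs : IsSplit p φ) (g : G) :
    IsSplit p (MulAut.conj g * φ) := by
  intro x
  rw [twist_cumProd, hs, hs]
  simp

theorem twist_pow (p : ℕ) (φ : G ≃* G) (hφp : φ ^ p = 1) (hs : IsSplit p φ) (g : G) :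
    (MulAut.conj g * φ) ^ p = 1 := by
  refine MulEquiv.ext fun x => ?_
  rw [twist_pow_apply, hs g, hφp]
  simp

theorem exists_twist_sylow [Finite G] (φ : G ≃* G) (q : ℕ) [Fact q.Prime] (Q₀ : Sylow q G) :
    ∃ g : G, ∀ x ∈ Q₀, (MulAut.conj g * φ) x ∈ Q₀ := by
  have hcard : Nat.card ((Q₀ : Subgroup G).map φ.toMonoidHom) =
      q ^ (Nat.card G).factorization q := by
    rw [Subgroup.card_map_of_injective φ.injective]
    exact Sylow.card_eq_multiplicity Q₀
  obtain ⟨x, hx⟩ := MulAction.exists_smul_eq G Q₀ (Sylow.ofCard _ hcard)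
  have hx' : MulAut.conj x • (Q₀ : Subgroup G) = (Q₀ : Subgroup G).map φ.toMonoidHom := by
    have h0 : ((x • Q₀ : Sylow q G) : Subgroup G) = MulAut.conj x • (Q₀ : Subgroup G) := rfl
    have := congrArg (fun S : Sylow q G => (S : Subgroup G)) hx
    rw [← h0]
    simpa [Sylow.coe_ofCard] using this
  refine ⟨x⁻¹, fun s hs => ?_⟩
  rw [MulAut.mul_apply, MulAut.conj_apply]
  have h1 : φ s ∈ MulAut.conj x • (Q₀ : Subgroup G) := by
    rw [hx']; exact Subgroup.mem_map_of_mem _ hs
  rw [mem_conj_smul_iff] at h1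
  rw [inv_inv]
  exact h1

/-! ### restriction and quotients -/

theorem restr_cumProd [Finite G] (φ : G ≃* G) (H : Subgroup G) (h : ∀ x ∈ H, φ x ∈ H) (a : H)
    (i : ℕ) : ((cumProd (Fpf.restr φ H h) a i : H) : G) = cumProd φ a i := by
  induction i with
  | zero => simp [cumProd_zero]
  | succ i ih => rw [cumProd_succ, cumProd_succ, Subgroup.coe_mul, ih, Fpf.restr_pow]

theorem quot_cumProd (φ : G ≃* G) (M : Subgroup G) [M.Normal] (h : M.map φ.toMonoidHom = M)
    (g : G) (i : ℕ) :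
    cumProd (Fpf.quot φ M h) (QuotientGroup.mk g) i = QuotientGroup.mk (cumProd φ g i) := by
  induction i with
  | zero => simp [cumProd_zero]
  | succ i ih => rw [cumProd_succ, cumProd_succ, ih, Fpf.quot_pow, QuotientGroup.mk_mul]

end Kegel

/-- Abstract norm argument. -/
theorem abstract_norm {W : Type*} [CommGroup W] [Finite W] {T : Type*} [Group T] [Finite T]
    (p : ℕ) (hp : 0 < p) (ρ : T →* MulAut W) (Ψ : ℕ → W → W) (c : ℕ → T → T)
    (hc0 : ∀ x, c 0 x = 1) (hΨ0 : ∀ w, Ψ 0 w = w)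
    (hbij : ∀ j, 0 < j → j < p → Function.Bijective (c j))
    (hsplit : ∀ (x : T) (w : W), ∏ j ∈ Finset.range p, ρ (c j x) (Ψ j w) = 1)
    (hcop : (Nat.card W).Coprime (Nat.card T)) :
    ∀ (s : T) (w : W), ρ s w = w := by
  classical
  haveI := Fintype.ofFinite T
  have hNm : ∀ (u : W) (s : T), ρ s (∏ x : T, ρ x u) = ∏ x : T, ρ x u := by
    intro u s
    rw [map_prod]
    have h1 : ∀ x : T, ρ s (ρ x u) = ρ (s * x) u := fun x => by rw [map_mul]; rfl
    simp_rw [h1]
    exact Equiv.prod_comp (Equiv.mulLeft s) (fun x => ρ x u)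
  have hkey : ∀ w : W,
      w ^ Nat.card T * ∏ j ∈ Finset.range (p - 1), ∏ x : T, ρ x (Ψ (j + 1) w) = 1 := by
    intro w
    have h1 : ∏ x : T, ∏ j ∈ Finset.range p, ρ (c j x) (Ψ j w) = 1 :=
      Finset.prod_eq_one (fun x _ => hsplit x w)
    rw [Finset.prod_comm] at h1
    obtain ⟨n, rfl⟩ : ∃ n, p = n + 1 := ⟨p - 1, by omega⟩
    rw [Finset.prod_range_succ'] at h1
    have h2 : ∏ x : T, ρ (c 0 x) (Ψ 0 w) = w ^ Nat.card T := by
      simp only [hc0, hΨ0, map_one, MulAut.one_apply]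
      rw [Finset.prod_const, Finset.card_univ, Nat.card_eq_fintype_card]
    have h3 : ∀ j ∈ Finset.range n,
        ∏ x : T, ρ (c (j + 1) x) (Ψ (j + 1) w) = ∏ x : T, ρ x (Ψ (j + 1) w) := by
      intro j hj
      have hj' := Finset.mem_range.mp hj
      exact Equiv.prod_comp (Equiv.ofBijective _ (hbij (j + 1) (by omega) (by omega)))
        (fun x => ρ x (Ψ (j + 1) w))
    rw [h2, Finset.prod_congr rfl h3, mul_comm] at h1
    simpa using h1
  intro s w
  have hfix : ρ s (w ^ Nat.card T) = w ^ Nat.card T := by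
    have h1 := hkey w
    have h2 : w ^ Nat.card T =
        (∏ j ∈ Finset.range (p - 1), ∏ x : T, ρ x (Ψ (j + 1) w))⁻¹ :=
      eq_inv_of_mul_eq_one_left h1
    rw [h2, map_inv, map_prod]
    congr 1
    exact Finset.prod_congr rfl (fun j _ => hNm _ s)
  have hinj : Function.Injective (fun w : W => w ^ Nat.card T) := (powCoprime hcop).injective
  apply hinj
  show (ρ s w) ^ Nat.card T = w ^ Nat.card T
  rw [← map_pow]
  exact hfix

section KegelMain

variable {G : Type u} [Group G]

/-- A `φ`-invariant subgroup of order coprime to that of an abelian normal `φ`-invariant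
subgroup `V` centralizes `V`, for a splitting automorphism `φ` of prime order. -/
theorem centralizes_of_split [Finite G] (p : ℕ) (hp : p.Prime) (φ : G ≃* G) (hφp : φ ^ p = 1)
    (hs : IsSplit p φ) (V : Subgroup G) [hVn : V.Normal]
    (hVab : ∀ a ∈ V, ∀ b ∈ V, a * b = b * a) (hVφ : ∀ x ∈ V, φ x ∈ V)
    (T : Subgroup G) (hTφ : ∀ x ∈ T, φ x ∈ T)
    (hcop : (Nat.card V).Coprime (Nat.card T)) :
    T ≤ Subgroup.centralizer (V : Set G) := by
  letI : CommGroup V :=
    { (inferInstance : Group V) with mul_comm := fun a b => Subtype.ext (hVab a a.2 b b.2) }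
  have hc : ∀ (j : ℕ) (x : T), cumProd φ (x : G) j ∈ T :=
    fun j x => cumProd_mem φ T hTφ x x.2 j
  have key := abstract_norm (W := V) (T := T) p hp.pos
    ((MulAut.conjNormal : G →* MulAut V).comp T.subtype)
    (fun j w => ((Fpf.restr φ V hVφ) ^ j) w)
    (fun j x => ⟨cumProd φ (x : G) j, hc j x⟩)
    (fun x => Subtype.ext (cumProd_zero φ (x : G)))
    (fun w => by simp)
    (fun j hj0 hjp => by
      have hinj : Function.Injective (fun x : T => (⟨cumProd φ (x : G) j, hc j x⟩ : T)) := by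
        intro x y hxy
        apply Subtype.ext
        exact cumProd_injective p hp φ hφp hs j hj0 hjp (congrArg Subtype.val hxy)
      exact ⟨hinj, Finite.surjective_of_injective hinj⟩)
    (fun x w => by
      have h := cumProd_mul_left φ (w : G) (x : G) p
      rw [hs, hs, mul_one] at h
      have h2 : ∀ i : ℕ, ((List.range i).map
          (fun j => cumProd φ (x : G) j * (φ ^ j) (w : G) * (cumProd φ (x : G) j)⁻¹)).prod
          = ((∏ j ∈ Finset.range i, ((MulAut.conjNormal : G →* MulAut V).comp T.subtype)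
              ⟨cumProd φ (x : G) j, hc j x⟩ (((Fpf.restr φ V hVφ) ^ j) w) : V) : G) := by
        intro i
        induction i with
        | zero => simp
        | succ i ih =>
          rw [List.range_succ, List.map_append, List.prod_append, ih, Finset.prod_range_succ,
            Subgroup.coe_mul]
          simp only [List.map_cons, List.map_nil, List.prod_cons, List.prod_nil, mul_one]
          congr 1
          rw [MonoidHom.comp_apply, MulAut.conjNormal_apply, Fpf.restr_pow]
          rfl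
      rw [h2] at h
      exact Subtype.ext h.symm)
    hcop
  intro s hs'
  rw [Subgroup.mem_centralizer_iff]
  intro v hv
  have h1 := key ⟨s, hs'⟩ ⟨v, hv⟩
  have h2 : s * v * s⁻¹ = v := by
    have h3 := congrArg Subtype.val h1
    rw [MonoidHom.comp_apply, MulAut.conjNormal_apply] at h3
    exact h3
  calc v * s = (s * v * s⁻¹) * s := by rw [h2]
    _ = s * v := by group

end KegelMain

section KegelThm

/-- **Kegel**: a finite group with a splitting automorphism of prime order is nilpotent. -/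
theorem kegel_aux (p : ℕ) (hp : p.Prime) :
    ∀ n : ℕ, ∀ (G : Type u) [Group G] [Finite G], Nat.card G = n → ∀ φ : G ≃* G,
      φ ^ p = 1 → IsSplit p φ → Group.IsNilpotent G := by
  intro n
  induction n using Nat.strong_induction_on with
  | _ n ih =>
  intro G _ _ hn φ hφp hφs
  by_contra hnil
  have hsub : ∀ ψ : G ≃* G, ψ ^ p = 1 → IsSplit p ψ → ∀ H : Subgroup G, H ≠ ⊤ →
      (∀ x ∈ H, ψ x ∈ H) → Group.IsNilpotent H := by
    intro ψ hψp hψs H hH hinv
    refine ih (Nat.card H) (hn ▸ S0001.card_lt_of_ne_top hH) H rfl (Fpf.restr ψ H hinv) ?_ ?_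
    · refine MulEquiv.ext fun a => Subtype.ext ?_
      rw [Fpf.restr_pow, hψp]
      rfl
    · intro a
      apply Subtype.ext
      rw [restr_cumProd, hψs]
      rfl
  have hquot : ∀ ψ : G ≃* G, ψ ^ p = 1 → IsSplit p ψ → ∀ M : Subgroup G, ∀ _ : M.Normal,
      M ≠ ⊥ → (∀ x ∈ M, ψ x ∈ M) → Group.IsNilpotent (G ⧸ M) := by
    intro ψ hψp hψs M hMn hM hinv
    refine ih (Nat.card (G ⧸ M)) (hn ▸ S0001.card_quotient_lt hM) (G ⧸ M) rfl
      (Fpf.quot ψ M (Fpf.map_eq ψ M hinv)) ?_ ?_
    · refine MulEquiv.ext fun x => ?_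
      induction x using QuotientGroup.induction_on with
      | H g =>
        rw [Fpf.quot_pow, hψp]
        rfl
    · intro x
      induction x using QuotientGroup.induction_on with
      | H g =>
        rw [quot_cumProd, hψs]
        rfl
  -- Step A: G is solvable
  have hsolv : Group.IsSolvable G := by
    by_cases h2 : ∀ q : ℕ, q.Prime → q ∣ Nat.card G → q = 2
    · exfalso
      apply hnil
      have hcard :=
        Nat.eq_prime_pow_of_unique_prime_dvd Nat.card_pos.ne' (fun {q} hq hd => h2 q hq hd)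
      haveI : Fact (Nat.Prime 2) := ⟨Nat.prime_two⟩
      exact (IsPGroup.of_card hcard).isNilpotent
    · push Not at h2
      obtain ⟨q, hq, hqd, hq2⟩ := h2
      haveI : Fact q.Prime := ⟨hq⟩
      obtain ⟨Q⟩ : Nonempty (Sylow q G) := inferInstance
      obtain ⟨g, hQ⟩ := exists_twist_sylow φ q Q
      obtain ⟨ψ, hψ⟩ : ∃ ψ : G ≃* G, ψ = MulAut.conj g * φ := ⟨_, rfl⟩
      rw [← hψ] at hQ
      have hψp : ψ ^ p = 1 := by rw [hψ]; exact twist_pow p φ hφp hφs g
      have hψs : IsSplit p ψ := by rw [hψ]; exact twist_split p φ hφs g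
      have hQne : (Q : Subgroup G) ≠ ⊥ := Sylow.ne_bot_of_dvd_card Q hqd
      rcases Cfsg.Agent.S0033.crit_thompson G ψ q hq2 Q hQ
        (fun K hK hKψ => S0577.npc_of_nilpotent q (hsub ψ hψp hψs K hK hKψ)) with
        ⟨Z, hZn, hZne, hZψ, hZq⟩ | hnpc
      · haveI := hZn
        haveI : Group.IsNilpotent (G ⧸ Z) := hquot ψ hψp hψs Z hZn (hZne hQne) hZψ
        haveI : Group.IsNilpotent Z := hZq.isNilpotent
        exact Group.isSolvable_of_ker_le_range Z.subtype (QuotientGroup.mk' Z) (by simp)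
      · obtain ⟨K, hKn, hKcop, k, hk⟩ := (S0072.npc_iff q).mp hnpc
        haveI := hKn
        have hKψ : ∀ x ∈ K, ψ x ∈ K :=
          Fpf.hall_inv ψ K (by rw [hk]; exact Nat.Coprime.pow_right k hKcop)
        have hKtop : K ≠ ⊤ := by
          rintro rfl
          rw [Subgroup.card_top] at hKcop
          exact hq.one_lt.ne' (Nat.eq_one_of_dvd_one
            (hKcop ▸ Nat.dvd_gcd hqd dvd_rfl))
        haveI : Group.IsNilpotent K := hsub ψ hψp hψs K hKtop hKψ
        haveI : Group.IsNilpotent (G ⧸ K) :=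
          (IsPGroup.of_card (by rw [← Subgroup.index_eq_card]; exact hk)).isNilpotent
        exact Group.isSolvable_of_ker_le_range K.subtype (QuotientGroup.mk' K) (by simp)
  -- Step B: the solvable case
  have htfae : Group.IsNilpotent G ↔
      ∀ (s : ℕ) (_hs : Fact s.Prime) (S : Sylow s G), (S : Subgroup G).Normal :=
    (Group.isNilpotent_of_finite_tfae (G := G)).out 0 3
  have hnotall : ¬ ∀ (s : ℕ) (_hs : Fact s.Prime) (S : Sylow s G), (S : Subgroup G).Normal :=
    fun h => hnil (htfae.mpr h)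
  push Not at hnotall
  obtain ⟨s, hs, S, hSnn⟩ := hnotall
  haveI := hs
  obtain ⟨g, hSψ⟩ := exists_twist_sylow φ s S
  obtain ⟨ψ, hψ⟩ : ∃ ψ : G ≃* G, ψ = MulAut.conj g * φ := ⟨_, rfl⟩
  rw [← hψ] at hSψ
  have hψp : ψ ^ p = 1 := by rw [hψ]; exact twist_pow p φ hφp hφs g
  have hψs : IsSplit p ψ := by rw [hψ]; exact twist_split p φ hφs g
  haveI : Nontrivial G := by
    by_contra h
    rw [not_nontrivial_iff_subsingleton] at h
    exact hnil inferInstance
  obtain ⟨V, ⟨hVn, hVne, hVψ⟩, hVmin⟩ : ∃ V : Subgroup G,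
      (V.Normal ∧ V ≠ ⊥ ∧ ∀ x ∈ V, ψ x ∈ V) ∧
      ∀ M : Subgroup G, M.Normal → (∀ x ∈ M, ψ x ∈ M) → M ≤ V → M = ⊥ ∨ M = V := by
    have hex : ∃ k, ∃ V : Subgroup G, (V.Normal ∧ V ≠ ⊥ ∧ ∀ x ∈ V, ψ x ∈ V) ∧
        Nat.card V = k :=
      ⟨_, ⊤, ⟨inferInstance, top_ne_bot, fun x _ => Subgroup.mem_top _⟩, rfl⟩
    classical
    obtain ⟨V, hV, hVk⟩ := Nat.find_spec hex
    refine ⟨V, hV, fun M hMn hMψ hMV => ?_⟩
    by_contra hcon
    push Not at hcon
    have hlt : Nat.card M < Nat.card V := S0001.card_lt_of_lt (lt_of_le_of_ne hMV hcon.2)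
    exact Nat.find_min hex (hVk ▸ hlt) ⟨M, ⟨hMn, hcon.1, hMψ⟩, rfl⟩
  haveI := hVn
  have hVmap : V.map ψ.toMonoidHom = V := Fpf.map_eq ψ V hVψ
  have hVcomm : ⁅V, V⁆ = ⊥ := by
    have hlt : ⁅V, V⁆ < V := Group.IsSolvable.commutator_lt_of_ne_bot hVne
    rcases hVmin ⁅V, V⁆ inferInstance (fun x hx => by
        have : ψ.toMonoidHom x ∈ (⁅V, V⁆).map ψ.toMonoidHom := Subgroup.mem_map_of_mem _ hx
        rwa [Subgroup.map_commutator, hVmap] at this) hlt.le with h | h
    · exact h
    · exact absurd h hlt.ne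
  have hVab : ∀ a ∈ V, ∀ b ∈ V, a * b = b * a := by
    have hle : V ≤ Subgroup.centralizer (V : Set G) :=
      Subgroup.commutator_eq_bot_iff_le_centralizer.mp hVcomm
    intro a ha b hb
    exact (Subgroup.mem_centralizer_iff.mp (hle hb) a ha)
  haveI : IsMulCommutative V := ⟨⟨fun a b => Subtype.ext (hVab a a.2 b b.2)⟩⟩
  obtain ⟨r, hr, hrV⟩ : ∃ r : ℕ, r.Prime ∧ ∀ v ∈ V, v ^ r = 1 := by
    have hcard : Nat.card V ≠ 1 := fun h => hVne (Subgroup.card_eq_one.mp h)
    obtain ⟨r, hr, hrd⟩ := Nat.exists_prime_and_dvd hcard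
    haveI : Fact r.Prime := ⟨hr⟩
    refine ⟨r, hr, ?_⟩
    let Ω : Subgroup G :=
      { carrier := {v | v ∈ V ∧ v ^ r = 1}
        one_mem' := ⟨V.one_mem, one_pow _⟩
        mul_mem' := fun {a b} ha hb => ⟨V.mul_mem ha.1 hb.1, by
          rw [(show Commute a b from hVab a ha.1 b hb.1).mul_pow, ha.2, hb.2, one_mul]⟩
        inv_mem' := fun {a} ha => ⟨V.inv_mem ha.1, by rw [inv_pow, ha.2, inv_one]⟩ }
    have hΩn : Ω.Normal := ⟨fun a ha g => ⟨hVn.conj_mem a ha.1 g, by
      rw [conj_pow, ha.2, mul_one, mul_inv_cancel]⟩⟩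
    have hΩψ : ∀ x ∈ Ω, ψ x ∈ Ω := fun x hx =>
      ⟨hVψ x hx.1, by rw [← map_pow, hx.2, map_one]⟩
    have hΩne : Ω ≠ ⊥ := by
      obtain ⟨v, hv⟩ := exists_prime_orderOf_dvd_card' (G := V) r hrd
      intro hbot
      have hmem : (v : G) ∈ Ω := ⟨v.2, by
        have h0 : v ^ r = 1 := by rw [← hv]; exact pow_orderOf_eq_one v
        have h := congrArg Subtype.val h0
        rw [Subgroup.coe_pow] at h
        exact h⟩
      rw [hbot, Subgroup.mem_bot] at hmem
      have hv1 : v = 1 := Subtype.ext hmem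
      rw [hv1, orderOf_one] at hv
      exact hr.one_lt.ne hv
    rcases hVmin Ω hΩn hΩψ (fun x hx => hx.1) with h | h
    · exact absurd h hΩne
    · intro v hv
      have : v ∈ Ω := h ▸ hv
      exact this.2
  haveI : Fact r.Prime := ⟨hr⟩
  have hVr : IsPGroup r V := fun v => ⟨1, Subtype.ext (by
    rw [pow_one, Subgroup.coe_pow]
    exact hrV v v.2)⟩
  haveI hGV : Group.IsNilpotent (G ⧸ V) := hquot ψ hψp hψs V hVn hVne hVψ
  have htfaeV : Group.IsNilpotent (G ⧸ V) ↔
      ∀ (s : ℕ) (_hs : Fact s.Prime) (S : Sylow s (G ⧸ V)), (S : Subgroup (G ⧸ V)).Normal :=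
    (Group.isNilpotent_of_finite_tfae (G := G ⧸ V)).out 0 3
  have hSbar : ((S : Subgroup G).map (QuotientGroup.mk' V)).Normal := by
    have := htfaeV.mp hGV s hs (S.mapSurjective (QuotientGroup.mk'_surjective V))
    rwa [Sylow.coe_mapSurjective] at this
  obtain ⟨T, hT⟩ : ∃ T : Subgroup G, T = V ⊔ S := ⟨_, rfl⟩
  have hTn : T.Normal := by
    have : T = ((S : Subgroup G).map (QuotientGroup.mk' V)).comap (QuotientGroup.mk' V) := by
      rw [QuotientGroup.comap_map_mk', hT]
    rw [this]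
    exact hSbar.comap _
  have hTψ : ∀ x ∈ T, ψ x ∈ T := by
    intro x hx
    have : ψ.toMonoidHom x ∈ T.map ψ.toMonoidHom := Subgroup.mem_map_of_mem _ hx
    rwa [hT, Subgroup.map_sup, hVmap, Fpf.map_eq ψ S hSψ, ← hT] at this
  have hsr : s ≠ r := by
    intro hsr
    subst hsr
    have hVS : V ≤ S := hVr.le_sylow_of_normal S
    apply hSnn
    have : T = S := by rw [hT]; exact sup_eq_right.mpr hVS
    rw [← this]
    exact hTn
  have hTtop : T = ⊤ := by
    by_contra hT'
    haveI hTnil : Group.IsNilpotent T := hsub ψ hψp hψs T hT' hTψ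
    have hST : (S : Subgroup G) ≤ T := by rw [hT]; exact le_sup_right
    have htfaeT : Group.IsNilpotent T ↔
        ∀ (s : ℕ) (_hs : Fact s.Prime) (S' : Sylow s T), (S' : Subgroup T).Normal :=
      (Group.isNilpotent_of_finite_tfae (G := T)).out 0 3
    have h1 : ((S.subtype hST : Sylow s T) : Subgroup T).Normal := htfaeT.mp hTnil s hs _
    haveI h2 : ((S.subtype hST : Sylow s T) : Subgroup T).Characteristic :=
      Sylow.characteristic_of_normal _ h1
    haveI := hTn
    have h3 : (((S.subtype hST : Sylow s T) : Subgroup T).map T.subtype).Normal :=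
      ConjAct.normal_of_characteristic_of_normal
    apply hSnn
    have h4 : ((S.subtype hST : Sylow s T) : Subgroup T).map T.subtype = S := by
      rw [Sylow.coe_subtype]
      exact Subgroup.map_subgroupOf_eq_of_le hST
    rwa [h4] at h3
  have hGsup : ∀ g : G, ∃ v ∈ V, ∃ t ∈ S, g = v * t := by
    intro g
    have hg : g ∈ V ⊔ (S : Subgroup G) := by rw [← hT, hTtop]; exact Subgroup.mem_top g
    obtain ⟨v, hv, t, ht, rfl⟩ := Subgroup.mem_sup_of_normal_left.mp hg
    exact ⟨v, hv, t, ht, rfl⟩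
  have hSV : (S : Subgroup G) ≤ Subgroup.centralizer (V : Set G) :=
    centralizes_of_split p hp ψ hψp hψs V hVab hVψ S hSψ
      (IsPGroup.coprime_card_of_ne r s (Ne.symm hsr) _ _ hVr S.isPGroup')
  apply hSnn
  constructor
  intro x hx g'
  obtain ⟨v, hv, t, ht, rfl⟩ := hGsup g'
  have h1 : t * x * t⁻¹ ∈ (S : Subgroup G) :=
    (S : Subgroup G).mul_mem ((S : Subgroup G).mul_mem ht hx) ((S : Subgroup G).inv_mem ht)
  have h2 : v * (t * x * t⁻¹) * v⁻¹ = t * x * t⁻¹ := by
    have := Subgroup.mem_centralizer_iff.mp (hSV h1) v hv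
    rw [this, mul_inv_cancel_right]
  have h3 : v * t * x * (v * t)⁻¹ = v * (t * x * t⁻¹) * v⁻¹ := by group
  rw [h3, h2]
  exact h1

end KegelThm

end Cfsg.Agent.Helper22
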