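import Mathlib
import Cfsg.Agent.Helper22.NilSym3

set_option autoImplicit false

namespace Cfsg.Agent.Helper22

theorem nilG_two : nilG 2 = 1 := by
  have h := nilG_two_mul 1
  rw [nilG_one] at h
  exact h

theorem nilG_three : nilG 3 = 1 := by
  have h := nilG_two_mul_add_one 1
  rw [nilG_one] at h
  exact h

theorem nilG_four : nilG 4 = 3 := by
  have h := nilG_two_mul 2
  rw [nilG_two] at h
  exact h

theorem nilG_five : nilG 5 = 3 := by
  have h := nilG_two_mul_add_one 2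
  rw [nilG_two] at h
  exact h

theorem nilG_six : nilG 6 = 4 := by
  have h := nilG_two_mul 3
  rw [nilG_three] at h
  exact h

theorem nilG_eight : nilG 8 = 7 := by
  have h := nilG_two_mul 4
  rw [nilG_four] at h
  exact h

theorem nilG_nine : nilG 9 = 7 := by
  have h := nilG_two_mul_add_one 4
  rw [nilG_four] at h
  exact h

theorem nilG_ten : nilG 10 = 8 := by
  have h := nilG_two_mul 5
  rw [nilG_five] at h
  exact h

theorem nilG_twelve : nilG 12 = 10 := by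
  have h := nilG_two_mul 6
  rw [nilG_six] at h
  exact h

theorem nilG_24 : nilG 24 = 22 := by
  have h := nilG_two_mul 12
  rw [nilG_twelve] at h
  exact h

/-- The bound for nilpotent subgroups of the alternating group of degree `n`. -/
def nilA (n : ℕ) : ℕ :=
  if n = 5 then 5 else if n = 6 then 9 else if n = 9 then 81
  else if n % 4 = 3 then 3 * 2 ^ (nilG (n - 3) - 1) else 2 ^ (nilG n - 1)

theorem nilA_zero : nilA 0 = 1 := by simp [nilA, nilG_zero]
theorem nilA_one : nilA 1 = 1 := by simp [nilA, nilG_one]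
theorem nilA_two : nilA 2 = 1 := by simp [nilA, nilG_two]
theorem nilA_three : nilA 3 = 3 := by simp [nilA, nilG_zero]
theorem nilA_four : nilA 4 = 4 := by norm_num [nilA, nilG_four]
theorem nilA_five : nilA 5 = 5 := by simp [nilA]
theorem nilA_six : nilA 6 = 9 := by simp [nilA]
theorem nilA_seven : nilA 7 = 12 := by norm_num [nilA, nilG_four]
theorem nilA_eight : nilA 8 = 64 := by norm_num [nilA, nilG_eight]
theorem nilA_nine : nilA 9 = 81 := by simp [nilA]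
theorem nilA_ten : nilA 10 = 128 := by norm_num [nilA, nilG_ten]
theorem nilA_twelve : nilA 12 = 512 := by norm_num [nilA, nilG_twelve]
theorem nilA_27 : nilA 27 = 3 * 2 ^ 21 := by norm_num [nilA, nilG_24]

theorem nilA_pos (n : ℕ) : 1 ≤ nilA n := by
  unfold nilA
  split_ifs <;> exact Nat.succ_le_of_lt (by positivity)

theorem nilM_le_two_nilA (n : ℕ) (hn : 2 ≤ n) : nilM n ≤ 2 * nilA n := by
  by_cases h5 : n = 5
  · subst h5
    rw [nilA_five, nilM_of_not_mod (n := 5) (by norm_num), nilG_five]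
    norm_num
  by_cases h6 : n = 6
  · subst h6
    rw [nilA_six, nilM_of_not_mod (n := 6) (by norm_num), nilG_six]
    norm_num
  by_cases h9 : n = 9
  · subst h9
    rw [nilA_nine, nilM_of_not_mod (n := 9) (by norm_num), nilG_nine]
    norm_num
  unfold nilA
  rw [if_neg h5, if_neg h6, if_neg h9]
  by_cases h3 : n % 4 = 3
  · rw [if_pos h3, nilM_of_mod h3 (nilG_of_mod n h3)]
    rcases Nat.eq_zero_or_pos (nilG (n - 3)) with h0 | hpos
    · rw [h0]
      norm_num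
    · obtain ⟨k, hk⟩ : ∃ k, nilG (n - 3) = k + 1 := ⟨nilG (n - 3) - 1, by omega⟩
      rw [hk, Nat.add_sub_cancel, pow_succ]
      omega
  · rw [if_neg h3, nilM_of_not_mod h3]
    have h1 : nilG 2 ≤ nilG n := nilG_mono hn
    rw [nilG_two] at h1
    obtain ⟨k, hk⟩ : ∃ k, nilG n = k + 1 := ⟨nilG n - 1, by omega⟩
    rw [hk, Nat.add_sub_cancel, pow_succ]
    omega

theorem two_nilA_le_nilM (a : ℕ) (ha : 2 ≤ a) (h3 : a ≠ 3) (h5 : a ≠ 5) (h6 : a ≠ 6)
    (h9 : a ≠ 9) : 2 * nilA a ≤ nilM a := by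
  unfold nilA
  rw [if_neg h5, if_neg h6, if_neg h9]
  by_cases hm : a % 4 = 3
  · rw [if_pos hm, nilM_of_mod hm (nilG_of_mod a hm)]
    have h1 : nilG 2 ≤ nilG (a - 3) := nilG_mono (by omega)
    rw [nilG_two] at h1
    obtain ⟨k, hk⟩ : ∃ k, nilG (a - 3) = k + 1 := ⟨nilG (a - 3) - 1, by omega⟩
    rw [hk, Nat.add_sub_cancel, pow_succ]
    omega
  · rw [if_neg hm, nilM_of_not_mod hm]
    have h1 : nilG 2 ≤ nilG a := nilG_mono ha
    rw [nilG_two] at h1
    obtain ⟨k, hk⟩ : ∃ k, nilG a = k + 1 := ⟨nilG a - 1, by omega⟩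
    rw [hk, Nat.add_sub_cancel, pow_succ]
    omega

theorem three_nilA_le (a : ℕ) (h : a = 5 ∨ a = 6 ∨ a = 9) : 3 * nilA a ≤ 2 * nilM a := by
  rcases h with rfl | rfl | rfl
  · rw [nilA_five, nilM_of_not_mod (n := 5) (by norm_num), nilG_five]
    norm_num
  · rw [nilA_six, nilM_of_not_mod (n := 6) (by norm_num), nilG_six]
    norm_num
  · rw [nilA_nine, nilM_of_not_mod (n := 9) (by norm_num), nilG_nine]
    norm_num

theorem nilA_le_nilM (a : ℕ) : nilA a ≤ nilM a := by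
  by_cases h5 : a = 5 ∨ a = 6 ∨ a = 9
  · have := three_nilA_le a h5
    omega
  · unfold nilA
    rw [if_neg (by omega), if_neg (by omega), if_neg (by omega)]
    by_cases hm : a % 4 = 3
    · rw [if_pos hm, nilM_of_mod hm (nilG_of_mod a hm)]
      exact Nat.mul_le_mul_left 3 (Nat.pow_le_pow_right (by norm_num) (Nat.sub_le _ _))
    · rw [if_neg hm, nilM_of_not_mod hm]
      exact Nat.pow_le_pow_right (by norm_num) (Nat.sub_le _ _)

theorem nilA_mul_le_gen (a b : ℕ) (ha : 2 ≤ a) (h3 : a ≠ 3) (h5 : a ≠ 5) (h6 : a ≠ 6)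
    (h9 : a ≠ 9) : nilA a * nilA b ≤ nilA (a + b) := by
  have h1 := two_nilA_le_nilM a ha h3 h5 h6 h9
  have h2 := nilA_le_nilM b
  have h3' := nilM_mul_le a b
  have h4 := nilM_le_two_nilA (a + b) (by omega)
  have h5' : 2 * nilA a * nilA b ≤ nilM a * nilM b := Nat.mul_le_mul h1 h2
  have h6' : 2 * nilA a * nilA b = 2 * (nilA a * nilA b) := by ring
  omega

theorem nilA_mul_le_exc (a b : ℕ) (ha : a = 5 ∨ a = 6 ∨ a = 9) (hb : b = 5 ∨ b = 6 ∨ b = 9) :
    nilA a * nilA b ≤ nilA (a + b) := by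
  have h1 := three_nilA_le a ha
  have h2 := three_nilA_le b hb
  have h3 := nilM_mul_le a b
  have h4 := nilM_le_two_nilA (a + b) (by omega)
  have h5 : (3 * nilA a) * (3 * nilA b) ≤ (2 * nilM a) * (2 * nilM b) := Nat.mul_le_mul h1 h2
  have h6 : (3 * nilA a) * (3 * nilA b) = 9 * (nilA a * nilA b) := by ring
  have h7 : (2 * nilM a) * (2 * nilM b) = 4 * (nilM a * nilM b) := by ring
  omega

theorem nilA_mul_le_small (a b : ℕ) (ha : a = 1 ∨ a = 3)
    (hb : b = 1 ∨ b = 3 ∨ b = 5 ∨ b = 6 ∨ b = 9) : nilA a * nilA b ≤ nilA (a + b) := by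
  rcases ha with rfl | rfl <;> rcases hb with rfl | rfl | rfl | rfl | rfl <;>
    norm_num [nilA_one, nilA_two, nilA_three, nilA_four, nilA_five, nilA_six, nilA_seven,
      nilA_eight, nilA_nine, nilA_ten, nilA_twelve]

theorem nilA_mul_le (a b : ℕ) : nilA a * nilA b ≤ nilA (a + b) := by
  by_cases ha0 : a = 0
  · subst ha0
    rw [nilA_zero, one_mul, zero_add]
  by_cases hb0 : b = 0
  · subst hb0
    rw [nilA_zero, mul_one, add_zero]
  by_cases hag : 2 ≤ a ∧ a ≠ 3 ∧ a ≠ 5 ∧ a ≠ 6 ∧ a ≠ 9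
  · exact nilA_mul_le_gen a b hag.1 hag.2.1 hag.2.2.1 hag.2.2.2.1 hag.2.2.2.2
  by_cases hbg : 2 ≤ b ∧ b ≠ 3 ∧ b ≠ 5 ∧ b ≠ 6 ∧ b ≠ 9
  · rw [mul_comm, add_comm]
    exact nilA_mul_le_gen b a hbg.1 hbg.2.1 hbg.2.2.1 hbg.2.2.2.1 hbg.2.2.2.2
  have ha' : a = 1 ∨ a = 3 ∨ a = 5 ∨ a = 6 ∨ a = 9 := by omega
  have hb' : b = 1 ∨ b = 3 ∨ b = 5 ∨ b = 6 ∨ b = 9 := by omega
  by_cases ha13 : a = 1 ∨ a = 3
  · exact nilA_mul_le_small a b ha13 hb'
  by_cases hb13 : b = 1 ∨ b = 3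
  · rw [mul_comm, add_comm]
    exact nilA_mul_le_small b a hb13 ha'
  exact nilA_mul_le_exc a b (by omega) (by omega)

theorem nilA_mono {a b : ℕ} (h : a ≤ b) : nilA a ≤ nilA b := by
  have h1 := nilA_mul_le a (b - a)
  rw [Nat.add_sub_cancel' h] at h1
  calc nilA a = nilA a * 1 := (mul_one _).symm
    _ ≤ nilA a * nilA (b - a) := Nat.mul_le_mul_left _ (nilA_pos _)
    _ ≤ nilA b := h1

theorem two_pow_le_nilA (n : ℕ) (hn : 2 ≤ n) : 2 ^ (nilG n - 1) ≤ nilA n := by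
  have h1 := nilM_le_two_nilA n hn
  have h2 := two_pow_le_nilM n
  have h3 : nilG 2 ≤ nilG n := nilG_mono hn
  rw [nilG_two] at h3
  obtain ⟨k, hk⟩ : ∃ k, nilG n = k + 1 := ⟨nilG n - 1, by omega⟩
  rw [hk, pow_succ] at h2
  rw [hk, Nat.add_sub_cancel]
  omega

theorem pow_bound_step4 (p : ℕ) (hp : 3 ≤ p) (a : ℕ) (ha : 1 ≤ a)
    (h : 4 * p ^ ((∑ i ∈ Finset.range a, p ^ i) + a) ≤ 2 ^ (p ^ a)) :
    4 * p ^ ((∑ i ∈ Finset.range (a + 1), p ^ i) + (a + 1)) ≤ 2 ^ (p ^ (a + 1)) := by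
  have hg := geom_aux p a
  rw [Finset.sum_range_succ, pow_succ p a, pow_mul]
  generalize (∑ i ∈ Finset.range a, p ^ i) = S at *
  have h1 : a + 2 ≤ p * a := by nlinarith
  have h2 : S + p ^ a + (a + 1) ≤ p * (S + a) := by
    rw [mul_add]
    omega
  calc 4 * p ^ (S + p ^ a + (a + 1)) ≤ 4 ^ p * p ^ (p * (S + a)) :=
        Nat.mul_le_mul (Nat.le_self_pow (by omega) 4) (Nat.pow_le_pow_right (by omega) h2)
    _ = (4 * p ^ (S + a)) ^ p := by rw [mul_pow, ← pow_mul, mul_comm (S + a) p]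
    _ ≤ (2 ^ (p ^ a)) ^ p := Nat.pow_le_pow_left h p

theorem pow_bound4 (p : ℕ) (hp : 3 ≤ p) (a₀ : ℕ) (ha₀ : 1 ≤ a₀)
    (hbase : 4 * p ^ ((∑ i ∈ Finset.range a₀, p ^ i) + a₀) ≤ 2 ^ (p ^ a₀)) :
    ∀ a, a₀ ≤ a → 4 * p ^ ((∑ i ∈ Finset.range a, p ^ i) + a) ≤ 2 ^ (p ^ a) := by
  intro a ha
  induction a, ha using Nat.le_induction with
  | base => exact hbase
  | succ a ha ih => exact pow_bound_step4 p hp a (by omega) ih

theorem four_mul_sq_le_two_pow (p : ℕ) (hp : 8 ≤ p) : 4 * p ^ 2 ≤ 2 ^ p := by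
  induction p, hp using Nat.le_induction with
  | base => norm_num
  | succ p hp ih =>
    rw [pow_succ 2 p]
    nlinarith

/-- The order of a Sylow `p`-subgroup of `S_{p^a}`, `p` odd, is at most `nilA (p ^ a)`. -/
theorem prime_pow_le_nilA (p : ℕ) (hp : p.Prime) (hp2 : p ≠ 2) (a : ℕ) (ha : 1 ≤ a) :
    p ^ (∑ i ∈ Finset.range a, p ^ i) ≤ nilA (p ^ a) := by
  have hp3 : 3 ≤ p := by have := hp.two_le; omega
  have tool : ∀ a, 1 ≤ a → 4 * p ^ ((∑ i ∈ Finset.range a, p ^ i) + a) ≤ 2 ^ (p ^ a) →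
      p ^ (∑ i ∈ Finset.range a, p ^ i) ≤ nilA (p ^ a) := by
    intro a ha1 h
    have hpa : 3 ≤ p ^ a := le_trans hp3 (Nat.le_self_pow (by omega) p)
    have h1 := two_pow_le_mul (p ^ a) (by omega)
    have h2 : 2 * p ^ a * (2 * p ^ (∑ i ∈ Finset.range a, p ^ i)) ≤
        2 * p ^ a * 2 ^ nilG (p ^ a) := by
      calc 2 * p ^ a * (2 * p ^ (∑ i ∈ Finset.range a, p ^ i))
          = 4 * p ^ ((∑ i ∈ Finset.range a, p ^ i) + a) := by rw [pow_add]; ring
        _ ≤ 2 ^ (p ^ a) := h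
        _ ≤ 2 * p ^ a * 2 ^ nilG (p ^ a) := h1
    have hpos : 0 < 2 * p ^ a := by omega
    have h3 := Nat.le_of_mul_le_mul_left h2 hpos
    have h4 := two_pow_le_nilM (p ^ a)
    have h5 := nilM_le_two_nilA (p ^ a) (by omega)
    omega
  rcases (by omega : p = 3 ∨ p = 4 ∨ p = 5 ∨ p = 6 ∨ p = 7 ∨ 8 ≤ p) with
    rfl | rfl | rfl | rfl | rfl | h8
  · rcases (by omega : a = 1 ∨ a = 2 ∨ a = 3 ∨ 4 ≤ a) with rfl | rfl | rfl | h4
    · norm_num [Finset.sum_range_succ, nilA_three]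
    · norm_num [Finset.sum_range_succ, nilA_nine]
    · norm_num [Finset.sum_range_succ, nilA_27]
    · exact tool a ha (pow_bound4 3 (by norm_num) 4 (by norm_num)
        (by norm_num [Finset.sum_range_succ]) a h4)
  · exact absurd hp (by norm_num)
  · rcases (by omega : a = 1 ∨ 2 ≤ a) with rfl | h2
    · norm_num [Finset.sum_range_succ, nilA_five]
    · exact tool a ha (pow_bound4 5 (by norm_num) 2 (by norm_num)
        (by norm_num [Finset.sum_range_succ]) a h2)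
  · exact absurd hp (by norm_num)
  · rcases (by omega : a = 1 ∨ 2 ≤ a) with rfl | h2
    · norm_num [Finset.sum_range_succ, nilA_seven]
    · exact tool a ha (pow_bound4 7 (by norm_num) 2 (by norm_num)
        (by norm_num [Finset.sum_range_succ]) a h2)
  · exact tool a ha (pow_bound4 p hp3 1 (by norm_num)
      (by
        rw [Finset.sum_range_one, pow_zero, pow_one]
        exact four_mul_sq_le_two_pow p h8) a ha)

theorem nilM_mul_le_nilA (a b n : ℕ) (ha : 2 ≤ a) (hb : 2 ≤ b) (hab : ¬(a = 2 ∧ b = 2))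
    (hn : a * b ≤ n) : nilM a * nilM b ≤ nilA n := by
  have hM2 : nilM 2 = 2 := by
    rw [nilM_of_not_mod (n := 2) (by norm_num), nilG_two]
    norm_num
  have hM3 : nilM 3 = 3 := by
    rw [nilM_of_mod (n := 3) (k := 0) (by norm_num) (by rw [nilG_three])]
    norm_num
  by_cases h6 : (a = 2 ∧ b = 3) ∨ (a = 3 ∧ b = 2)
  · have h1 : nilA 6 ≤ nilA n :=
      nilA_mono (by rcases h6 with ⟨rfl, rfl⟩ | ⟨rfl, rfl⟩ <;> omega)
    rw [nilA_six] at h1
    rcases h6 with ⟨rfl, rfl⟩ | ⟨rfl, rfl⟩ <;> rw [hM2, hM3] <;> omega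
  · have hsum : a + b + 2 ≤ a * b := by
      rcases (by omega : a = 2 ∨ a = 3 ∨ 4 ≤ a) with rfl | rfl | h4
      · omega
      · omega
      · have e1 := Nat.mul_le_mul_right b h4
        have e2 := Nat.mul_le_mul_left a hb
        omega
    have h1 := nilM_mul_le a b
    have h2 := nilM_mul_le (a + b) 2
    have h3 : nilM (a + b + 2) ≤ nilM n := nilM_mono (by omega)
    have h4 := nilM_le_two_nilA n (by omega)
    rw [hM2] at h2
    omega

end Cfsg.Agent.Helper22
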