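import Mathlib
import Cfsg.Agent.Helper22.NilAlt1

set_option autoImplicit false

namespace Cfsg.Agent.Helper22

open Equiv

theorem sign_of_sum_equiv {Ω α β : Type*} [Fintype Ω] [DecidableEq Ω] [Fintype α] [DecidableEq α]
    [Fintype β] [DecidableEq β] (e : α ⊕ β ≃ Ω) (g : Perm Ω) (g₁ : Perm α) (g₂ : Perm β)
    (h₁ : ∀ x, e (Sum.inl (g₁ x)) = g (e (Sum.inl x)))
    (h₂ : ∀ y, e (Sum.inr (g₂ y)) = g (e (Sum.inr y))) :
    Perm.sign g = Perm.sign g₁ * Perm.sign g₂ := by
  have h : g = e.permCongr (Perm.sumCongr g₁ g₂) := by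
    apply Equiv.ext
    intro ω
    obtain ⟨s, rfl⟩ := e.surjective ω
    rw [Equiv.permCongr_apply, Equiv.symm_apply_apply]
    cases s with
    | inl x => exact (h₁ x).symm
    | inr y => exact (h₂ y).symm
  rw [h, Perm.sign_permCongr, Perm.sign_sumCongr]

theorem alt_card_le_of_intransitive {Ω : Type} [Fintype Ω] [DecidableEq Ω] (n : ℕ)
    (hn : Nat.card Ω = n)
    (ih : ∀ m < n, ∀ (Ω' : Type) [Fintype Ω'] [DecidableEq Ω'], Nat.card Ω' = m →
      ∀ N' : Subgroup (Perm Ω'), Group.IsNilpotent N' → (∀ g ∈ N', Perm.sign g = 1) →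
        Nat.card N' ≤ nilA m)
    (N : Subgroup (Perm Ω)) (hN : Group.IsNilpotent N) (hev : ∀ g ∈ N, Perm.sign g = 1) (ω : Ω)
    (hω : MulAction.orbit N ω ≠ Set.univ) : Nat.card N ≤ nilA n := by
  classical
  haveI := hN
  let Y : SubMulAction N Ω :=
    { carrier := (MulAction.orbit N ω)ᶜ
      smul_mem' := by
        intro g x hx hgx
        apply hx
        have h1 : g⁻¹ • (g • x) ∈ MulAction.orbit N ω := MulAction.mem_orbit_of_mem_orbit g⁻¹ hgx
        rwa [inv_smul_smul] at h1 }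
  letI instFX : Fintype ↥(MulAction.orbit N ω) := Fintype.ofFinite _
  letI instFY : Fintype ↥Y := Fintype.ofFinite _
  letI instDX : DecidableEq ↥(MulAction.orbit N ω) := Classical.decEq _
  letI instDY : DecidableEq ↥Y := Classical.decEq _
  have hcard : Nat.card ↥(MulAction.orbit N ω) + Nat.card ↥Y = n := by
    rw [← hn, ← Nat.card_sum]
    exact Nat.card_congr (Equiv.Set.sumCompl (MulAction.orbit N ω))
  have hXpos : 0 < Nat.card ↥(MulAction.orbit N ω) :=
    Nat.card_pos_iff.mpr ⟨⟨⟨ω, MulAction.mem_orbit_self ω⟩⟩, inferInstance⟩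
  have hYpos : 0 < Nat.card ↥Y := by
    obtain ⟨y, hy⟩ := (Set.ne_univ_iff_exists_notMem _).mp hω
    exact Nat.card_pos_iff.mpr ⟨⟨⟨y, hy⟩⟩, inferInstance⟩
  obtain ⟨e, he1, he2⟩ : ∃ e : ↥(MulAction.orbit N ω) ⊕ ↥Y ≃ Ω,
      (∀ x, e (Sum.inl x) = x.1) ∧ (∀ y, e (Sum.inr y) = y.1) :=
    ⟨Equiv.Set.sumCompl (MulAction.orbit N ω), fun _ => rfl, fun _ => rfl⟩
  let ψ₁ : ↥N →* Perm ↥(MulAction.orbit N ω) := MulAction.toPermHom N ↥(MulAction.orbit N ω)
  let ψ₂ : ↥N →* Perm ↥Y := MulAction.toPermHom N ↥Y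
  have hsign : ∀ g : N, Perm.sign (ψ₁ g) * Perm.sign (ψ₂ g) = 1 := by
    intro g
    rw [← sign_of_sum_equiv e g.1 (ψ₁ g) (ψ₂ g)
      (fun x => by rw [he1, he1]; rfl) (fun y => by rw [he2, he2]; rfl)]
    exact hev g.1 g.2
  let ψ : ↥N →* Perm ↥(MulAction.orbit N ω) × Perm ↥Y := ψ₁.prod ψ₂
  have hψinj : Function.Injective ψ := by
    intro g g' h
    have h1 : ψ₁ g = ψ₁ g' := congrArg Prod.fst h
    have h2 : ψ₂ g = ψ₂ g' := congrArg Prod.snd h
    apply Subtype.ext
    apply Equiv.ext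
    intro x
    by_cases hx : x ∈ MulAction.orbit N ω
    · have h3 := congrArg (fun σ : Perm ↥(MulAction.orbit N ω) => (σ ⟨x, hx⟩ : Ω)) h1
      exact h3
    · have h3 := congrArg (fun σ : Perm ↥Y => (σ ⟨x, hx⟩ : Ω)) h2
      exact h3
  have hKT : ψ.range ≤ ψ₁.range.prod ψ₂.range := by
    rintro _ ⟨g, rfl⟩
    exact Subgroup.mem_prod.mpr ⟨⟨g, rfl⟩, ⟨g, rfl⟩⟩
  have hcK : Nat.card ψ.range = Nat.card N :=
    (Nat.card_congr (MonoidHom.ofInjective hψinj).toEquiv).symm
  have hcT : Nat.card (ψ₁.range.prod ψ₂.range) = Nat.card ψ₁.range * Nat.card ψ₂.range := by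
    rw [Nat.card_congr (Subgroup.prodEquiv _ _).toEquiv, Nat.card_prod]
  have hn1 : Group.IsNilpotent ψ₁.range :=
    Group.nilpotent_of_surjective ψ₁.rangeRestrict (MonoidHom.rangeRestrict_surjective _)
  have hn2 : Group.IsNilpotent ψ₂.range :=
    Group.nilpotent_of_surjective ψ₂.rangeRestrict (MonoidHom.rangeRestrict_surjective _)
  by_cases hA : ∀ g : N, Perm.sign (ψ₁ g) = 1
  · have hB : ∀ g : N, Perm.sign (ψ₂ g) = 1 := by
      intro g
      have h1 := hsign g
      rwa [hA g, one_mul] at h1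
    have h4 : Nat.card ψ₁.range ≤ nilA (Nat.card ↥(MulAction.orbit N ω)) :=
      ih _ (by omega) ↥(MulAction.orbit N ω) rfl _ hn1 (by
        rintro _ ⟨g, rfl⟩
        exact hA g)
    have h5 : Nat.card ψ₂.range ≤ nilA (Nat.card ↥Y) :=
      ih _ (by omega) ↥Y rfl _ hn2 (by
        rintro _ ⟨g, rfl⟩
        exact hB g)
    calc Nat.card N = Nat.card ψ.range := hcK.symm
      _ ≤ Nat.card (ψ₁.range.prod ψ₂.range) := Subgroup.card_le_of_le hKT
      _ = Nat.card ψ₁.range * Nat.card ψ₂.range := hcT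
      _ ≤ nilA (Nat.card ↥(MulAction.orbit N ω)) * nilA (Nat.card ↥Y) := Nat.mul_le_mul h4 h5
      _ ≤ nilA (Nat.card ↥(MulAction.orbit N ω) + Nat.card ↥Y) := nilA_mul_le _ _
      _ = nilA n := by rw [hcard]
  · have hA' : ∃ g₀ : N, Perm.sign (ψ₁ g₀) ≠ 1 := by
      by_contra hcon
      apply hA
      intro g
      by_contra hg
      exact hcon ⟨g, hg⟩
    obtain ⟨g₀, hg₀⟩ := hA'
    have hne : ψ.range ≠ ψ₁.range.prod ψ₂.range := by
      intro heq
      have hmem : (ψ₁ g₀, (1 : Perm ↥Y)) ∈ ψ₁.range.prod ψ₂.range :=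
        Subgroup.mem_prod.mpr ⟨⟨g₀, rfl⟩, Subgroup.one_mem _⟩
      rw [← heq] at hmem
      obtain ⟨g, hg⟩ := hmem
      have h1 : ψ₁ g = ψ₁ g₀ := congrArg Prod.fst hg
      have h2 : ψ₂ g = 1 := congrArg Prod.snd hg
      have h3 := hsign g
      rw [h1, h2, Perm.sign_one, mul_one] at h3
      exact hg₀ h3
    have hdvd := Subgroup.card_dvd_of_le hKT
    have hlt : Nat.card ψ.range ≠ Nat.card (ψ₁.range.prod ψ₂.range) :=
      fun h => hne (Subgroup.eq_of_le_of_card_ge hKT h.ge)
    have hTpos : 0 < Nat.card (ψ₁.range.prod ψ₂.range) := Nat.card_pos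
    obtain ⟨k, hk⟩ := hdvd
    have hk2 : 2 ≤ k := by
      by_contra hk2
      rcases (by omega : k = 0 ∨ k = 1) with rfl | rfl
      · rw [mul_zero] at hk
        omega
      · rw [mul_one] at hk
        exact hlt hk.symm
    have h2N : 2 * Nat.card N ≤ Nat.card ψ₁.range * Nat.card ψ₂.range := by
      rw [← hcT, hk, ← hcK, mul_comm]
      exact Nat.mul_le_mul_left _ hk2
    have h4 : Nat.card ψ₁.range ≤ nilM (Nat.card ↥(MulAction.orbit N ω)) :=
      nil_perm_bound _ ↥(MulAction.orbit N ω) rfl _ hn1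
    have h5 : Nat.card ψ₂.range ≤ nilM (Nat.card ↥Y) :=
      nil_perm_bound _ ↥Y rfl _ hn2
    have h6 := Nat.mul_le_mul h4 h5
    have h7 := nilM_mul_le (Nat.card ↥(MulAction.orbit N ω)) (Nat.card ↥Y)
    rw [hcard] at h7
    have h8 := nilM_le_two_nilA n (by omega)
    omega

theorem alt_card_le_of_transitive_pgroup {Ω : Type} [Fintype Ω] [DecidableEq Ω] (n : ℕ)
    (hn : Nat.card Ω = n) (N : Subgroup (Perm Ω)) (hev : ∀ g ∈ N, Perm.sign g = 1) (p : ℕ)
    [hp : Fact p.Prime] (hNp : IsPGroup p N) (ω : Ω)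
    (htr : MulAction.orbit N ω = Set.univ) : Nat.card N ≤ nilA n := by
  obtain ⟨k, hk⟩ := IsPGroup.iff_card.mp hNp
  have hdvd : n ∣ Nat.card N := by
    have h1 : (MulAction.stabilizer N ω).index = n := by
      rw [MulAction.index_stabilizer, ← Nat.card_coe_set_eq, ← hn]
      exact Nat.card_congr ((Equiv.setCongr htr).trans (Equiv.Set.univ Ω))
    rw [← h1]
    exact Subgroup.index_dvd_card _
  rw [hk] at hdvd
  obtain ⟨a, hak, ha⟩ := (Nat.dvd_prime_pow hp.out).mp hdvd
  have hfac : p ^ k ∣ (p ^ a).factorial := by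
    have h1 := Subgroup.card_subgroup_dvd_card N
    rwa [Nat.card_perm, hn, hk, ha] at h1
  by_cases ha0 : a = 0
  · subst ha0
    have h1 : p ^ k = 1 := by simpa using hfac
    rw [hk, h1]
    exact nilA_pos _
  by_cases hp2 : p = 2
  · subst hp2
    have hle : N ≤ alternatingGroup Ω := fun g hg => Perm.mem_alternatingGroup.mpr (hev g hg)
    have h1 := Subgroup.card_dvd_of_le hle
    have hn2 : 2 ≤ n := by
      rw [ha]
      exact Nat.le_self_pow ha0 2
    haveI : Nontrivial Ω := (Finite.one_lt_card_iff_nontrivial).mp (by rw [hn]; omega)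
    have h2 : 2 * Nat.card (alternatingGroup Ω) = Nat.card (Perm Ω) := by
      rw [Nat.card_eq_fintype_card, Nat.card_eq_fintype_card]
      exact two_mul_card_alternatingGroup
    rw [Nat.card_perm, hn] at h2
    have h3 : 2 ^ (k + 1) ∣ n.factorial := by
      rw [← h2, pow_succ, mul_comm]
      rw [hk] at h1
      exact Nat.mul_dvd_mul_left 2 h1
    have h4 : k + 1 ≤ nilG n := (padicValNat_dvd_iff_le (Nat.factorial_ne_zero _)).mp h3
    have h5 := two_pow_le_nilA n hn2
    rw [hk]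
    exact le_trans (Nat.pow_le_pow_right (by norm_num) (by omega)) h5
  · have hkle : k ≤ padicValNat p (p ^ a).factorial :=
      (padicValNat_dvd_iff_le (Nat.factorial_ne_zero _)).mp hfac
    have hval : padicValNat p (p ^ a).factorial = ∑ i ∈ Finset.range a, p ^ i := by
      rw [padicValNat_def (Nat.factorial_ne_zero _)]
      exact Nat.Prime.multiplicity_factorial_pow hp.out
    rw [hval] at hkle
    rw [hk, ha]
    calc p ^ k ≤ p ^ (∑ i ∈ Finset.range a, p ^ i) := Nat.pow_le_pow_right hp.out.pos hkle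
      _ ≤ nilA (p ^ a) := prime_pow_le_nilA p hp.out hp2 a (by omega)

theorem orbit_prod_facts {Ω : Type} [Finite Ω] (n : ℕ) (hn : Nat.card Ω = n)
    (A B : Subgroup (Perm Ω)) (hA : Group.IsNilpotent A) (hB : Group.IsNilpotent B)
    (hcomm : ∀ a ∈ A, ∀ b ∈ B, a * b = b * a)
    (hcop : (Nat.card A).Coprime (Nat.card B)) (hA1 : A ≠ ⊥) (hB1 : B ≠ ⊥) (ω : Ω)
    (hT : ∀ ω' : Ω, ∃ a ∈ A, ∃ b ∈ B, (a * b) ω = ω') :
    ∃ rA rB : ℕ, 2 ≤ rA ∧ 2 ≤ rB ∧ rA * rB ≤ n ∧ rA ∣ Nat.card A ∧ rB ∣ Nat.card B ∧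
      Nat.card A ≤ nilM rA ∧ Nat.card B ≤ nilM rB := by
  classical
  have hT' : ∀ ω' : Ω, ∃ b ∈ B, ∃ a ∈ A, (b * a) ω = ω' := by
    intro ω'
    obtain ⟨a, ha, b, hb, h⟩ := hT ω'
    exact ⟨b, hb, a, ha, by rw [← hcomm a ha b hb]; exact h⟩
  have hcomm' : ∀ b ∈ B, ∀ a ∈ A, b * a = a * b := fun b hb a ha => (hcomm a ha b hb).symm
  have hinjA := faithful_on_orbit A B hcomm ω hT
  have hinjB := faithful_on_orbit B A hcomm' ω hT'
  have hx2 : 2 ≤ Nat.card ↥(MulAction.orbit A ω) := by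
    by_contra hlt
    have hsub : Subsingleton ↥(MulAction.orbit A ω) :=
      (Finite.card_le_one_iff_subsingleton).mp (by omega)
    apply hA1
    rw [Subgroup.eq_bot_iff_forall]
    intro a ha
    have h1 : (⟨a, ha⟩ : A) = 1 := hinjA (Subsingleton.elim _ _)
    exact congrArg Subtype.val h1
  have hy2 : 2 ≤ Nat.card ↥(MulAction.orbit B ω) := by
    by_contra hlt
    have hsub : Subsingleton ↥(MulAction.orbit B ω) :=
      (Finite.card_le_one_iff_subsingleton).mp (by omega)
    apply hB1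
    rw [Subgroup.eq_bot_iff_forall]
    intro b hb
    have h1 : (⟨b, hb⟩ : B) = 1 := hinjB (Subsingleton.elim _ _)
    exact congrArg Subtype.val h1
  have hxy : Nat.card ↥(MulAction.orbit A ω) * Nat.card ↥(MulAction.orbit B ω) ≤ n := by
    rw [← hn, ← Nat.card_prod]
    have hcA : ∀ u : ↥(MulAction.orbit A ω), ∃ a : A, (a : Perm Ω) ω = u.1 := by
      intro u
      obtain ⟨a, ha⟩ := u.2
      exact ⟨a, ha⟩
    have hcB : ∀ v : ↥(MulAction.orbit B ω), ∃ b : B, (b : Perm Ω) ω = v.1 := by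
      intro v
      obtain ⟨b, hb⟩ := v.2
      exact ⟨b, hb⟩
    choose cA hcA' using hcA
    choose cB hcB' using hcB
    apply Nat.card_le_card_of_injective
      (fun uv : ↥(MulAction.orbit A ω) × ↥(MulAction.orbit B ω) =>
        (cA uv.1 : Perm Ω) ((cB uv.2 : Perm Ω) ω))
    rintro ⟨u, v⟩ ⟨u', v'⟩ h
    have h' : (cA u : Perm Ω) ((cB v : Perm Ω) ω) = (cA u' : Perm Ω) ((cB v' : Perm Ω) ω) := h
    have hmA : (cA u' : Perm Ω)⁻¹ * (cA u : Perm Ω) ∈ A := A.mul_mem (A.inv_mem (cA u').2) (cA u).2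
    have hmB : (cB v' : Perm Ω)⁻¹ * (cB v : Perm Ω) ∈ B := B.mul_mem (B.inv_mem (cB v').2) (cB v).2
    have key : (((cA u' : Perm Ω)⁻¹ * (cA u : Perm Ω)) *
        ((cB v' : Perm Ω)⁻¹ * (cB v : Perm Ω))) ω = ω := by
      have e1 : ((cA u' : Perm Ω)⁻¹ * (cA u : Perm Ω)) * ((cB v' : Perm Ω)⁻¹ * (cB v : Perm Ω)) =
          (cB v' : Perm Ω)⁻¹ * ((cA u' : Perm Ω)⁻¹ * ((cA u : Perm Ω) * (cB v : Perm Ω))) := by
        have hc := hcomm _ hmA _ (B.inv_mem (cB v').2)
        rw [← mul_assoc, hc]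
        simp only [mul_assoc]
      rw [e1]
      simp only [Perm.mul_apply]
      rw [h']
      simp
    obtain ⟨k1, k2⟩ := fix_of_mul_fix A B hcomm hcop ω _ _ hmA hmB key
    have e2 : (cA u : Perm Ω) ω = (cA u' : Perm Ω) ω := by
      have h5 := congrArg (cA u' : Perm Ω) k1
      simpa [Perm.mul_apply] using h5
    have e3 : (cB v : Perm Ω) ω = (cB v' : Perm Ω) ω := by
      have h5 := congrArg (cB v' : Perm Ω) k2
      simpa [Perm.mul_apply] using h5
    apply Prod.ext
    · apply Subtype.ext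
      show u.1 = u'.1
      rw [← hcA' u, ← hcA' u']
      exact e2
    · apply Subtype.ext
      show v.1 = v'.1
      rw [← hcB' v, ← hcB' v']
      exact e3
  haveI : Group.IsNilpotent A := hA
  haveI : Group.IsNilpotent B := hB
  have hrA : Nat.card A ≤ nilM (Nat.card ↥(MulAction.orbit A ω)) := by
    have h1 : Nat.card A = Nat.card (MulAction.toPermHom A ↥(MulAction.orbit A ω)).range :=
      Nat.card_congr (MonoidHom.ofInjective hinjA).toEquiv
    rw [h1]
    exact nil_perm_bound _ ↥(MulAction.orbit A ω) rfl _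
      (Group.nilpotent_of_surjective (MulAction.toPermHom A ↥(MulAction.orbit A ω)).rangeRestrict
        (MonoidHom.rangeRestrict_surjective _))
  have hrB : Nat.card B ≤ nilM (Nat.card ↥(MulAction.orbit B ω)) := by
    have h1 : Nat.card B = Nat.card (MulAction.toPermHom B ↥(MulAction.orbit B ω)).range :=
      Nat.card_congr (MonoidHom.ofInjective hinjB).toEquiv
    rw [h1]
    exact nil_perm_bound _ ↥(MulAction.orbit B ω) rfl _
      (Group.nilpotent_of_surjective (MulAction.toPermHom B ↥(MulAction.orbit B ω)).rangeRestrict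
        (MonoidHom.rangeRestrict_surjective _))
  have hdA : Nat.card ↥(MulAction.orbit A ω) ∣ Nat.card A := by
    have h1 : (MulAction.stabilizer A ω).index = Nat.card ↥(MulAction.orbit A ω) := by
      rw [MulAction.index_stabilizer, ← Nat.card_coe_set_eq]
    rw [← h1]
    exact Subgroup.index_dvd_card _
  have hdB : Nat.card ↥(MulAction.orbit B ω) ∣ Nat.card B := by
    have h1 : (MulAction.stabilizer B ω).index = Nat.card ↥(MulAction.orbit B ω) := by
      rw [MulAction.index_stabilizer, ← Nat.card_coe_set_eq]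
    rw [← h1]
    exact Subgroup.index_dvd_card _
  exact ⟨_, _, hx2, hy2, hxy, hdA, hdB, hrA, hrB⟩

/-- A nilpotent group of even permutations of degree `n` has order at most `nilA n`. -/
theorem nil_alt_bound : ∀ (n : ℕ) (Ω : Type) [Fintype Ω] [DecidableEq Ω], Nat.card Ω = n →
    ∀ N : Subgroup (Perm Ω), Group.IsNilpotent N → (∀ g ∈ N, Perm.sign g = 1) →
      Nat.card N ≤ nilA n := by
  intro n
  induction n using Nat.strong_induction_on with
  | _ n ih =>
  intro Ω _ _ hn N hN hev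
  haveI : Group.IsNilpotent N := hN
  by_cases hbot : N = ⊥
  · rw [hbot, Subgroup.card_bot]
    exact nilA_pos n
  by_cases htr : ∃ ω : Ω, MulAction.orbit N ω ≠ Set.univ
  · obtain ⟨ω, hω⟩ := htr
    exact alt_card_le_of_intransitive n hn ih N hN hev ω hω
  · have htr' : ∀ ω : Ω, MulAction.orbit N ω = Set.univ := fun ω => by
      by_contra h
      exact htr ⟨ω, h⟩
    have hne : Nonempty Ω := by
      by_contra hemp
      rw [not_nonempty_iff] at hemp
      apply hbot
      rw [Subgroup.eq_bot_iff_forall]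
      intro g _
      exact Equiv.ext (fun x => isEmptyElim x)
    obtain ⟨ω⟩ := hne
    obtain ⟨p, hp, hpd⟩ := Nat.exists_prime_and_dvd
      (show Nat.card N ≠ 1 from fun h => hbot ((Subgroup.eq_bot_iff_card N).mpr h))
    haveI : Fact p.Prime := ⟨hp⟩
    let P : Sylow p ↥N := default
    obtain ⟨Q, -, hPQ1, hPQ2, hcommPQ⟩ := Cfsg.Agent.Helper11.nilpotent_sylow_complement hN p P
    by_cases hQ : Q = ⊥
    · have hPtop : (P : Subgroup ↥N) = ⊤ := by rw [← hPQ2, hQ, sup_bot_eq]
      have hNp : IsPGroup p ↥N := by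
        have h1 := P.isPGroup'
        rw [hPtop] at h1
        exact h1.of_equiv Subgroup.topEquiv
      exact alt_card_le_of_transitive_pgroup n hn N hev p hNp ω (htr' ω)
    · have hPn : (P : Subgroup ↥N).Normal := inferInstance
      have hcardA : Nat.card ((P : Subgroup ↥N).map N.subtype) = Nat.card (P : Subgroup ↥N) :=
        Subgroup.card_map_of_injective (Subgroup.subtype_injective N)
      have hcardB : Nat.card (Q.map N.subtype) = Nat.card Q :=
        Subgroup.card_map_of_injective (Subgroup.subtype_injective N)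
      have hcompl : Subgroup.IsComplement' (P : Subgroup ↥N) Q := by
        apply Subgroup.isComplement'_of_disjoint_and_mul_eq_univ (disjoint_iff.mpr hPQ1)
        rw [← Subgroup.normal_mul, hPQ2]
        rfl
      have hmul : Nat.card (P : Subgroup ↥N) * Nat.card Q = Nat.card N := hcompl.card_mul_card
      have hcop : (Nat.card ((P : Subgroup ↥N).map N.subtype)).Coprime
          (Nat.card (Q.map N.subtype)) := by
        rw [hcardA, hcardB, ← hcompl.symm.index_eq_card]
        exact P.card_coprime_index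
      have hA : Group.IsNilpotent ((P : Subgroup ↥N).map N.subtype) :=
        Group.nilpotent_of_surjective (N.subtype.subgroupMap (P : Subgroup ↥N))
          (MonoidHom.subgroupMap_surjective _ _)
      have hB : Group.IsNilpotent (Q.map N.subtype) :=
        Group.nilpotent_of_surjective (N.subtype.subgroupMap Q)
          (MonoidHom.subgroupMap_surjective _ _)
      have hcomm : ∀ a ∈ (P : Subgroup ↥N).map N.subtype, ∀ b ∈ Q.map N.subtype,
          a * b = b * a := by
        rintro a ⟨x, hx, rfl⟩ b ⟨y, hy, rfl⟩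
        exact congrArg Subtype.val (hcommPQ x hx y hy)
      have hA1 : (P : Subgroup ↥N).map N.subtype ≠ ⊥ := by
        intro h
        rw [Subgroup.map_eq_bot_iff_of_injective _ (Subgroup.subtype_injective N)] at h
        exact P.ne_bot_of_dvd_card hpd h
      have hB1 : Q.map N.subtype ≠ ⊥ := by
        intro h
        rw [Subgroup.map_eq_bot_iff_of_injective _ (Subgroup.subtype_injective N)] at h
        exact hQ h
      have hT : ∀ ω' : Ω, ∃ a ∈ (P : Subgroup ↥N).map N.subtype, ∃ b ∈ Q.map N.subtype,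
          (a * b) ω = ω' := by
        intro ω'
        have h1 : ω' ∈ MulAction.orbit N ω := by rw [htr' ω]; trivial
        obtain ⟨g, hg⟩ := h1
        have h2 : g ∈ (P : Subgroup ↥N) ⊔ Q := by rw [hPQ2]; trivial
        obtain ⟨x, hx, y, hy, hxy⟩ := Subgroup.mem_sup_of_normal_left.mp h2
        refine ⟨x.1, ⟨x, hx, rfl⟩, y.1, ⟨y, hy, rfl⟩, ?_⟩
        rw [← hg, ← hxy]
        rfl
      obtain ⟨rA, rB, h2A, h2B, hprod, hdA, hdB, hcA, hcB⟩ :=
        orbit_prod_facts n hn _ _ hA hB hcomm hcop hA1 hB1 ω hT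
      have hne22 : ¬(rA = 2 ∧ rB = 2) := by
        rintro ⟨rfl, rfl⟩
        have h1 := Nat.Coprime.coprime_dvd_left hdA (Nat.Coprime.coprime_dvd_right hdB hcop)
        exact absurd h1 (by decide)
      have h6 := nilM_mul_le_nilA rA rB n h2A h2B hne22 hprod
      rw [hcardA] at hcA
      rw [hcardB] at hcB
      calc Nat.card N = Nat.card (P : Subgroup ↥N) * Nat.card Q := hmul.symm
        _ ≤ nilM rA * nilM rB := Nat.mul_le_mul hcA hcB
        _ ≤ nilA n := h6

theorem card_sylow_two_alt (m : ℕ) (P : Sylow 2 (alternatingGroup (Fin m))) :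
    Nat.card P = 2 ^ (nilG m - 1) := by
  rw [Sylow.card_eq_multiplicity]
  congr 1
  have hc0 : Nat.card (alternatingGroup (Fin m)) ≠ 0 := Nat.card_pos.ne'
  rw [Nat.factorization_def _ Nat.prime_two]
  by_cases hm : 2 ≤ m
  · haveI : Nontrivial (Fin m) := Fin.nontrivial_iff_two_le.mpr hm
    have h2 : 2 * Nat.card (alternatingGroup (Fin m)) = m.factorial := by
      have h1 : 2 * Nat.card (alternatingGroup (Fin m)) = Nat.card (Perm (Fin m)) := by
        rw [Nat.card_eq_fintype_card, Nat.card_eq_fintype_card]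
        exact two_mul_card_alternatingGroup
      rw [h1, Nat.card_perm, Nat.card_fin]
    have h3 : padicValNat 2 (2 * Nat.card (alternatingGroup (Fin m))) = nilG m := by
      rw [h2]
      rfl
    rw [padicValNat.mul (by norm_num) hc0, padicValNat_self] at h3
    omega
  · have h1 : Nat.card (alternatingGroup (Fin m)) ∣ m.factorial := by
      have h0 := Subgroup.card_subgroup_dvd_card (alternatingGroup (Fin m))
      rwa [Nat.card_perm, Nat.card_fin] at h0
    have h2 : m.factorial = 1 := by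
      rcases (by omega : m = 0 ∨ m = 1) with rfl | rfl <;> rfl
    rw [h2, Nat.dvd_one] at h1
    rw [h1]
    have h3 : nilG m = 0 := by
      rcases (by omega : m = 0 ∨ m = 1) with rfl | rfl
      · exact nilG_zero
      · exact nilG_one
    rw [h3]
    simp

theorem nil_alt_main (n : ℕ) (N : Subgroup (alternatingGroup (Fin n)))
    (hN : Group.IsNilpotent N) : Nat.card N ≤ nilA n := by
  haveI := hN
  have h1 := nil_alt_bound n (Fin n) (Nat.card_fin n) (N.map (alternatingGroup (Fin n)).subtype)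
    (Group.nilpotent_of_surjective ((alternatingGroup (Fin n)).subtype.subgroupMap N)
      (MonoidHom.subgroupMap_surjective _ _))
    (by
      rintro _ ⟨x, -, rfl⟩
      exact Perm.mem_alternatingGroup.mp x.2)
  rwa [Subgroup.card_map_of_injective (Subgroup.subtype_injective _)] at h1

theorem nil_alt_not_three (n : ℕ) (hn : n % 4 ≠ 3) (h5 : n ≠ 5) (h6 : n ≠ 6) (h9 : n ≠ 9)
    (N : Subgroup (alternatingGroup (Fin n))) (hN : Group.IsNilpotent N)
    (P : Sylow 2 (alternatingGroup (Fin n))) : Nat.card N ≤ Nat.card P := by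
  rw [card_sylow_two_alt]
  have h1 := nil_alt_main n N hN
  unfold nilA at h1
  rwa [if_neg h5, if_neg h6, if_neg h9, if_neg hn] at h1

end Cfsg.Agent.Helper22
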