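import Mathlib
import Cfsg.Agent.Helper22.NilAlt2

set_option autoImplicit false

namespace Cfsg.Agent.Helper22

open Equiv

theorem nilG_add_two_le_of_mod (n : ℕ) (hn : n % 4 = 3) (h7 : 7 ≤ n) :
    nilG (n - 4) + 2 ≤ nilG (n - 3) := by
  have h1 := nilG_rec (n - 4)
  have h2 := nilG_rec ((n - 4) / 2)
  have h3 := nilG_rec (n - 3)
  have h4 := nilG_rec ((n - 3) / 2)
  have e1 : (n - 4) / 2 / 2 = n / 4 - 1 := by omega
  have e2 : (n - 3) / 2 / 2 = n / 4 := by omega
  rw [e1] at h2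
  rw [e2] at h4
  have h5 : nilG (n / 4 - 1) ≤ nilG (n / 4) := nilG_mono (by omega)
  omega

theorem max_nil_structure_gen {Ω : Type} [Fintype Ω] [DecidableEq Ω] (n : ℕ)
    (hΩ : Fintype.card Ω = n) (j : ℕ) (hj : nilG (n - 4) < j)
    (N : Subgroup (Perm Ω)) (hN : Group.IsNilpotent N)
    (hcard : Nat.card N = 3 * 2 ^ j) :
    ∃ (h : Perm Ω) (P : Subgroup (Perm Ω)), h.IsThreeCycle ∧ P ≤ fixK h ∧ P ≤ N ∧
      Nat.card P = 2 ^ j ∧ N = P ⊔ Subgroup.zpowers h := by
  haveI := hN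
  obtain ⟨y, hy⟩ := exists_prime_orderOf_dvd_card' (G := ↥N) 3
    (by rw [hcard]; exact dvd_mul_right _ _)
  have hho : orderOf (y : Perm Ω) = 3 := by rw [Subgroup.orderOf_coe, hy]
  have hy3 : y ^ 3 = 1 := by rw [← hy]; exact pow_orderOf_eq_one y
  have hh3 : (y : Perm Ω) ^ 3 = 1 := by rw [← hho]; exact pow_orderOf_eq_one _
  let Q : Sylow 2 ↥N := default
  have hQc : Nat.card Q = 2 ^ j := by
    rw [Sylow.card_eq_multiplicity, hcard, fact_three_mul]
  let P : Subgroup (Perm Ω) := (Q : Subgroup ↥N).map N.subtype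
  have hPc : Nat.card P = 2 ^ j := by
    rw [← hQc]
    exact Subgroup.card_map_of_injective (Subgroup.subtype_injective N)
  have hPle : P ≤ N := Subgroup.map_subtype_le _
  have hPprop : ∀ x ∈ P, x * (y : Perm Ω) = (y : Perm Ω) * x ∧ x ^ (2 ^ j) = 1 := by
    rintro _ ⟨q, hq, rfl⟩
    have hq1 : q ^ (2 ^ j) = 1 := by
      have h4 := pow_card_eq_one' (G := (Q : Subgroup ↥N)) (x := ⟨q, hq⟩)
      rw [hQc] at h4
      exact congrArg Subtype.val h4
    have hcop : (2 ^ j).Coprime 3 := Nat.Coprime.pow_left _ (by norm_num)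
    have h5 := Cfsg.Agent.Helper11.commute_of_nilpotent_coprime ↥N q y _ _ hcop hq1 hy3
    constructor
    · exact congrArg Subtype.val h5
    · exact congrArg Subtype.val hq1
  obtain ⟨c, hc⟩ := Perm.cycleType_prime_order (σ := (y : Perm Ω))
    (by rw [hho]; exact Nat.prime_three)
  rw [hho] at hc
  have hsum : 3 * (c + 1) ≤ n := by
    have h1 := Perm.sum_cycleType (y : Perm Ω)
    rw [hc, Multiset.sum_replicate, smul_eq_mul] at h1
    have h2 : (y : Perm Ω).support.card ≤ Fintype.card Ω := Finset.card_le_univ _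
    rw [hΩ] at h2
    omega
  have hc0 : c = 0 := by
    by_contra hc1
    have hP2 : P ≤ Subgroup.centralizer {(y : Perm Ω)} := by
      intro x hx
      rw [Subgroup.mem_centralizer_iff]
      intro z hz
      rw [Set.mem_singleton_iff] at hz
      rw [hz]
      exact ((hPprop x hx).1).symm
    have h1 := Subgroup.card_dvd_of_le hP2
    rw [hPc, Perm.nat_card_centralizer, hc, Multiset.sum_replicate, Multiset.prod_replicate,
      Multiset.toFinset_replicate, if_neg (Nat.succ_ne_zero c), Finset.prod_singleton,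
      Multiset.count_replicate_self, smul_eq_mul, hΩ] at h1
    have h2 : 2 ^ j ∣ (n - (c + 1) * 3).factorial * (c + 1).factorial := by
      have h3 : (n - (c + 1) * 3).factorial * 3 ^ (c + 1) * (c + 1).factorial =
          (n - (c + 1) * 3).factorial * (c + 1).factorial * 3 ^ (c + 1) := by ring
      rw [h3] at h1
      exact Nat.Coprime.dvd_of_dvd_mul_right
        (Nat.Coprime.pow _ _ (by norm_num)) h1
    have h4 : (n - (c + 1) * 3).factorial * (c + 1).factorial ∣ (n - 4).factorial := by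
      refine dvd_trans (Nat.factorial_mul_factorial_dvd_factorial_add _ _) ?_
      exact Nat.factorial_dvd_factorial (by omega)
    have h5 : j ≤ nilG (n - 4) :=
      (padicValNat_dvd_iff_le (Nat.factorial_ne_zero _)).mp (dvd_trans h2 h4)
    omega
  subst hc0
  have h3c : (y : Perm Ω).IsThreeCycle := by
    show (y : Perm Ω).cycleType = {3}
    rw [hc]
    rfl
  refine ⟨(y : Perm Ω), P, h3c, ?_, hPle, hPc, ?_⟩
  · intro x hx
    rw [mem_fixK]
    intro ω hω
    obtain ⟨hxy, hx2⟩ := hPprop x hx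
    have hω' : (y : Perm Ω) (x ω) ≠ x ω := by
      intro h1
      apply hω
      have h2 := congrArg (fun σ : Perm Ω => σ ω) hxy
      simp only [Perm.mul_apply] at h2
      rw [h1] at h2
      exact (x.injective h2)
    obtain ⟨i, hi⟩ := h3c.isCycle.exists_pow_eq hω hω'
    refine fix_of_two_elt x ((y : Perm Ω) ^ i) ?_ ?_ _ hx2 ω hi.symm
    · exact ((show Commute x (y : Perm Ω) from hxy).pow_right i).eq
    · rw [← pow_mul, mul_comm, pow_mul, hh3, one_pow]
  · symm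
    apply Subgroup.eq_of_le_of_card_ge
    · exact sup_le hPle (Subgroup.zpowers_le.mpr y.2)
    · rw [hcard]
      apply Nat.le_of_dvd Nat.card_pos
      apply Nat.Coprime.mul_dvd_of_dvd_of_dvd
      · exact Nat.Coprime.pow_right _ (by norm_num)
      · rw [← hho, ← Nat.card_zpowers]
        exact Subgroup.card_dvd_of_le le_sup_right
      · rw [← hPc]
        exact Subgroup.card_dvd_of_le le_sup_left

theorem max_nil_conj_alt {Ω : Type} [Fintype Ω] [DecidableEq Ω] (n : ℕ) (hΩ : Fintype.card Ω = n)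
    (h5n : 5 ≤ n)
    (h₁ h₂ : Perm Ω) (P₁ P₂ : Subgroup (Perm Ω)) (h31 : h₁.IsThreeCycle) (h32 : h₂.IsThreeCycle)
    (hP1 : P₁ ≤ fixK h₁) (hP2 : P₂ ≤ fixK h₂)
    (hev1 : ∀ x ∈ P₁, Perm.sign x = 1) (hev2 : ∀ x ∈ P₂, Perm.sign x = 1)
    (hc1 : Nat.card P₁ = 2 ^ (nilG (n - 3) - 1))
    (hc2 : Nat.card P₂ = 2 ^ (nilG (n - 3) - 1)) :
    ∃ g : Perm Ω, Perm.sign g = 1 ∧ P₂ ⊔ Subgroup.zpowers h₂ =
      (P₁ ⊔ Subgroup.zpowers h₁).map (MulAut.conj g).toMonoidHom := by
  -- a transposition of two fixed points of h₂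
  have hfix : 1 < (h₂.supportᶜ).card := by
    rw [Finset.card_compl, h32.card_support, hΩ]
    omega
  obtain ⟨a, ha, b, hb, hab⟩ := Finset.one_lt_card.mp hfix
  rw [Finset.mem_compl, Perm.mem_support, not_not] at ha hb
  have htK : swap a b ∈ fixK h₂ := by
    rw [mem_fixK]
    intro ω hω
    apply Equiv.swap_apply_of_ne_of_ne
    · rintro rfl
      exact hω ha
    · rintro rfl
      exact hω hb
  have hts : Perm.sign (swap a b) = -1 := Perm.sign_swap hab
  have hconj : IsConj h₁ h₂ := by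
    rw [Perm.isConj_iff_cycleType_eq, h31.cycleType, h32.cycleType]
  obtain ⟨σ₀, hσ₀⟩ := isConj_iff.mp hconj
  obtain ⟨σ, hσ, hσs⟩ : ∃ σ : Perm Ω, σ * h₁ * σ⁻¹ = h₂ ∧ Perm.sign σ = 1 := by
    rcases Int.units_eq_one_or (Perm.sign σ₀) with h1 | h1
    · exact ⟨σ₀, hσ₀, h1⟩
    · refine ⟨swap a b * σ₀, ?_, ?_⟩
      · have e1 : swap a b * σ₀ * h₁ * (swap a b * σ₀)⁻¹ =
            swap a b * (σ₀ * h₁ * σ₀⁻¹) * (swap a b)⁻¹ := by group
        rw [e1, hσ₀, fixK_commute h₂ _ htK, mul_inv_cancel_right]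
      · rw [Perm.sign_mul, hts, h1]
        simp
  have hA : P₁.map (MulAut.conj σ).toMonoidHom ≤ fixK h₂ := by
    rintro _ ⟨a, ha, rfl⟩
    rw [mem_fixK]
    intro ω hω
    show σ (a (σ⁻¹ ω)) = ω
    have h1 : h₁ (σ⁻¹ ω) ≠ σ⁻¹ ω := by
      intro h2
      apply hω
      rw [← hσ]
      show σ (h₁ (σ⁻¹ ω)) = ω
      rw [h2]
      exact σ.apply_symm_apply ω
    rw [hP1 ha _ h1]
    exact σ.apply_symm_apply ω
  have hAev : ∀ x ∈ P₁.map (MulAut.conj σ).toMonoidHom, Perm.sign x = 1 := by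
    rintro _ ⟨a, ha, rfl⟩
    show Perm.sign (σ * a * σ⁻¹) = 1
    rw [Perm.sign_mul, Perm.sign_mul, Perm.sign_inv, hσs, hev1 a ha]
    simp
  -- the even part of fixK h₂
  let s : ↥(fixK h₂) →* ℤˣ := Perm.sign.comp (fixK h₂).subtype
  have hs : s.ker.index = 2 := by
    rw [Subgroup.index_ker]
    have hr : s.range = ⊤ := by
      rw [eq_top_iff]
      intro x _
      rcases Int.units_eq_one_or x with rfl | rfl
      · exact Subgroup.one_mem _
      · exact ⟨⟨swap a b, htK⟩, hts⟩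
    rw [hr, Subgroup.card_top, Nat.card_eq_fintype_card, Fintype.card_units_int]
  have hKc : Nat.card s.ker * 2 = Nat.card (fixK h₂) := by
    rw [← hs]
    exact Subgroup.card_mul_index s.ker
  let K' : Subgroup (Perm Ω) := s.ker.map (fixK h₂).subtype
  have hK'c : Nat.card K' = Nat.card s.ker :=
    Subgroup.card_map_of_injective (Subgroup.subtype_injective _)
  have hK'mem : ∀ x : Perm Ω, x ∈ fixK h₂ → Perm.sign x = 1 → x ∈ K' := by
    intro x hx hxs
    exact ⟨⟨x, hx⟩, MonoidHom.mem_ker.mpr hxs, rfl⟩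
  have hK'prop : ∀ x ∈ K', x ∈ fixK h₂ ∧ Perm.sign x = 1 := by
    rintro _ ⟨x, hx, rfl⟩
    exact ⟨x.2, MonoidHom.mem_ker.mp hx⟩
  have hAK : P₁.map (MulAut.conj σ).toMonoidHom ≤ K' := fun x hx => hK'mem x (hA hx) (hAev x hx)
  have hBK : P₂ ≤ K' := fun x hx => hK'mem x (hP2 hx) (hev2 x hx)
  have hK1 : Nat.card K' * 2 ∣ (n - 3).factorial := by
    rw [hK'c, hKc, ← hΩ]
    exact card_fixK_dvd h₂ h32
  have hK2 : 2 ^ (nilG (n - 3) - 1) ∣ Nat.card K' := by
    rw [← hc2]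
    exact Subgroup.card_dvd_of_le hBK
  have hKpos : Nat.card K' ≠ 0 := Nat.card_pos.ne'
  have hfac : (Nat.card K').factorization 2 = nilG (n - 3) - 1 := by
    rw [Nat.factorization_def _ Nat.prime_two]
    have hv1 : padicValNat 2 (Nat.card K' * 2) ≤ nilG (n - 3) :=
      (padicValNat_dvd_iff_le (Nat.factorial_ne_zero _)).mp (dvd_trans pow_padicValNat_dvd hK1)
    rw [padicValNat.mul hKpos (by norm_num), padicValNat_self] at hv1
    have hv2 : nilG (n - 3) - 1 ≤ padicValNat 2 (Nat.card K') :=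
      (padicValNat_dvd_iff_le hKpos).mp hK2
    omega
  have hcA : Nat.card (P₁.map (MulAut.conj σ).toMonoidHom) =
      2 ^ (Nat.card K').factorization 2 := by
    rw [Subgroup.card_map_of_injective (MulEquiv.injective _), hc1, hfac]
  have hcB : Nat.card P₂ = 2 ^ (Nat.card K').factorization 2 := by
    rw [hc2, hfac]
  obtain ⟨τ, hτK, hτ⟩ := conj_of_card_eq_pow K' _ P₂ 2 hAK hBK hcA hcB
  obtain ⟨hτf, hτs⟩ := hK'prop τ hτK
  refine ⟨τ * σ, by rw [Perm.sign_mul, hτs, hσs, one_mul], ?_⟩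
  rw [Subgroup.map_sup, MonoidHom.map_zpowers]
  have e1 : (MulAut.conj (τ * σ)).toMonoidHom h₁ = h₂ := by
    show τ * σ * h₁ * (τ * σ)⁻¹ = h₂
    have h1 : τ * σ * h₁ * (τ * σ)⁻¹ = τ * (σ * h₁ * σ⁻¹) * τ⁻¹ := by group
    rw [h1, hσ, fixK_commute h₂ τ hτf, mul_inv_cancel_right]
  have e2 : P₁.map (MulAut.conj (τ * σ)).toMonoidHom = P₂ := by
    rw [hτ, Subgroup.map_map]
    congr 1
  rw [e1, e2]

theorem exists_max_nil_alt (n : ℕ) (hn : n % 4 = 3)
    (P : Sylow 2 (alternatingGroup (Fin (n - 3)))) :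
    ∃ M : Subgroup (alternatingGroup (Fin n)), Group.IsNilpotent M ∧
      Nat.card M = 3 * Nat.card P ∧
      Nonempty (M ≃* (↥(P : Subgroup (alternatingGroup (Fin (n - 3)))) ×
        Multiplicative (ZMod 3))) := by
  have hn3 : n - 3 + 3 = n := by omega
  let e : Fin (n - 3) ⊕ Fin 3 ≃ Fin n := finSumFinEquiv.trans (finCongr hn3)
  let φ : Perm (Fin (n - 3)) × Perm (Fin 3) →* Perm (Fin n) :=
    e.permCongrHom.toMonoidHom.comp (Perm.sumCongrHom (Fin (n - 3)) (Fin 3))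
  have hφ : Function.Injective φ := by
    intro a b hab
    exact Perm.sumCongrHom_injective (e.permCongrHom.injective hab)
  have hφs : ∀ x : Perm (Fin (n - 3)) × Perm (Fin 3),
      Perm.sign (φ x) = Perm.sign x.1 * Perm.sign x.2 := by
    intro x
    show Perm.sign (e.permCongr (Perm.sumCongr x.1 x.2)) = _
    rw [Perm.sign_permCongr, Perm.sign_sumCongr]
  obtain ⟨c, hc⟩ := exists_prime_orderOf_dvd_card' (G := Perm (Fin 3)) 3
    (by rw [Nat.card_perm, Nat.card_fin]; decide)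
  have hcs : Perm.sign c = 1 := by
    have h0 : c ^ 3 = 1 := by
      have h00 := pow_orderOf_eq_one c
      rwa [hc] at h00
    have h1 : Perm.sign c ^ 3 = 1 := by
      rw [← map_pow, h0, map_one]
    rcases Int.units_eq_one_or (Perm.sign c) with h2 | h2
    · exact h2
    · rw [h2] at h1
      exact absurd h1 (by decide)
  let C : Subgroup (Perm (Fin 3)) := Subgroup.zpowers c
  have hC : Nat.card C = 3 := by rw [Nat.card_zpowers, hc]
  have hCs : ∀ y ∈ C, Perm.sign y = 1 := by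
    intro y hy
    obtain ⟨i, rfl⟩ := Subgroup.mem_zpowers_iff.mp hy
    rw [map_zpow, hcs, one_zpow]
  let P' : Subgroup (Perm (Fin (n - 3))) :=
    (P : Subgroup (alternatingGroup (Fin (n - 3)))).map (alternatingGroup (Fin (n - 3))).subtype
  have eP : ↥(P : Subgroup (alternatingGroup (Fin (n - 3)))) ≃* ↥P' :=
    Subgroup.equivMapOfInjective _ _ (Subgroup.subtype_injective _)
  have hP's : ∀ x ∈ P', Perm.sign x = 1 := by
    rintro _ ⟨x, -, rfl⟩
    exact Perm.mem_alternatingGroup.mp x.2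
  let M0 : Subgroup (Perm (Fin (n - 3)) × Perm (Fin 3)) := P'.prod C
  have hM0le : M0.map φ ≤ alternatingGroup (Fin n) := by
    rintro _ ⟨x, hx, rfl⟩
    rw [Perm.mem_alternatingGroup, hφs]
    obtain ⟨hx1, hx2⟩ := Subgroup.mem_prod.mp hx
    rw [hP's _ hx1, hCs _ hx2, one_mul]
  have e0 : ↥((M0.map φ).subgroupOf (alternatingGroup (Fin n))) ≃* ↥(M0.map φ) :=
    Subgroup.subgroupOfEquivOfLe hM0le
  have e1 : ↥M0 ≃* ↥(M0.map φ) := M0.equivMapOfInjective φ hφ
  have e2 : ↥M0 ≃* ↥P' × ↥C := Subgroup.prodEquiv _ _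
  haveI : IsCyclic ↥C := isCyclic_of_prime_card hC
  have hZ : Nat.card (Multiplicative (ZMod 3)) = 3 := by
    rw [Nat.card_eq_fintype_card, Fintype.card_multiplicative, ZMod.card]
  have e3 : ↥C ≃* Multiplicative (ZMod 3) := mulEquivOfCyclicCardEq (by rw [hC, hZ])
  have e4 : ↥((M0.map φ).subgroupOf (alternatingGroup (Fin n))) ≃*
      ↥(P : Subgroup (alternatingGroup (Fin (n - 3)))) × Multiplicative (ZMod 3) :=
    e0.trans (e1.symm.trans (e2.trans (MulEquiv.prodCongr eP.symm e3)))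
  refine ⟨(M0.map φ).subgroupOf (alternatingGroup (Fin n)), ?_, ?_, ⟨e4⟩⟩
  · haveI : Group.IsNilpotent ↥(P : Subgroup (alternatingGroup (Fin (n - 3)))) :=
      P.isPGroup'.isNilpotent
    exact Group.nilpotent_of_mulEquiv e4.symm
  · rw [Nat.card_congr e4.toEquiv, Nat.card_prod, hZ, mul_comm]

theorem alt_nil_three (n : ℕ) (hn : n % 4 = 3) (h7 : 7 ≤ n)
    (P : Sylow 2 (alternatingGroup (Fin (n - 3)))) :
    (∀ N : Subgroup (alternatingGroup (Fin n)), Group.IsNilpotent N →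
      Nat.card N ≤ 3 * Nat.card P) ∧
    (∃ M : Subgroup (alternatingGroup (Fin n)), Group.IsNilpotent M ∧
      Nat.card M = 3 * Nat.card P ∧
      Nonempty (M ≃* (↥(P : Subgroup (alternatingGroup (Fin (n - 3)))) ×
        Multiplicative (ZMod 3)))) ∧
    (∀ N₁ N₂ : Subgroup (alternatingGroup (Fin n)), Group.IsNilpotent N₁ →
      Group.IsNilpotent N₂ →
      Nat.card N₁ = 3 * Nat.card P → Nat.card N₂ = 3 * Nat.card P →
      ∃ g : alternatingGroup (Fin n), N₂ = N₁.map (MulAut.conj g).toMonoidHom) := by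
  have hP : Nat.card P = 2 ^ (nilG (n - 3) - 1) := card_sylow_two_alt (n - 3) P
  refine ⟨?_, exists_max_nil_alt n hn P, ?_⟩
  · intro N hN
    have h1 := nil_alt_main n N hN
    unfold nilA at h1
    rw [if_neg (by omega), if_neg (by omega), if_neg (by omega), if_pos hn] at h1
    rw [hP]
    exact h1
  · intro N₁ N₂ hN₁ hN₂ hc₁ hc₂
    rw [hP] at hc₁ hc₂
    have hj : nilG (n - 4) < nilG (n - 3) - 1 := by
      have := nilG_add_two_le_of_mod n hn h7
      omega
    have key : ∀ N : Subgroup (alternatingGroup (Fin n)), Group.IsNilpotent N →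
        Nat.card N = 3 * 2 ^ (nilG (n - 3) - 1) →
        ∃ (h : Perm (Fin n)) (Q : Subgroup (Perm (Fin n))), h.IsThreeCycle ∧ Q ≤ fixK h ∧
          (∀ x ∈ Q, Perm.sign x = 1) ∧ Nat.card Q = 2 ^ (nilG (n - 3) - 1) ∧
          N.map (alternatingGroup (Fin n)).subtype = Q ⊔ Subgroup.zpowers h := by
      intro N hN hc
      haveI := hN
      have hnil : Group.IsNilpotent ↥(N.map (alternatingGroup (Fin n)).subtype) :=
        Group.nilpotent_of_surjective ((alternatingGroup (Fin n)).subtype.subgroupMap N)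
          (MonoidHom.subgroupMap_surjective _ _)
      have hc' : Nat.card ↥(N.map (alternatingGroup (Fin n)).subtype) =
          3 * 2 ^ (nilG (n - 3) - 1) := by
        rw [Subgroup.card_map_of_injective (Subgroup.subtype_injective _), hc]
      obtain ⟨h, Q, h3, hQ, hQle, hQc, hQeq⟩ :=
        max_nil_structure_gen n (Fintype.card_fin n) _ hj _ hnil hc'
      refine ⟨h, Q, h3, hQ, ?_, hQc, hQeq⟩
      intro x hx
      obtain ⟨y, -, rfl⟩ := hQle hx
      exact Perm.mem_alternatingGroup.mp y.2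
    obtain ⟨h₁, Q₁, h31, hQ1, hev1, hcQ1, hN1⟩ := key N₁ hN₁ hc₁
    obtain ⟨h₂, Q₂, h32, hQ2, hev2, hcQ2, hN2⟩ := key N₂ hN₂ hc₂
    obtain ⟨g', hg's, hg'⟩ := max_nil_conj_alt n (Fintype.card_fin n) (by omega) h₁ h₂ Q₁ Q₂
      h31 h32 hQ1 hQ2 hev1 hev2 hcQ1 hcQ2
    rw [← hN1, ← hN2] at hg'
    refine ⟨⟨g', Perm.mem_alternatingGroup.mpr hg's⟩, ?_⟩
    ext x
    constructor
    · intro hx
      have h1 : x.1 ∈ N₂.map (alternatingGroup (Fin n)).subtype := ⟨x, hx, rfl⟩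
      rw [hg'] at h1
      obtain ⟨_, ⟨y, hy, rfl⟩, hyx⟩ := h1
      exact ⟨y, hy, Subtype.ext hyx⟩
    · rintro ⟨y, hy, rfl⟩
      have h1 : g' * y.1 * g'⁻¹ ∈ (N₁.map (alternatingGroup (Fin n)).subtype).map
          (MulAut.conj g').toMonoidHom := ⟨y.1, ⟨y, hy, rfl⟩, rfl⟩
      rw [← hg'] at h1
      obtain ⟨z, hz, hzx⟩ := h1
      have h2 : z = (MulAut.conj (⟨g', Perm.mem_alternatingGroup.mpr hg's⟩ :
          alternatingGroup (Fin n))).toMonoidHom y := Subtype.ext hzx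
      rw [← h2]
      exact hz

end Cfsg.Agent.Helper22
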