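import Mathlib
import Cfsg.Agent.Helper22.NilSym3

set_option autoImplicit false

namespace Cfsg.Agent.Helper22

open Equiv

/-- A 2-subgroup of `Perm Ω` has order at most `2 ^ nilG n`. -/
theorem two_group_card_le {Ω : Type} [Finite Ω] (n : ℕ) (hΩ : Nat.card Ω = n)
    (Q : Subgroup (Perm Ω)) (hQ : IsPGroup 2 Q) : Nat.card Q ≤ 2 ^ nilG n := by
  obtain ⟨k, hk⟩ := IsPGroup.iff_card.mp hQ
  have h1 : Nat.card Q ∣ n.factorial := by
    have h0 := Subgroup.card_subgroup_dvd_card Q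
    rwa [Nat.card_perm, hΩ] at h0
  rw [hk] at h1 ⊢
  have h2 : k ≤ nilG n := (padicValNat_dvd_iff_le (Nat.factorial_ne_zero n)).mp h1
  exact Nat.pow_le_pow_right (by norm_num) h2

theorem two_group_max {Ω : Type} [Finite Ω] (n : ℕ) (hΩ : Nat.card Ω = n)
    (T Q : Subgroup (Perm Ω)) (hT : Nat.card T = 2 ^ nilG n) (hQ : IsPGroup 2 Q) (hTQ : T ≤ Q) :
    Q = T := by
  symm
  apply Subgroup.eq_of_le_of_card_ge hTQ
  rw [hT]
  exact two_group_card_le n hΩ Q hQ

theorem nilG_pos_of_two_le (n : ℕ) (hn : 2 ≤ n) : 1 ≤ nilG n := by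
  have h1 := nilG_rec n
  have h2 : 1 ≤ n / 2 := by omega
  omega

/-- Permutations moving each point `x` to `x` or `z x`. -/
def invW {Ω : Type} (z : Perm Ω) (hzz : ∀ x, z (z x) = x) : Subgroup (Perm Ω) where
  carrier := {σ | ∀ x, σ x = x ∨ σ x = z x}
  mul_mem' := by
    intro σ σ' hσ hσ' x
    show σ (σ' x) = x ∨ σ (σ' x) = z x
    rcases hσ' x with h1 | h1
    · rw [h1]
      exact hσ x
    · rw [h1]
      rcases hσ (z x) with h2 | h2
      · right
        exact h2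
      · left
        rw [h2, hzz]
  one_mem' := fun x => Or.inl rfl
  inv_mem' := by
    intro σ hσ x
    show σ⁻¹ x = x ∨ σ⁻¹ x = z x
    have h2 : σ (σ⁻¹ x) = x := σ.apply_symm_apply x
    rcases hσ (σ⁻¹ x) with h1 | h1
    · left
      rw [h2] at h1
      exact h1.symm
    · right
      rw [h2] at h1
      have h3 := congrArg z h1
      rw [hzz] at h3
      exact h3.symm

theorem mem_invW {Ω : Type} (z : Perm Ω) (hzz : ∀ x, z (z x) = x) (σ : Perm Ω) :
    σ ∈ invW z hzz ↔ ∀ x, σ x = x ∨ σ x = z x := Iff.rfl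

theorem invW_isPGroup {Ω : Type} (z : Perm Ω) (hzz : ∀ x, z (z x) = x) :
    IsPGroup 2 (invW z hzz) := by
  intro σ
  refine ⟨1, Subtype.ext ?_⟩
  show (σ : Perm Ω) ^ 2 ^ 1 = 1
  rw [pow_one, pow_two]
  ext x
  show (σ : Perm Ω) ((σ : Perm Ω) x) = x
  rcases σ.2 x with h1 | h1
  · rw [h1, h1]
  · rw [h1]
    rcases σ.2 (z x) with h2 | h2
    · have h3 : z x = x := (σ : Perm Ω).injective (h2.trans h1.symm)
      rw [h2, h3]
    · rw [h2, hzz]

theorem invW_conj {Ω : Type} (z : Perm Ω) (hzz : ∀ x, z (z x) = x) (s : Perm Ω)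
    (hs : s * z = z * s) (σ : Perm Ω) (hσ : σ ∈ invW z hzz) : s * σ * s⁻¹ ∈ invW z hzz := by
  rw [mem_invW] at hσ ⊢
  intro x
  show s (σ (s⁻¹ x)) = x ∨ s (σ (s⁻¹ x)) = z x
  have h3 : s (s⁻¹ x) = x := s.apply_symm_apply x
  rcases hσ (s⁻¹ x) with h1 | h1
  · left
    rw [h1]
    exact h3
  · right
    rw [h1]
    have h2 := congrArg (fun ρ : Perm Ω => ρ (s⁻¹ x)) hs
    simp only [Perm.mul_apply] at h2
    rw [h2, h3]

theorem mem_normalizer_of_conj {G : Type*} [Group G] (K : Subgroup G) (x : G)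
    (h1 : ∀ k ∈ K, x * k * x⁻¹ ∈ K) (h2 : ∀ k ∈ K, x⁻¹ * k * x ∈ K) :
    x ∈ Subgroup.normalizer (K : Set G) := by
  rw [Subgroup.mem_normalizer_iff]
  intro k
  constructor
  · exact h1 k
  · intro hk
    have h3 := h2 _ hk
    have h4 : x⁻¹ * (x * k * x⁻¹) * x = k := by group
    rwa [h4] at h3

/-- If the involution `z` commutes with the Sylow `2`-subgroup `T`, the transpositions of the
cycles of `z` lie in `T`. -/
theorem swap_mem_of_central_invol {Ω : Type} [Finite Ω] [DecidableEq Ω] (n : ℕ)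
    (hΩ : Nat.card Ω = n) (T : Subgroup (Perm Ω)) (hT : Nat.card T = 2 ^ nilG n) (z : Perm Ω)
    (hz : z * z = 1) (hzT : ∀ t ∈ T, t * z = z * t) (a : Ω) : swap a (z a) ∈ T := by
  have hzz : ∀ x, z (z x) = x := fun x => by
    have h0 := congrArg (fun σ : Perm Ω => σ x) hz
    exact h0
  have hTW : T ≤ Subgroup.normalizer (invW z hzz : Set (Perm Ω)) := by
    intro t ht
    apply mem_normalizer_of_conj
    · intro σ hσ
      exact invW_conj z hzz t (hzT t ht) σ hσ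
    · intro σ hσ
      have h0 : t⁻¹ * z = z * t⁻¹ := by
        have h1 := hzT t ht
        calc t⁻¹ * z = t⁻¹ * (z * t) * t⁻¹ := by group
          _ = t⁻¹ * (t * z) * t⁻¹ := by rw [h1]
          _ = z * t⁻¹ := by group
      have h2 := invW_conj z hzz t⁻¹ h0 σ hσ
      rwa [inv_inv] at h2
  have h2 : IsPGroup 2 ↥(T ⊔ invW z hzz) :=
    IsPGroup.to_sup_of_normal_right' (IsPGroup.of_card hT) (invW_isPGroup z hzz) hTW
  have h3 := two_group_max n hΩ T (T ⊔ invW z hzz) hT h2 le_sup_left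
  have h4 : invW z hzz ≤ T := by
    rw [← h3]
    exact le_sup_right
  apply h4
  rw [mem_invW]
  intro x
  by_cases hx : x = a
  · right
    rw [hx, swap_apply_left]
  · by_cases hx' : x = z a
    · right
      rw [hx', swap_apply_right, hzz]
    · left
      exact swap_apply_of_ne_of_ne hx hx'

/-- A Sylow `2`-subgroup of `Perm Ω` (with at least two points) contains a transposition. -/
theorem exists_swap_mem {Ω : Type} [Finite Ω] [DecidableEq Ω] (n : ℕ) (hΩ : Nat.card Ω = n)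
    (hn : 2 ≤ n) (T : Subgroup (Perm Ω)) (hT : Nat.card T = 2 ^ nilG n) :
    ∃ a b : Ω, a ≠ b ∧ swap a b ∈ T := by
  have hT2 : IsPGroup 2 T := IsPGroup.of_card hT
  have hpos := nilG_pos_of_two_le n hn
  haveI : Nontrivial T := by
    rw [← Finite.one_lt_card_iff_nontrivial, hT]
    exact Nat.one_lt_two_pow (by omega)
  haveI := hT2.center_nontrivial
  obtain ⟨j, hj⟩ := IsPGroup.iff_card.mp (hT2.to_subgroup (Subgroup.center T))
  have hj1 : j ≠ 0 := by
    rintro rfl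
    have h0 : 1 < Nat.card (Subgroup.center T) :=
      Finite.one_lt_card_iff_nontrivial.mpr inferInstance
    rw [hj] at h0
    simp at h0
  obtain ⟨z, hz⟩ := exists_prime_orderOf_dvd_card' (G := ↥(Subgroup.center ↥T)) 2
    (by rw [hj]; exact dvd_pow_self 2 hj1)
  have hz2 : z ^ 2 = 1 := by
    rw [← hz]
    exact pow_orderOf_eq_one z
  have hz2' : ((z : ↥T) : Perm Ω) * ((z : ↥T) : Perm Ω) = 1 := by
    have h0 := congrArg (fun w : ↥(Subgroup.center ↥T) => ((w : ↥T) : Perm Ω)) hz2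
    simp only [pow_two] at h0
    exact h0
  have hzne : ((z : ↥T) : Perm Ω) ≠ 1 := by
    intro h0
    have h1 : z = 1 := Subtype.ext (Subtype.ext h0)
    rw [h1, orderOf_one] at hz
    omega
  have hzc : ∀ t ∈ T, t * ((z : ↥T) : Perm Ω) = ((z : ↥T) : Perm Ω) * t := by
    intro t ht
    have h0 := Subgroup.mem_center_iff.mp z.2 ⟨t, ht⟩
    exact congrArg Subtype.val h0
  obtain ⟨a, ha⟩ : ∃ a, ((z : ↥T) : Perm Ω) a ≠ a := by
    by_contra hcon
    apply hzne
    ext y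
    by_contra hy
    exact hcon ⟨y, hy⟩
  exact ⟨a, _, fun h => ha h.symm, swap_mem_of_central_invol n hΩ T hT _ hz2' hzc a⟩

theorem isSwap_conj {Ω : Type} [DecidableEq Ω] (t τ : Perm Ω) (h : τ.IsSwap) :
    (t * τ * t⁻¹).IsSwap := by
  obtain ⟨c, d, hcd, rfl⟩ := h
  refine ⟨t c, t d, fun h0 => hcd (t.injective h0), ?_⟩
  rw [swap_apply_apply]

theorem isSwap_eq {Ω : Type} [DecidableEq Ω] (τ : Perm Ω) (h : τ.IsSwap) (x : Ω)
    (hx : τ x ≠ x) : τ = swap x (τ x) := by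
  obtain ⟨c, d, hcd, rfl⟩ := h
  by_cases h1 : x = c
  · rw [h1, swap_apply_left]
  · by_cases h2 : x = d
    · rw [h2, swap_apply_right, swap_comm]
    · exact absurd (swap_apply_of_ne_of_ne h1 h2) hx

theorem swap_moved {Ω : Type} [DecidableEq Ω] (x y w : Ω) (h : swap x y w ≠ w) :
    w = x ∨ w = y := by
  by_contra hcon
  apply h
  exact swap_apply_of_ne_of_ne (fun h1 => hcon (Or.inl h1)) (fun h1 => hcon (Or.inr h1))

/-- Two transpositions in a `2`-group moving a common point are equal. -/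
theorem swaps_disjoint {Ω : Type} [Finite Ω] [DecidableEq Ω] (T : Subgroup (Perm Ω))
    (hT : IsPGroup 2 T) (σ τ : Perm Ω) (hσ : σ ∈ T) (hτ : τ ∈ T) (hσs : σ.IsSwap)
    (hτs : τ.IsSwap) (x : Ω) (hx : σ x ≠ x) (hx' : τ x ≠ x) : σ = τ := by
  haveI := Fintype.ofFinite Ω
  have e1 := isSwap_eq σ hσs x hx
  have e2 := isSwap_eq τ hτs x hx'
  by_cases hy : σ x = τ x
  · rw [e1, e2, hy]
  · exfalso
    have h3c : Perm.IsThreeCycle (swap x (σ x) * swap x (τ x)) :=
      Perm.isThreeCycle_swap_mul_swap_same (fun h => hx h.symm) (fun h => hx' h.symm) hy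
    have hmem : swap x (σ x) * swap x (τ x) ∈ T := by
      rw [← e1, ← e2]
      exact T.mul_mem hσ hτ
    obtain ⟨k, hk⟩ := hT ⟨_, hmem⟩
    have hk' : (swap x (σ x) * swap x (τ x)) ^ 2 ^ k = 1 := congrArg Subtype.val hk
    have h3 := orderOf_dvd_of_pow_eq_one hk'
    rw [h3c.orderOf] at h3
    have h4 := Nat.Prime.dvd_of_dvd_pow Nat.prime_three h3
    omega

theorem ofSubtype_conj {Ω : Type} (p : Ω → Prop) [DecidablePred p] (σ : Perm Ω)
    (hσ : ∀ x, p (σ x) ↔ p x) (s : Perm {x // p x}) :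
    σ * Perm.ofSubtype s * σ⁻¹ =
      Perm.ofSubtype (Perm.subtypePerm σ hσ * s * (Perm.subtypePerm σ hσ)⁻¹) := by
  ext x
  have hxx : σ (σ⁻¹ x) = x := σ.apply_symm_apply x
  by_cases hx : p x
  · have hx' : p (σ⁻¹ x) := by
      rw [← hσ, hxx]; exact hx
    rw [Perm.ofSubtype_apply_of_mem _ hx]
    simp only [Perm.mul_apply]
    rw [Perm.ofSubtype_apply_of_mem _ hx']
    have h1 : (Perm.subtypePerm σ hσ)⁻¹ ⟨x, hx⟩ = ⟨σ⁻¹ x, hx'⟩ := by
      rw [Perm.inv_eq_iff_eq]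
      exact Subtype.ext hxx.symm
    rw [h1]
    rfl
  · have hx' : ¬ p (σ⁻¹ x) := by
      rw [← hσ, hxx]; exact hx
    rw [Perm.ofSubtype_apply_of_not_mem _ hx]
    simp only [Perm.mul_apply]
    rw [Perm.ofSubtype_apply_of_not_mem _ hx']
    exact hxx

theorem isSwap_apply_apply {Ω : Type} [DecidableEq Ω] (τ : Perm Ω) (h : τ.IsSwap) (x : Ω) :
    τ (τ x) = x := by
  obtain ⟨c, d, hcd, rfl⟩ := h
  exact swap_apply_self c d x

/-- In a Sylow `2`-subgroup of `Perm Ω` at most one point is moved by no transposition. -/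
theorem uncovered_subsingleton {Ω : Type} [Finite Ω] [DecidableEq Ω] (n : ℕ)
    (hΩ : Nat.card Ω = n) (T : Subgroup (Perm Ω)) (hT : Nat.card T = 2 ^ nilG n) (a b : Ω)
    (ha : ∀ τ ∈ T, τ.IsSwap → τ a = a) (hb : ∀ τ ∈ T, τ.IsSwap → τ b = b) : a = b := by
  classical
  by_contra hab
  have hT2 : IsPGroup 2 T := IsPGroup.of_card hT
  have hinv1 : ∀ t ∈ T, ∀ x, (∀ τ ∈ T, τ.IsSwap → τ x = x) →
      (∀ τ ∈ T, τ.IsSwap → τ (t x) = t x) := by
    intro t ht x hx τ hτ hτs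
    have h1 : (t⁻¹ * τ * t⁻¹⁻¹) x = x :=
      hx _ (T.mul_mem (T.mul_mem (T.inv_mem ht) hτ) (T.inv_mem (T.inv_mem ht)))
        (isSwap_conj t⁻¹ τ hτs)
    rw [inv_inv] at h1
    have h2 : t⁻¹ (τ (t x)) = x := h1
    have h3 := congrArg t h2
    rwa [show t (t⁻¹ (τ (t x))) = τ (t x) from t.apply_symm_apply _] at h3
  have hinv : ∀ t ∈ T, ∀ x, (∀ τ ∈ T, τ.IsSwap → τ (t x) = t x) ↔
      (∀ τ ∈ T, τ.IsSwap → τ x = x) := by
    intro t ht x
    constructor
    · intro h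
      have h1 := hinv1 t⁻¹ (T.inv_mem ht) (t x) h
      rwa [show t⁻¹ (t x) = x from t.symm_apply_apply x] at h1
    · exact hinv1 t ht x
  let ρ : T →* Perm {x : Ω // ∀ τ ∈ T, τ.IsSwap → τ x = x} :=
    { toFun := fun t => Perm.subtypePerm (t : Perm Ω) (fun x => hinv t t.2 x)
      map_one' := by ext y; rfl
      map_mul' := fun _ _ => by ext y; rfl }
  haveI : Nontrivial {x : Ω // ∀ τ ∈ T, τ.IsSwap → τ x = x} :=
    ⟨⟨⟨a, ha⟩, ⟨b, hb⟩, fun h => hab (congrArg Subtype.val h)⟩⟩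
  have hr2 : 2 ≤ Nat.card {x : Ω // ∀ τ ∈ T, τ.IsSwap → τ x = x} :=
    Finite.one_lt_card_iff_nontrivial.mpr inferInstance
  have hρ2 : IsPGroup 2 ρ.range := hT2.of_surjective ρ.rangeRestrict ρ.rangeRestrict_surjective
  obtain ⟨S, hS⟩ := hρ2.exists_le_sylow
  have hScard : Nat.card S = 2 ^ nilG (Nat.card {x : Ω // ∀ τ ∈ T, τ.IsSwap → τ x = x}) := by
    rw [Sylow.card_eq_multiplicity, Nat.card_perm, Nat.factorization_def _ Nat.prime_two]
    rfl
  have hconj : ∀ t : T, ∀ s : Perm {x : Ω // ∀ τ ∈ T, τ.IsSwap → τ x = x},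
      (t : Perm Ω) * Perm.ofSubtype s * (t : Perm Ω)⁻¹ = Perm.ofSubtype (ρ t * s * (ρ t)⁻¹) :=
    fun t s => ofSubtype_conj _ (t : Perm Ω) (fun x => hinv t t.2 x) s
  have hTN : T ≤ Subgroup.normalizer
      ((S.toSubgroup.map Perm.ofSubtype : Subgroup (Perm Ω)) : Set (Perm Ω)) := by
    intro t ht
    apply mem_normalizer_of_conj
    · rintro _ ⟨s, hs, rfl⟩
      have h1 : t * Perm.ofSubtype s * t⁻¹ = _ := hconj ⟨t, ht⟩ s
      rw [h1]
      refine ⟨_, ?_, rfl⟩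
      have hρt : ρ ⟨t, ht⟩ ∈ S.toSubgroup := hS ⟨_, rfl⟩
      exact S.toSubgroup.mul_mem (S.toSubgroup.mul_mem hρt hs)
        (S.toSubgroup.inv_mem hρt)
    · rintro _ ⟨s, hs, rfl⟩
      have h1 : t⁻¹ * Perm.ofSubtype s * t⁻¹⁻¹ = _ := hconj ⟨t⁻¹, T.inv_mem ht⟩ s
      rw [inv_inv] at h1
      rw [h1]
      refine ⟨_, ?_, rfl⟩
      have hρt : ρ ⟨t⁻¹, T.inv_mem ht⟩ ∈ S.toSubgroup := hS ⟨_, rfl⟩
      exact S.toSubgroup.mul_mem (S.toSubgroup.mul_mem hρt hs)
        (S.toSubgroup.inv_mem hρt)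
  have hS2 : IsPGroup 2 ↥(S.toSubgroup.map Perm.ofSubtype) := S.isPGroup'.map _
  have h2 : IsPGroup 2 ↥(T ⊔ S.toSubgroup.map Perm.ofSubtype) :=
    IsPGroup.to_sup_of_normal_right' hT2 hS2 hTN
  have h3 := two_group_max n hΩ T _ hT h2 le_sup_left
  have h4 : S.toSubgroup.map Perm.ofSubtype ≤ T := le_sup_right.trans (le_of_eq h3)
  obtain ⟨a', b', hab', hsw⟩ := exists_swap_mem _ rfl hr2 S.toSubgroup hScard
  have h5 : swap (a' : Ω) (b' : Ω) ∈ T := by
    apply h4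
    refine ⟨swap a' b', hsw, ?_⟩
    exact Perm.ofSubtype_swap_eq a' b'
  have h6 := a'.2 _ h5 ⟨_, _, fun h => hab' (Subtype.ext h), rfl⟩
  rw [swap_apply_left] at h6
  exact hab' (Subtype.ext h6.symm)

/-- The transpositions in `T`. -/
abbrev SwapsIn {Ω : Type} [DecidableEq Ω] (T : Subgroup (Perm Ω)) : Type :=
  {τ : Perm Ω // τ ∈ T ∧ τ.IsSwap}

/-- Conjugation action of the normalizer of `T` on the transpositions of `T`. -/
def swapsConj {Ω : Type} [DecidableEq Ω] (T : Subgroup (Perm Ω)) :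
    ↥(Subgroup.normalizer (T : Set (Perm Ω))) →* Perm (SwapsIn T) where
  toFun g :=
    { toFun := fun τ => ⟨(g : Perm Ω) * τ.1 * (g : Perm Ω)⁻¹,
        (Subgroup.mem_normalizer_iff.mp g.2 τ.1).mp τ.2.1, isSwap_conj _ _ τ.2.2⟩
      invFun := fun τ => ⟨(g : Perm Ω)⁻¹ * τ.1 * (g : Perm Ω),
        (Subgroup.mem_normalizer_iff''.mp g.2 τ.1).mp τ.2.1, by
          have h := isSwap_conj (g : Perm Ω)⁻¹ τ.1 τ.2.2
          rwa [inv_inv] at h⟩
      left_inv := fun τ => Subtype.ext (by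
        show (g : Perm Ω)⁻¹ * ((g : Perm Ω) * τ.1 * (g : Perm Ω)⁻¹) * (g : Perm Ω) = τ.1
        group)
      right_inv := fun τ => Subtype.ext (by
        show (g : Perm Ω) * ((g : Perm Ω)⁻¹ * τ.1 * (g : Perm Ω)) * (g : Perm Ω)⁻¹ = τ.1
        group) }
  map_one' := by
    refine Equiv.ext (fun τ => Subtype.ext ?_)
    show (1 : Perm Ω) * τ.1 * (1 : Perm Ω)⁻¹ = τ.1
    group
  map_mul' := fun g h => by
    refine Equiv.ext (fun τ => Subtype.ext ?_)
    show ((g : Perm Ω) * (h : Perm Ω)) * τ.1 * ((g : Perm Ω) * (h : Perm Ω))⁻¹ =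
      (g : Perm Ω) * ((h : Perm Ω) * τ.1 * (h : Perm Ω)⁻¹) * (g : Perm Ω)⁻¹
    group

theorem card_swapsIn_le {Ω : Type} [Finite Ω] [DecidableEq Ω] (n : ℕ) (hΩ : Nat.card Ω = n)
    (T : Subgroup (Perm Ω)) (hT : IsPGroup 2 T) : 2 * Nat.card (SwapsIn T) ≤ n := by
  haveI := Fintype.ofFinite Ω
  haveI := Fintype.ofFinite (SwapsIn T)
  have hinj : Function.Injective
      (fun p : (Σ τ : SwapsIn T, {x : Ω // τ.1 x ≠ x}) => (p.2 : Ω)) := by
    rintro ⟨τ, x, hx⟩ ⟨τ', x', hx'⟩ h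
    have h' : x = x' := h
    subst h'
    have h2 : τ = τ' :=
      Subtype.ext (swaps_disjoint T hT τ.1 τ'.1 τ.2.1 τ'.2.1 τ.2.2 τ'.2.2 x hx hx')
    subst h2
    rfl
  have h1 := Nat.card_le_card_of_injective _ hinj
  rw [Nat.card_sigma, hΩ] at h1
  have h2 : ∀ τ : SwapsIn T, Nat.card {x : Ω // τ.1 x ≠ x} = 2 := by
    intro τ
    rw [Nat.card_eq_fintype_card, Fintype.card_subtype]
    have h3 := Perm.card_support_eq_two.mpr τ.2.2
    rw [← h3]
    congr 1
  simp only [h2] at h1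
  rw [Finset.sum_const, Finset.card_univ, smul_eq_mul, ← Nat.card_eq_fintype_card] at h1
  omega

theorem comm_swap_apply {Ω : Type} [DecidableEq Ω] (t τ : Perm Ω) (hτ : τ.IsSwap)
    (hc : t * τ = τ * t) (p : Ω) (hp : τ p ≠ p) : t p = p ∨ t p = τ p := by
  have h1 : τ (t p) = t (τ p) := by
    have h0 := congrArg (fun σ : Perm Ω => σ p) hc
    exact h0.symm
  have h2 : τ (t p) ≠ t p := by
    rw [h1]
    exact fun h => hp (t.injective h)
  have h3 := isSwap_eq τ hτ p hp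
  have h4 : swap p (τ p) (t p) ≠ t p := by
    rw [← h3]
    exact h2
  exact swap_moved p (τ p) (t p) h4

theorem card_ker_le {Ω : Type} [Finite Ω] [DecidableEq Ω] (n : ℕ) (hΩ : Nat.card Ω = n)
    (T : Subgroup (Perm Ω)) (hT : Nat.card T = 2 ^ nilG n)
    (K : Subgroup (Perm Ω)) (hKT : K ≤ T)
    (hK : ∀ t ∈ K, ∀ τ ∈ T, τ.IsSwap → t * τ = τ * t) :
    Nat.card K ≤ 2 ^ Nat.card (SwapsIn T) := by
  classical
  have hpt : ∀ τ : SwapsIn T, ∃ x : Ω, τ.1 x ≠ x := by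
    intro τ
    obtain ⟨c, d, hcd, h⟩ := τ.2.2
    refine ⟨c, ?_⟩
    rw [h, swap_apply_left]
    exact fun h' => hcd h'.symm
  choose pt hpt using hpt
  have hinj : Function.Injective
      (fun (t : K) (τ : SwapsIn T) => decide ((t : Perm Ω) (pt τ) = pt τ)) := by
    intro t t' h
    apply Subtype.ext
    ext x
    by_cases hx : ∀ τ ∈ T, τ.IsSwap → τ x = x
    · have h1 : ∀ s ∈ T, s x = x := by
        intro s hs
        apply uncovered_subsingleton n hΩ T hT (s x) x _ hx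
        intro τ hτ hτs
        have h2 := hx (s⁻¹ * τ * s) (T.mul_mem (T.mul_mem (T.inv_mem hs) hτ) hs) (by
            have h := isSwap_conj s⁻¹ τ hτs
            rwa [inv_inv] at h)
        have h3 : s⁻¹ (τ (s x)) = x := h2
        have h4 := congrArg s h3
        rwa [show s (s⁻¹ (τ (s x))) = τ (s x) from s.apply_symm_apply _] at h4
      rw [h1 _ (hKT t.2), h1 _ (hKT t'.2)]
    · push_neg at hx
      obtain ⟨τ, hτ, hτs, hτx⟩ := hx
      have hf := congrFun h ⟨τ, hτ, hτs⟩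
      have hf' : ((t : Perm Ω) (pt ⟨τ, hτ, hτs⟩) = pt ⟨τ, hτ, hτs⟩) ↔
          ((t' : Perm Ω) (pt ⟨τ, hτ, hτs⟩) = pt ⟨τ, hτ, hτs⟩) := by
        simpa using hf
      have hp' : τ (pt ⟨τ, hτ, hτs⟩) ≠ pt ⟨τ, hτ, hτs⟩ := hpt ⟨τ, hτ, hτs⟩
      generalize pt ⟨τ, hτ, hτs⟩ = p at hf' hp'
      have e1 := comm_swap_apply (t : Perm Ω) τ hτs (hK _ t.2 τ hτ hτs) p hp'
      have e2 := comm_swap_apply (t' : Perm Ω) τ hτs (hK _ t'.2 τ hτ hτs) p hp'
      have hpp : (t : Perm Ω) p = (t' : Perm Ω) p := by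
        rcases e1 with e1 | e1
        · rw [e1, hf'.mp e1]
        · rcases e2 with e2 | e2
          · exact absurd (e1.symm.trans (hf'.mpr e2)) hp'
          · rw [e1, e2]
      have h3 := isSwap_eq τ hτs p hp'
      have hxp : x = p ∨ x = τ p := by
        apply swap_moved p (τ p) x
        rw [← h3]
        exact hτx
      rcases hxp with hxp | hxp
      · rw [hxp]
        exact hpp
      · rw [hxp]
        have c1 := congrArg (fun σ : Perm Ω => σ p) (hK _ t.2 τ hτ hτs)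
        have c2 := congrArg (fun σ : Perm Ω => σ p) (hK _ t'.2 τ hτ hτs)
        simp only [Perm.mul_apply] at c1 c2
        rw [c1, c2, hpp]
  have h1 := Nat.card_le_card_of_injective _ hinj
  rwa [Nat.card_fun, Nat.card_eq_fintype_card (α := Bool), Fintype.card_bool] at h1

/-- An element of odd order normalizing a Sylow `2`-subgroup of `Perm Ω` is trivial. -/
theorem sylow_two_sym_norm : ∀ (n : ℕ) (Ω : Type) [Finite Ω], Nat.card Ω = n →
    ∀ T : Subgroup (Perm Ω), Nat.card T = 2 ^ nilG n → ∀ g : Perm Ω,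
    (∃ k, Odd k ∧ g ^ k = 1) → g ∈ Subgroup.normalizer (T : Set (Perm Ω)) → g = 1 := by
  intro n
  induction n using Nat.strong_induction_on with
  | _ n ih =>
  intro Ω _ hΩ T hT g hgk hg
  classical
  by_cases hn : n < 2
  · haveI : Subsingleton Ω := by
      rw [← Finite.card_le_one_iff_subsingleton, hΩ]
      omega
    exact Subsingleton.elim _ _
  push_neg at hn
  have hT2 : IsPGroup 2 T := IsPGroup.of_card hT
  have hm := card_swapsIn_le n hΩ T hT2
  have hTN : T ≤ Subgroup.normalizer (T : Set (Perm Ω)) := Subgroup.le_normalizer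
  let ψ : T →* Perm (SwapsIn T) := (swapsConj T).comp (Subgroup.inclusion hTN)
  have hker : Nat.card ψ.ker ≤ 2 ^ Nat.card (SwapsIn T) := by
    have h1 := card_ker_le n hΩ T hT (ψ.ker.map T.subtype) (by
        rintro _ ⟨w, -, rfl⟩
        exact w.2) (by
        rintro _ ⟨w, hw, rfl⟩ τ hτ hτs
        have h2 : ψ w = 1 := MonoidHom.mem_ker.mp hw
        have h3 := congrArg
          (fun e : Perm (SwapsIn T) => ((e ⟨τ, hτ, hτs⟩ : SwapsIn T) : Perm Ω)) h2
        have h4 : (w : Perm Ω) * τ * (w : Perm Ω)⁻¹ = τ := h3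
        calc (w : Perm Ω) * τ = (w : Perm Ω) * τ * (w : Perm Ω)⁻¹ * (w : Perm Ω) := by group
          _ = τ * (w : Perm Ω) := by rw [h4])
    rwa [Subgroup.card_map_of_injective T.subtype_injective] at h1
  have hrange : Nat.card ψ.range ≤ 2 ^ nilG (Nat.card (SwapsIn T)) :=
    two_group_card_le _ rfl ψ.range
      (hT2.of_surjective ψ.rangeRestrict ψ.rangeRestrict_surjective)
  have hprod : Nat.card ψ.ker * Nat.card ψ.range = 2 ^ nilG n := by
    rw [← hT]
    have h0 := Subgroup.card_mul_index ψ.ker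
    rw [Subgroup.index_ker] at h0
    exact h0
  have hrc : Nat.card ψ.range = 2 ^ nilG (Nat.card (SwapsIn T)) := by
    have h1 : Nat.card (SwapsIn T) + nilG (Nat.card (SwapsIn T)) ≤ nilG n := by
      have h2 := nilG_rec n
      have h3 : nilG (Nat.card (SwapsIn T)) ≤ nilG (n / 2) := nilG_mono (by omega)
      omega
    have h4 : 2 ^ Nat.card (SwapsIn T) * 2 ^ nilG (Nat.card (SwapsIn T)) ≤ 2 ^ nilG n := by
      rw [← pow_add]
      exact Nat.pow_le_pow_right (by norm_num) h1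
    by_contra hne
    have h5 : Nat.card ψ.range < 2 ^ nilG (Nat.card (SwapsIn T)) := lt_of_le_of_ne hrange hne
    have h6 : Nat.card ψ.ker * Nat.card ψ.range <
        2 ^ Nat.card (SwapsIn T) * 2 ^ nilG (Nat.card (SwapsIn T)) := by
      calc Nat.card ψ.ker * Nat.card ψ.range
          ≤ 2 ^ Nat.card (SwapsIn T) * Nat.card ψ.range := Nat.mul_le_mul_right _ hker
        _ < 2 ^ Nat.card (SwapsIn T) * 2 ^ nilG (Nat.card (SwapsIn T)) :=
          (Nat.mul_lt_mul_left (by positivity)).mpr h5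
    rw [hprod] at h6
    exact absurd h6 (not_lt.mpr h4)
  have hmn : Nat.card (SwapsIn T) < n := by omega
  have hφ : swapsConj T ⟨g, hg⟩ = 1 := by
    apply ih _ hmn (SwapsIn T) rfl ψ.range hrc
    · obtain ⟨k, hk, hgk⟩ := hgk
      refine ⟨k, hk, ?_⟩
      rw [← map_pow]
      have h0 : (⟨g, hg⟩ : ↥(Subgroup.normalizer (T : Set (Perm Ω)))) ^ k = 1 :=
        Subtype.ext (by
          rw [Subgroup.coe_pow, Subgroup.coe_one]
          exact hgk)
      rw [h0, map_one]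
    · apply mem_normalizer_of_conj
      · rintro _ ⟨t, rfl⟩
        refine ⟨⟨g * t * g⁻¹, (Subgroup.mem_normalizer_iff.mp hg t).mp t.2⟩, ?_⟩
        show swapsConj T (Subgroup.inclusion hTN ⟨g * t * g⁻¹, _⟩) =
          swapsConj T ⟨g, hg⟩ * swapsConj T (Subgroup.inclusion hTN t) *
            (swapsConj T ⟨g, hg⟩)⁻¹
        rw [← map_inv, ← map_mul, ← map_mul]
        rfl
      · rintro _ ⟨t, rfl⟩
        refine ⟨⟨g⁻¹ * t * g, (Subgroup.mem_normalizer_iff''.mp hg t).mp t.2⟩, ?_⟩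
        show swapsConj T (Subgroup.inclusion hTN ⟨g⁻¹ * t * g, _⟩) =
          (swapsConj T ⟨g, hg⟩)⁻¹ * swapsConj T (Subgroup.inclusion hTN t) *
            swapsConj T ⟨g, hg⟩
        rw [← map_inv, ← map_mul, ← map_mul]
        rfl
  have hcomm : ∀ τ ∈ T, τ.IsSwap → g * τ = τ * g := by
    intro τ hτ hτs
    have h3 := congrArg
      (fun e : Perm (SwapsIn T) => ((e ⟨τ, hτ, hτs⟩ : SwapsIn T) : Perm Ω)) hφ
    have h4 : g * τ * g⁻¹ = τ := h3
    calc g * τ = g * τ * g⁻¹ * g := by group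
      _ = τ * g := by rw [h4]
  obtain ⟨k, hk, hgk⟩ := hgk
  ext x
  show g x = x
  by_cases hx : ∀ τ ∈ T, τ.IsSwap → τ x = x
  · apply uncovered_subsingleton n hΩ T hT (g x) x _ hx
    intro τ hτ hτs
    have h2 := hx (g⁻¹ * τ * g) ((Subgroup.mem_normalizer_iff''.mp hg τ).mp hτ) (by
        have h := isSwap_conj g⁻¹ τ hτs
        rwa [inv_inv] at h)
    have h3 : g⁻¹ (τ (g x)) = x := h2
    have h4 := congrArg g h3
    rwa [show g (g⁻¹ (τ (g x))) = τ (g x) from g.apply_symm_apply _] at h4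
  · push_neg at hx
    obtain ⟨τ, hτ, hτs, hτx⟩ := hx
    rcases comm_swap_apply g τ hτs (hcomm τ hτ hτs) x hτx with h1 | h1
    · exact h1
    · exfalso
      have h2 : g (τ x) = x := by
        have c := congrArg (fun σ : Perm Ω => σ x) (hcomm τ hτ hτs)
        simp only [Perm.mul_apply] at c
        rw [c, h1]
        exact isSwap_apply_apply τ hτs x
      obtain ⟨j, rfl⟩ := hk
      have h5 : (g ^ 2) x = x := by
        rw [pow_two]
        show g (g x) = x
        rw [h1, h2]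
      have h6 : ((g ^ 2) ^ j) x = x := Perm.pow_apply_eq_self_of_apply_eq_self h5 j
      have h7 : (g ^ (2 * j + 1)) x = g x := by
        rw [pow_succ', pow_mul]
        show g (((g ^ 2) ^ j) x) = g x
        rw [h6]
      rw [hgk] at h7
      exact hτx (h1.symm.trans h7.symm)

end Cfsg.Agent.Helper22
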