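import Mathlib
import Cfsg.Agent.Helper22.SylNorm1
import Cfsg.Agent.Helper22.NilAlt2

set_option autoImplicit false

namespace Cfsg.Agent.Helper22

open Equiv

/-- A permutation in a `2`-group cannot have a 3-cycle `a → a' → b → a`. -/
theorem no_three_cycle_in_two_group {Ω : Type} (R : Subgroup (Perm Ω)) (hR : IsPGroup 2 R)
    (w : Perm Ω) (hw : w ∈ R) (a a' b : Ω) (h1 : w a = a') (h2 : w a' = b) (h3 : w b = a)
    (haa' : a' ≠ a) (hab : b ≠ a) : False := by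
  obtain ⟨k, hk⟩ := hR ⟨w, hw⟩
  have hk' : w ^ 2 ^ k = 1 := congrArg Subtype.val hk
  have h33 : (w ^ 3) a = a := by
    rw [pow_succ, pow_two]
    show w (w (w a)) = a
    rw [h1, h2, h3]
  have hq : ∀ q, ((w ^ 3) ^ q) a = a := Perm.pow_apply_eq_self_of_apply_eq_self h33
  have hdiv : 2 ^ k = 3 * (2 ^ k / 3) + 2 ^ k % 3 := (Nat.div_add_mod _ _).symm
  have hmod : 2 ^ k % 3 = 1 ∨ 2 ^ k % 3 = 2 := by
    have h0 : 2 ^ k % 3 ≠ 0 := by
      intro h
      have h4 := Nat.Prime.dvd_of_dvd_pow Nat.prime_three (Nat.dvd_of_mod_eq_zero h)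
      omega
    omega
  have h5 : (w ^ 2 ^ k) a = (w ^ (2 ^ k % 3)) a := by
    conv_lhs => rw [hdiv, add_comm, pow_add, pow_mul]
    show (w ^ (2 ^ k % 3)) (((w ^ 3) ^ (2 ^ k / 3)) a) = _
    rw [hq]
  rw [hk'] at h5
  simp only [Perm.one_apply] at h5
  rcases hmod with h | h
  · rw [h, pow_one, h1] at h5
    exact haa' h5.symm
  · rw [h, pow_two] at h5
    have h6 : w (w a) = b := by rw [h1, h2]
    exact hab (h6.symm.trans h5.symm)

/-- The even elements of a Sylow `2`-subgroup `T` of `Perm Ω` lie in `P`, if `P ≤ T` consists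
of even permutations and has order `2 ^ (nilG n - 1)`. -/
theorem even_mem_of_sylow {Ω : Type} [Fintype Ω] [DecidableEq Ω] (n : ℕ) (hΩ : Nat.card Ω = n)
    (hn : 2 ≤ n) (T P : Subgroup (Perm Ω)) (hT : Nat.card T = 2 ^ nilG n) (hPT : P ≤ T)
    (hPalt : ∀ σ ∈ P, Perm.sign σ = 1) (hP : Nat.card P = 2 ^ (nilG n - 1))
    (t : Perm Ω) (ht : t ∈ T) (hts : Perm.sign t = 1) : t ∈ P := by
  obtain ⟨a, b, hab, hsw⟩ := exists_swap_mem n hΩ hn T hT
  have hpos := nilG_pos_of_two_le n hn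
  have hPQ : P ≤ T ⊓ alternatingGroup Ω :=
    fun σ hσ => ⟨hPT hσ, Perm.mem_alternatingGroup.mpr (hPalt σ hσ)⟩
  have hQT : T ⊓ alternatingGroup Ω ≤ T := inf_le_left
  have hQne : T ⊓ alternatingGroup Ω ≠ T := by
    intro h
    have h1 : swap a b ∈ T ⊓ alternatingGroup Ω := by
      rw [h]
      exact hsw
    have h2 := Perm.mem_alternatingGroup.mp h1.2
    rw [Perm.sign_swap hab] at h2
    exact absurd h2 (by decide)
  have hdvd : Nat.card ↥(T ⊓ alternatingGroup Ω) ∣ 2 ^ nilG n := by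
    rw [← hT]
    exact Subgroup.card_dvd_of_le hQT
  obtain ⟨j, hj, hjc⟩ := (Nat.dvd_prime_pow Nat.prime_two).mp hdvd
  have hj' : j ≤ nilG n - 1 := by
    by_contra hcon
    have hjn : j = nilG n := by omega
    apply hQne
    apply Subgroup.eq_of_le_of_card_ge hQT
    rw [hT, hjc, hjn]
  have hQP : P = T ⊓ alternatingGroup Ω := by
    apply Subgroup.eq_of_le_of_card_ge hPQ
    rw [hP, hjc]
    exact Nat.pow_le_pow_right (by norm_num) hj'
  rw [hQP]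
  exact ⟨ht, Perm.mem_alternatingGroup.mpr hts⟩

theorem swap_mem_aux {Ω : Type} [Fintype Ω] [DecidableEq Ω] (n : ℕ) (hΩ : Nat.card Ω = n)
    (hn : 6 ≤ n) (T P : Subgroup (Perm Ω)) (hT : Nat.card T = 2 ^ nilG n) (hPT : P ≤ T)
    (hPalt : ∀ σ ∈ P, Perm.sign σ = 1) (hP : Nat.card P = 2 ^ (nilG n - 1))
    (a b : Ω) (hab : a ≠ b) (hN : swap a b ∈ Subgroup.normalizer (P : Set (Perm Ω)))
    (τ₁ : Perm Ω) (hτ₁ : τ₁ ∈ T) (hτ₁s : τ₁.IsSwap) (hτ₁a : τ₁ a ≠ a) : swap a b ∈ T := by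
  classical
  by_contra hcon
  have hT2 : IsPGroup 2 T := IsPGroup.of_card hT
  have hP2 : IsPGroup 2 P := IsPGroup.of_card hP
  have e1 := isSwap_eq τ₁ hτ₁s a hτ₁a
  have ha'b : τ₁ a ≠ b := by
    intro h
    apply hcon
    rw [← h, ← e1]
    exact hτ₁
  obtain ⟨b', hb'⟩ : ∃ b' : Ω, ∀ τ ∈ T, τ.IsSwap → τ b ≠ b → b' = τ b := by
    by_cases h : ∃ τ ∈ T, τ.IsSwap ∧ τ b ≠ b
    · obtain ⟨τ, h1, h2, h3⟩ := h
      refine ⟨τ b, ?_⟩
      intro τ' h1' h2' h3'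
      rw [swaps_disjoint T hT2 τ τ' h1 h1' h2 h2' b h3 h3']
    · push_neg at h
      exact ⟨b, fun τ h1 h2 h3 => absurd (h τ h1 h2) h3⟩
  obtain ⟨u, hu⟩ : ∃ u : Ω, ∀ c : Ω, (∀ τ ∈ T, τ.IsSwap → τ c = c) → c = u := by
    by_cases h : ∃ u : Ω, ∀ τ ∈ T, τ.IsSwap → τ u = u
    · obtain ⟨u, hu⟩ := h
      exact ⟨u, fun c hc => uncovered_subsingleton n hΩ T hT c u hc hu⟩
    · push_neg at h
      refine ⟨a, fun c hc => ?_⟩
      obtain ⟨τ, h1, h2, h3⟩ := h c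
      exact absurd (hc τ h1 h2) h3
  obtain ⟨c, -, hc⟩ : ∃ c ∈ (Finset.univ : Finset Ω), c ∉ ({a, τ₁ a, b, b', u} : Finset Ω) := by
    apply Finset.exists_mem_notMem_of_card_lt_card
    have h1 : ({a, τ₁ a, b, b', u} : Finset Ω).card ≤ 5 := Finset.card_le_five
    rw [Finset.card_univ, ← Nat.card_eq_fintype_card, hΩ]
    omega
  simp only [Finset.mem_insert, Finset.mem_singleton, not_or] at hc
  obtain ⟨hca, hca', hcb, hcb', hcu⟩ := hc
  have hcov : ∃ τ ∈ T, τ.IsSwap ∧ τ c ≠ c := by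
    by_contra hno
    push_neg at hno
    exact hcu (hu c hno)
  obtain ⟨τ₂, hτ₂, hτ₂s, hτ₂c⟩ := hcov
  have hne : τ₂ ≠ τ₁ := by
    intro h
    rw [h, e1] at hτ₂c
    rcases swap_moved _ _ _ hτ₂c with h1 | h1
    · exact hca h1
    · exact hca' h1
  have h2a : τ₂ a = a := by
    by_contra h
    exact hne (swaps_disjoint T hT2 τ₂ τ₁ hτ₂ hτ₁ hτ₂s hτ₁s a h hτ₁a)
  have hτ₁a' : τ₁ (τ₁ a) = a := isSwap_apply_apply τ₁ hτ₁s a
  have h2a' : τ₂ (τ₁ a) = τ₁ a := by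
    by_contra h
    apply hne
    apply swaps_disjoint T hT2 τ₂ τ₁ hτ₂ hτ₁ hτ₂s hτ₁s (τ₁ a) h
    rw [hτ₁a']
    exact fun h' => hτ₁a h'.symm
  have h2b : τ₂ b = b := by
    by_contra h
    have hb'' := hb' τ₂ hτ₂ hτ₂s h
    have e2 := isSwap_eq τ₂ hτ₂s b h
    rw [e2] at hτ₂c
    rcases swap_moved _ _ _ hτ₂c with h5 | h5
    · exact hcb h5
    · exact hcb' (h5.trans hb''.symm)
  have h1b : τ₁ b = b := by
    by_contra h
    rw [e1] at h
    rcases swap_moved _ _ _ h with h1 | h1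
    · exact hab h1.symm
    · exact ha'b h1.symm
  have hy : τ₁ * τ₂ ∈ P := by
    apply even_mem_of_sylow n hΩ (by omega) T P hT hPT hPalt hP _ (T.mul_mem hτ₁ hτ₂)
    rw [map_mul, hτ₁s.sign_eq, hτ₂s.sign_eq]
    decide
  have hzp : IsPGroup 2 (Subgroup.zpowers (swap a b)) := by
    apply IsPGroup.of_card (n := 1)
    rw [Nat.card_zpowers, pow_one]
    exact Perm.IsSwap.orderOf ⟨a, b, hab, rfl⟩
  have hR : IsPGroup 2 ↥(Subgroup.zpowers (swap a b) ⊔ P) :=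
    IsPGroup.to_sup_of_normal_right' hzp hP2 (Subgroup.zpowers_le.mpr hN)
  apply no_three_cycle_in_two_group _ hR (swap a b * (τ₁ * τ₂))
    (Subgroup.mul_mem _ (Subgroup.mem_sup_left (Subgroup.mem_zpowers _))
      (Subgroup.mem_sup_right hy)) a (τ₁ a) b
  · show swap a b (τ₁ (τ₂ a)) = τ₁ a
    rw [h2a]
    exact swap_apply_of_ne_of_ne hτ₁a ha'b
  · show swap a b (τ₁ (τ₂ (τ₁ a))) = b
    rw [h2a', hτ₁a', swap_apply_left]
  · show swap a b (τ₁ (τ₂ b)) = a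
    rw [h2b, h1b, swap_apply_right]
  · exact hτ₁a
  · exact fun h => hab h.symm

theorem swap_mem_of_normalizes {Ω : Type} [Fintype Ω] [DecidableEq Ω] (n : ℕ)
    (hΩ : Nat.card Ω = n) (hn : 6 ≤ n) (T P : Subgroup (Perm Ω)) (hT : Nat.card T = 2 ^ nilG n)
    (hPT : P ≤ T) (hPalt : ∀ σ ∈ P, Perm.sign σ = 1) (hP : Nat.card P = 2 ^ (nilG n - 1))
    (τ : Perm Ω) (hτ : τ.IsSwap) (hN : τ ∈ Subgroup.normalizer (P : Set (Perm Ω))) : τ ∈ T := by
  obtain ⟨a, b, hab, rfl⟩ := hτ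
  by_cases ha : ∃ τ₁ ∈ T, τ₁.IsSwap ∧ τ₁ a ≠ a
  · obtain ⟨τ₁, h1, h2, h3⟩ := ha
    exact swap_mem_aux n hΩ hn T P hT hPT hPalt hP a b hab hN τ₁ h1 h2 h3
  · by_cases hb : ∃ τ₁ ∈ T, τ₁.IsSwap ∧ τ₁ b ≠ b
    · obtain ⟨τ₁, h1, h2, h3⟩ := hb
      rw [swap_comm] at hN ⊢
      exact swap_mem_aux n hΩ hn T P hT hPT hPalt hP b a hab.symm hN τ₁ h1 h2 h3
    · push_neg at ha hb
      exact absurd (uncovered_subsingleton n hΩ T hT a b ha hb) hab

theorem alt_sylow_norm_odd_aux {Ω : Type} [Fintype Ω] [DecidableEq Ω] (n : ℕ)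
    (hΩ : Nat.card Ω = n) (hn : 6 ≤ n) (T P : Subgroup (Perm Ω)) (hT : Nat.card T = 2 ^ nilG n)
    (hPT : P ≤ T) (hPalt : ∀ σ ∈ P, Perm.sign σ = 1)
    (hP : Nat.card P = 2 ^ (nilG n - 1)) (g : Perm Ω) (hgk : ∃ k, Odd k ∧ g ^ k = 1)
    (hg : g ∈ Subgroup.normalizer (P : Set (Perm Ω))) : g = 1 := by
  obtain ⟨a, b, hab, hsw⟩ := exists_swap_mem n hΩ (by omega) T hT
  have hTP : ∀ t ∈ T, t ∈ Subgroup.normalizer (P : Set (Perm Ω)) := by
    intro t ht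
    apply mem_normalizer_of_conj
    · intro k hk
      apply even_mem_of_sylow n hΩ (by omega) T P hT hPT hPalt hP _
        (T.mul_mem (T.mul_mem ht (hPT hk)) (T.inv_mem ht))
      rw [map_mul, map_mul, map_inv, hPalt k hk]
      simp
    · intro k hk
      apply even_mem_of_sylow n hΩ (by omega) T P hT hPT hPalt hP _
        (T.mul_mem (T.mul_mem (T.inv_mem ht) (hPT hk)) ht)
      rw [map_mul, map_mul, map_inv, hPalt k hk]
      simp
  have key : ∀ x ∈ Subgroup.normalizer (P : Set (Perm Ω)), ∀ t ∈ T, x * t * x⁻¹ ∈ T := by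
    intro x hx
    have hswap : ∀ τ ∈ T, τ.IsSwap → x * τ * x⁻¹ ∈ T := by
      intro τ hτ hτs
      apply swap_mem_of_normalizes n hΩ hn T P hT hPT hPalt hP _ (isSwap_conj x τ hτs)
      exact Subgroup.mul_mem _ (Subgroup.mul_mem _ hx (hTP τ hτ)) (Subgroup.inv_mem _ hx)
    intro t ht
    rcases Int.units_eq_one_or (Perm.sign t) with hs | hs
    · exact hPT ((Subgroup.mem_normalizer_iff.mp hx t).mp
        (even_mem_of_sylow n hΩ (by omega) T P hT hPT hPalt hP t ht hs))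
    · have h1 : t * swap a b ∈ P := by
        apply even_mem_of_sylow n hΩ (by omega) T P hT hPT hPalt hP _ (T.mul_mem ht hsw)
        rw [map_mul, hs, Perm.sign_swap hab]
        decide
      have h2 : x * (t * swap a b) * x⁻¹ ∈ T :=
        hPT ((Subgroup.mem_normalizer_iff.mp hx _).mp h1)
      have h3 := hswap (swap a b) hsw ⟨a, b, hab, rfl⟩
      have h4 : x * t * x⁻¹ = (x * (t * swap a b) * x⁻¹) * (x * swap a b * x⁻¹)⁻¹ := by group
      rw [h4]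
      exact T.mul_mem h2 (T.inv_mem h3)
  have hgT : g ∈ Subgroup.normalizer (T : Set (Perm Ω)) := by
    apply mem_normalizer_of_conj
    · exact key g hg
    · intro t ht
      have h0 := key g⁻¹ (Subgroup.inv_mem _ hg) t ht
      rwa [inv_inv] at h0
  exact sylow_two_sym_norm n Ω hΩ T hT g hgk hgT

/-- An element of odd order normalizing a Sylow `2`-subgroup of the alternating group of degree
at least `6` is trivial. -/
theorem alt_sylow_norm_odd {Ω : Type} [Fintype Ω] [DecidableEq Ω] (n : ℕ)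
    (hΩ : Nat.card Ω = n) (hn : 6 ≤ n) (P : Subgroup (Perm Ω))
    (hPalt : ∀ σ ∈ P, Perm.sign σ = 1)
    (hP : Nat.card P = 2 ^ (nilG n - 1)) (g : Perm Ω) (hgk : ∃ k, Odd k ∧ g ^ k = 1)
    (hg : g ∈ Subgroup.normalizer (P : Set (Perm Ω))) : g = 1 := by
  have hP2 : IsPGroup 2 P := IsPGroup.of_card hP
  obtain ⟨T, hPT⟩ := hP2.exists_le_sylow
  have hT : Nat.card T = 2 ^ nilG n := by
    rw [Sylow.card_eq_multiplicity, Nat.card_perm, Nat.factorization_def _ Nat.prime_two, hΩ]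
    rfl
  exact alt_sylow_norm_odd_aux n hΩ hn T.toSubgroup P hT hPT hPalt hP g hgk hg

/-- Sylow `2`-subgroups of `A_n`, `n ≥ 6`, are self-normalizing. -/
theorem alt_sylow_two_self_normalizing (n : ℕ) (hn : 6 ≤ n)
    (P : Sylow 2 (alternatingGroup (Fin n))) (x : alternatingGroup (Fin n))
    (hx : x ∈ Subgroup.normalizer (P.toSubgroup : Set (alternatingGroup (Fin n)))) :
    x ∈ P.toSubgroup := by
  have hcard := card_sylow_two_alt n P
  have hP'card : Nat.card (P.toSubgroup.map (alternatingGroup (Fin n)).subtype) =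
      2 ^ (nilG n - 1) := by
    rw [Subgroup.card_map_of_injective (Subgroup.subtype_injective _)]
    exact hcard
  have hP'alt : ∀ σ ∈ P.toSubgroup.map (alternatingGroup (Fin n)).subtype, Perm.sign σ = 1 := by
    rintro _ ⟨s, -, rfl⟩
    exact Perm.mem_alternatingGroup.mp s.2
  have hord : orderOf x ≠ 0 := (orderOf_pos x).ne'
  obtain ⟨a, k, hk, hak⟩ := Nat.exists_eq_two_pow_mul_odd hord
  have h1 : ((x ^ 2 ^ a : alternatingGroup (Fin n)) : Perm (Fin n)) = 1 := by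
    apply alt_sylow_norm_odd n (by simp) hn _ hP'alt hP'card
    · refine ⟨k, hk, ?_⟩
      rw [← Subgroup.coe_pow, ← pow_mul, ← hak, pow_orderOf_eq_one]
      rfl
    · apply mem_normalizer_of_conj
      · rintro _ ⟨s, hs, rfl⟩
        refine ⟨x ^ 2 ^ a * s * (x ^ 2 ^ a)⁻¹, ?_, rfl⟩
        exact (Subgroup.mem_normalizer_iff.mp (Subgroup.pow_mem _ hx _) s).mp hs
      · rintro _ ⟨s, hs, rfl⟩
        refine ⟨(x ^ 2 ^ a)⁻¹ * s * x ^ 2 ^ a, ?_, rfl⟩
        exact (Subgroup.mem_normalizer_iff''.mp (Subgroup.pow_mem _ hx _) s).mp hs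
  have h2 : x ^ 2 ^ a = 1 := Subtype.ext h1
  have hzp : IsPGroup 2 (Subgroup.zpowers x) := by
    obtain ⟨j, hj, hjc⟩ := (Nat.dvd_prime_pow Nat.prime_two).mp (orderOf_dvd_of_pow_eq_one h2)
    apply IsPGroup.of_card (n := j)
    rw [Nat.card_zpowers, hjc]
  have hR : IsPGroup 2 ↥(Subgroup.zpowers x ⊔ P.toSubgroup) :=
    IsPGroup.to_sup_of_normal_right' hzp P.isPGroup' (Subgroup.zpowers_le.mpr hx)
  have h3 := P.is_maximal' hR le_sup_right
  have h4 : x ∈ Subgroup.zpowers x ⊔ P.toSubgroup :=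
    Subgroup.mem_sup_left (Subgroup.mem_zpowers x)
  rw [h3] at h4
  exact h4

end Cfsg.Agent.Helper22
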