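import Mathlib
import Cfsg.Prelude
import Cfsg.Agent.Helper22.SylNorm2

set_option autoImplicit false

namespace Cfsg.Agent.Helper22

open Equiv

theorem fact_two_of_odd_index {G : Type*} [Group G] [Finite G] (H : Subgroup G)
    (hH : Odd H.index) : (Nat.card G).factorization 2 = (Nat.card H).factorization 2 := by
  rw [← Subgroup.card_mul_index H,
    Nat.factorization_mul Nat.card_pos.ne' Subgroup.index_ne_zero_of_finite,
    Finsupp.add_apply, Nat.factorization_eq_zero_of_not_dvd hH.not_two_dvd_nat, add_zero]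

theorem fact_sup_eq {G : Type*} [Group G] [Finite G] (P L : Subgroup G) (p : ℕ) [Fact p.Prime]
    (hPL : P ≤ L) (hP : Nat.card P = p ^ (Nat.card G).factorization p) :
    (Nat.card L).factorization p = (Nat.card G).factorization p := by
  have hp : p.Prime := Fact.out
  apply le_antisymm
  · exact (Nat.factorization_le_iff_dvd Nat.card_pos.ne' Nat.card_pos.ne').mpr
      (Subgroup.card_subgroup_dvd_card L) p
  · apply (Nat.Prime.pow_dvd_iff_le_factorization hp Nat.card_pos.ne').mp
    rw [← hP]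
    exact Subgroup.card_dvd_of_le hPL

/-- A subgroup whose order is the full `p`-part of `|G|` is pronormal. -/
theorem pronormal_of_card_eq_pow {G : Type*} [Group G] [Finite G] (A : Subgroup G) (p : ℕ)
    [Fact p.Prime] (hA : Nat.card A = p ^ (Nat.card G).factorization p) :
    Cfsg.IsPronormal A := by
  intro g
  have hfac := fact_sup_eq A (A ⊔ A.map (MulAut.conj g).toMonoidHom) p le_sup_left hA
  obtain ⟨y, hyL, hy⟩ := conj_of_card_eq_pow (A ⊔ A.map (MulAut.conj g).toMonoidHom) A
    (A.map (MulAut.conj g).toMonoidHom) p le_sup_left le_sup_right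
    (by rw [hfac]; exact hA)
    (by rw [hfac, Subgroup.card_map_of_injective (MulEquiv.injective _)]; exact hA)
  exact ⟨y, hyL, hy⟩

/-- If `H` contains a Sylow `p`-subgroup of `G` together with its normalizer, then `H` is
pronormal. -/
theorem pronormal_of_sylow_normalizer {G : Type*} [Group G] [Finite G] (H P : Subgroup G)
    (p : ℕ) [Fact p.Prime] (hPH : P ≤ H) (hP : Nat.card P = p ^ (Nat.card G).factorization p)
    (hN : ∀ x, x ∈ Subgroup.normalizer (P : Set G) → x ∈ H) : Cfsg.IsPronormal H := by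
  intro g
  have hPL : P ≤ H ⊔ H.map (MulAut.conj g).toMonoidHom := hPH.trans le_sup_left
  have hPgL : P.map (MulAut.conj g).toMonoidHom ≤ H ⊔ H.map (MulAut.conj g).toMonoidHom :=
    (Subgroup.map_mono hPH).trans le_sup_right
  have hfac := fact_sup_eq P (H ⊔ H.map (MulAut.conj g).toMonoidHom) p hPL hP
  obtain ⟨y, hyL, hy⟩ := conj_of_card_eq_pow (H ⊔ H.map (MulAut.conj g).toMonoidHom) P
    (P.map (MulAut.conj g).toMonoidHom) p hPL hPgL
    (by rw [hfac]; exact hP)
    (by rw [hfac, Subgroup.card_map_of_injective (MulEquiv.injective _)]; exact hP)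
  refine ⟨y, hyL, ?_⟩
  have hz : y⁻¹ * g ∈ H := by
    apply hN
    apply mem_normalizer_of_conj
    · intro k hk
      have h1 : g * k * g⁻¹ ∈ P.map (MulAut.conj g).toMonoidHom := ⟨k, hk, rfl⟩
      rw [hy] at h1
      obtain ⟨k', hk', h2⟩ := h1
      have h3 : y * k' * y⁻¹ = g * k * g⁻¹ := h2
      have h4 : y⁻¹ * g * k * (y⁻¹ * g)⁻¹ = k' := by
        calc y⁻¹ * g * k * (y⁻¹ * g)⁻¹ = y⁻¹ * (g * k * g⁻¹) * y := by group
          _ = y⁻¹ * (y * k' * y⁻¹) * y := by rw [h3]
          _ = k' := by group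
      rw [h4]
      exact hk'
    · intro k hk
      have h1 : y * k * y⁻¹ ∈ P.map (MulAut.conj y).toMonoidHom := ⟨k, hk, rfl⟩
      rw [← hy] at h1
      obtain ⟨k', hk', h2⟩ := h1
      have h3 : g * k' * g⁻¹ = y * k * y⁻¹ := h2
      have h4 : (y⁻¹ * g)⁻¹ * k * (y⁻¹ * g) = k' := by
        calc (y⁻¹ * g)⁻¹ * k * (y⁻¹ * g) = g⁻¹ * (y * k * y⁻¹) * g := by group
          _ = g⁻¹ * (g * k' * g⁻¹) * g := by rw [h3]
          _ = k' := by group
      rw [h4]
      exact hk'
  ext w
  constructor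
  · rintro ⟨h, hh, rfl⟩
    refine ⟨(y⁻¹ * g) * h * (y⁻¹ * g)⁻¹, H.mul_mem (H.mul_mem hz hh) (H.inv_mem hz), ?_⟩
    show y * ((y⁻¹ * g) * h * (y⁻¹ * g)⁻¹) * y⁻¹ = g * h * g⁻¹
    group
  · rintro ⟨h, hh, rfl⟩
    refine ⟨(y⁻¹ * g)⁻¹ * h * (y⁻¹ * g), H.mul_mem (H.mul_mem (H.inv_mem hz) hh) hz, ?_⟩
    show g * ((y⁻¹ * g)⁻¹ * h * (y⁻¹ * g)) * g⁻¹ = y * h * y⁻¹
    group

/-- A subgroup of index `1` or prime index is pronormal. -/
theorem pronormal_of_index_prime_or_one {G : Type*} [Group G] [Finite G] (H : Subgroup G)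
    (hH : H.index = 1 ∨ H.index.Prime) : Cfsg.IsPronormal H := by
  intro g
  have hle : H ≤ H ⊔ H.map (MulAut.conj g).toMonoidHom := le_sup_left
  have h1 := Subgroup.relIndex_mul_index hle
  by_cases hL : (H ⊔ H.map (MulAut.conj g).toMonoidHom) = ⊤
  · refine ⟨g, ?_, rfl⟩
    rw [hL]
    trivial
  · have hLi : (H ⊔ H.map (MulAut.conj g).toMonoidHom).index ≠ 1 :=
      fun h => hL (Subgroup.index_eq_one.mp h)
    have hrel : H.relIndex (H ⊔ H.map (MulAut.conj g).toMonoidHom) = 1 := by
      rcases hH with h | h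
      · rw [h] at h1
        exact Nat.dvd_one.mp (Dvd.intro _ h1)
      · rw [← h1] at h
        rcases Nat.prime_mul_iff.mp h with ⟨-, h2⟩ | ⟨-, h2⟩
        · exact absurd h2 hLi
        · exact h2
    have hLH : H ⊔ H.map (MulAut.conj g).toMonoidHom ≤ H := Subgroup.relIndex_eq_one.mp hrel
    have hgH : H.map (MulAut.conj g).toMonoidHom ≤ H := le_sup_right.trans hLH
    have heq : H.map (MulAut.conj g).toMonoidHom = H :=
      Subgroup.eq_of_le_of_card_ge hgH
        (by rw [Subgroup.card_map_of_injective (MulEquiv.injective _)])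
    refine ⟨1, Subgroup.one_mem _, ?_⟩
    rw [heq]
    ext w
    constructor
    · intro hw
      exact ⟨w, hw, by show 1 * w * 1⁻¹ = w; group⟩
    · rintro ⟨h, hh, rfl⟩
      have h0 : (MulAut.conj (1 : G)).toMonoidHom h = h := by
        show 1 * h * 1⁻¹ = h
        group
      rw [h0]
      exact hh

theorem alt_odd_index_pronormal (n : ℕ) (hn : 6 ≤ n) (H : Subgroup (alternatingGroup (Fin n)))
    (hH : Odd H.index) : Cfsg.IsPronormal H := by
  haveI : Fact (Nat.Prime 2) := ⟨Nat.prime_two⟩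
  obtain ⟨Q⟩ : Nonempty (Sylow 2 H) := inferInstance
  have hQ := Q.card_eq_multiplicity
  have hfac := fact_two_of_odd_index H hH
  have hPc : Nat.card (Q.toSubgroup.map H.subtype) =
      2 ^ (Nat.card (alternatingGroup (Fin n))).factorization 2 := by
    rw [Subgroup.card_map_of_injective H.subtype_injective, hfac]
    exact hQ
  apply pronormal_of_sylow_normalizer H (Q.toSubgroup.map H.subtype) 2 ?_ hPc ?_
  · rintro _ ⟨q, -, rfl⟩
    exact q.2
  · intro x hx
    have h0 := alt_sylow_two_self_normalizing n hn (Sylow.ofCard _ hPc) x hx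
    obtain ⟨q, -, rfl⟩ := h0
    exact q.2

theorem alt_five_pronormal (H : Subgroup (alternatingGroup (Fin 5))) (hH : Odd H.index) :
    Cfsg.IsPronormal H := by
  have hc : Nat.card (alternatingGroup (Fin 5)) = 60 := by
    rw [nat_card_alternatingGroup]
    simp
    decide
  have hfac := fact_two_of_odd_index H hH
  have h1 := Subgroup.card_mul_index H
  rw [hc] at h1
  have hdvd : H.index ∣ 60 := Dvd.intro_left _ h1
  have hle : H.index ≤ 60 := Nat.le_of_dvd (by norm_num) hdvd
  obtain ⟨j, hj⟩ := hH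
  have hcases : H.index = 1 ∨ H.index = 3 ∨ H.index = 5 ∨ H.index = 15 := by
    generalize H.index = d at hdvd hle hj
    interval_cases d <;> omega
  rcases hcases with h | h | h | h
  · exact pronormal_of_index_prime_or_one H (Or.inl h)
  · exact pronormal_of_index_prime_or_one H (Or.inr (by rw [h]; norm_num))
  · exact pronormal_of_index_prime_or_one H (Or.inr (by rw [h]; norm_num))
  · have h4 : Nat.card H = 2 ^ 2 := by
      rw [h] at h1
      omega
    haveI : Fact (Nat.Prime 2) := ⟨Nat.prime_two⟩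
    apply pronormal_of_card_eq_pow H 2
    rw [hfac, h4, Nat.Prime.factorization_pow Nat.prime_two]
    simp

end Cfsg.Agent.Helper22
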