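import Mathlib
import Cfsg.Prelude
import Cfsg.Agent.Helper22.SylNorm3

set_option autoImplicit false

namespace Cfsg.Agent.Helper22

variable {G : Type*} [Group G]

/-- The conjugate `g H g⁻¹`. -/
abbrev cj (g : G) (H : Subgroup G) : Subgroup G := H.map (MulAut.conj g).toMonoidHom

theorem mem_cj (g x : G) (H : Subgroup G) : x ∈ cj g H ↔ g⁻¹ * x * g ∈ H := by
  constructor
  · rintro ⟨h, hh, rfl⟩
    have e : g⁻¹ * (g * h * g⁻¹) * g = h := by group
    show g⁻¹ * (g * h * g⁻¹) * g ∈ H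
    rw [e]
    exact hh
  · intro hx
    exact ⟨g⁻¹ * x * g, hx, by show g * (g⁻¹ * x * g) * g⁻¹ = x; group⟩

theorem conj_mem_cj (g h : G) (H : Subgroup G) (hh : h ∈ H) : g * h * g⁻¹ ∈ cj g H :=
  ⟨h, hh, rfl⟩

theorem cj_mul (a b : G) (H : Subgroup G) : cj (a * b) H = cj a (cj b H) := by
  ext x
  rw [mem_cj, mem_cj, mem_cj]
  have e : (a * b)⁻¹ * x * (a * b) = b⁻¹ * (a⁻¹ * x * a) * b := by group
  rw [e]

theorem cj_one (H : Subgroup G) : cj 1 H = H := by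
  ext x
  rw [mem_cj]
  have e : (1 : G)⁻¹ * x * 1 = x := by group
  rw [e]

theorem cj_mono (g : G) {H K : Subgroup G} (h : H ≤ K) : cj g H ≤ cj g K := Subgroup.map_mono h

theorem cj_of_mem (g : G) (H : Subgroup G) (hg : g ∈ H) : cj g H = H := by
  ext x
  rw [mem_cj]
  constructor
  · intro h
    have e : x = g * (g⁻¹ * x * g) * g⁻¹ := by group
    rw [e]
    exact H.mul_mem (H.mul_mem hg h) (H.inv_mem hg)
  · intro h
    exact H.mul_mem (H.mul_mem (H.inv_mem hg) h) hg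

theorem cj_inv_cj (g : G) (H : Subgroup G) : cj g⁻¹ (cj g H) = H := by
  rw [← cj_mul, inv_mul_cancel, cj_one]

theorem cj_cj_inv (g : G) (H : Subgroup G) : cj g (cj g⁻¹ H) = H := by
  rw [← cj_mul, mul_inv_cancel, cj_one]

theorem cj_normal (g : G) (A : Subgroup G) [hA : A.Normal] : cj g A = A := by
  ext x
  rw [mem_cj]
  constructor
  · intro h
    have h2 := hA.conj_mem _ h g
    have e : g * (g⁻¹ * x * g) * g⁻¹ = x := by group
    rwa [e] at h2
  · intro h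
    have h2 := hA.conj_mem _ h g⁻¹
    rwa [inv_inv] at h2

theorem cj_sup (g : G) (H K : Subgroup G) : cj g (H ⊔ K) = cj g H ⊔ cj g K :=
  Subgroup.map_sup H K _

theorem cj_inf (g : G) (H K : Subgroup G) : cj g (H ⊓ K) = cj g H ⊓ cj g K := by
  ext x
  simp only [mem_cj, Subgroup.mem_inf]

theorem card_cj (g : G) (H : Subgroup G) : Nat.card (cj g H) = Nat.card H :=
  Subgroup.card_map_of_injective (MulEquiv.injective _)

theorem cj_map {G' : Type*} [Group G'] (f : G →* G') (g : G) (H : Subgroup G) :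
    (cj g H).map f = cj (f g) (H.map f) := by
  ext x
  constructor
  · rintro ⟨_, ⟨h, hh, rfl⟩, rfl⟩
    refine ⟨f h, ⟨h, hh, rfl⟩, ?_⟩
    show f g * f h * (f g)⁻¹ = f (g * h * g⁻¹)
    rw [map_mul, map_mul, map_inv]
  · rintro ⟨_, ⟨h, hh, rfl⟩, rfl⟩
    refine ⟨g * h * g⁻¹, ⟨h, hh, rfl⟩, ?_⟩
    show f (g * h * g⁻¹) = f g * f h * (f g)⁻¹
    rw [map_mul, map_mul, map_inv]

theorem mem_normalizer_iff_cj (k : G) (H : Subgroup G) :
    k ∈ Subgroup.normalizer (H : Set G) ↔ cj k H = H := by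
  constructor
  · intro hk
    ext x
    rw [mem_cj]
    exact (Subgroup.mem_normalizer_iff''.mp hk x).symm
  · intro h
    rw [Subgroup.mem_normalizer_iff'']
    intro x
    rw [← mem_cj, h]

/-- Reduction: to conjugate `H` to `g H g⁻¹` inside the join, one may first move `g` by an
element `y` of the join. -/
theorem pron_red (H : Subgroup G) (g y : G) (hy : y ∈ H ⊔ cj g H)
    (h : ∃ w ∈ H ⊔ cj (y⁻¹ * g) H, cj (y⁻¹ * g) H = cj w H) :
    ∃ x ∈ H ⊔ cj g H, cj g H = cj x H := by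
  obtain ⟨w, hw, hwe⟩ := h
  have h1 : cj (y⁻¹ * g) H ≤ H ⊔ cj g H := by
    rw [cj_mul]
    intro x hx
    rw [mem_cj, inv_inv] at hx
    have e : x = y⁻¹ * (y * x * y⁻¹) * y := by group
    rw [e]
    exact Subgroup.mul_mem _ (Subgroup.mul_mem _ (Subgroup.inv_mem _ hy)
      (Subgroup.mem_sup_right hx)) hy
  refine ⟨y * w, Subgroup.mul_mem _ hy ((sup_le le_sup_left h1) hw), ?_⟩
  rw [cj_mul, ← hwe, ← cj_mul]
  congr 1
  group

theorem pron_conj (H : Subgroup G) (a : G) (h : Cfsg.IsPronormal (cj a H)) :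
    Cfsg.IsPronormal H := by
  intro g
  obtain ⟨x', hx', he⟩ := h (a * g * a⁻¹)
  have he' : cj (a * g * a⁻¹) (cj a H) = cj x' (cj a H) := he
  have hx'' : x' ∈ cj a H ⊔ cj (a * g * a⁻¹) (cj a H) := hx'
  have e1 : cj (a * g * a⁻¹) (cj a H) = cj a (cj g H) := by
    rw [← cj_mul, ← cj_mul]
    congr 1
    group
  rw [e1] at he' hx''
  rw [← cj_sup] at hx''
  refine ⟨a⁻¹ * x' * a, (mem_cj a x' _).mp hx'', ?_⟩
  show cj g H = cj (a⁻¹ * x' * a) H
  have e2 : cj (a⁻¹ * x' * a) H = cj a⁻¹ (cj x' (cj a H)) := by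
    rw [← cj_mul, ← cj_mul]
  rw [e2, ← he', cj_inv_cj]

theorem pron_map {G' : Type*} [Group G'] (f : G →* G') (hf : Function.Surjective f)
    (K : Subgroup G) (h : Cfsg.IsPronormal K) : Cfsg.IsPronormal (K.map f) := by
  intro g'
  obtain ⟨g, rfl⟩ := hf g'
  obtain ⟨x, hx, he⟩ := h g
  have he' : cj g K = cj x K := he
  have hx' : x ∈ K ⊔ cj g K := hx
  refine ⟨f x, ?_, ?_⟩
  · show f x ∈ K.map f ⊔ cj (f g) (K.map f)
    rw [← cj_map, ← Subgroup.map_sup]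
    exact ⟨x, hx', rfl⟩
  · show cj (f g) (K.map f) = cj (f x) (K.map f)
    rw [← cj_map, ← cj_map, he']

theorem pron_of_map {G' : Type*} [Group G'] (f : G →* G') (K : Subgroup G) (hker : f.ker ≤ K)
    (h : Cfsg.IsPronormal (K.map f)) : Cfsg.IsPronormal K := by
  intro g
  obtain ⟨x', hx', he⟩ := h (f g)
  have he' : cj (f g) (K.map f) = cj x' (K.map f) := he
  have hx'' : x' ∈ K.map f ⊔ cj (f g) (K.map f) := hx'
  rw [← cj_map, ← Subgroup.map_sup] at hx''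
  obtain ⟨x, hx, rfl⟩ := hx''
  rw [← cj_map, ← cj_map, Subgroup.map_eq_map_iff] at he'
  have hk : ∀ y : G, f.ker ≤ cj y K := by
    intro y k hk
    rw [mem_cj]
    apply hker
    rw [MonoidHom.mem_ker] at hk ⊢
    rw [map_mul, map_mul, hk, mul_one, map_inv, inv_mul_cancel]
  rw [sup_eq_left.mpr (hk g), sup_eq_left.mpr (hk x)] at he'
  exact ⟨x, hx, he'⟩

theorem cj_subgroupOf (N K : Subgroup G) (n : N) :
    cj n (K.subgroupOf N) = (cj (n : G) K).subgroupOf N := by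
  ext y
  rw [mem_cj, Subgroup.mem_subgroupOf, Subgroup.mem_subgroupOf, mem_cj]
  rfl

theorem cj_le_of_mem (N K : Subgroup G) (hKN : K ≤ N) (n : G) (hn : n ∈ N) : cj n K ≤ N := by
  intro y hy
  rw [mem_cj] at hy
  have e : y = n * (n⁻¹ * y * n) * n⁻¹ := by group
  rw [e]
  exact N.mul_mem (N.mul_mem hn (hKN hy)) (N.inv_mem hn)

theorem pron_subgroupOf (N K : Subgroup G) (hKN : K ≤ N) (h : Cfsg.IsPronormal K) :
    Cfsg.IsPronormal (K.subgroupOf N) := by
  intro n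
  obtain ⟨x, hx, he⟩ := h (n : G)
  have he' : cj (n : G) K = cj x K := he
  have hx' : x ∈ K ⊔ cj (n : G) K := hx
  have hcN : cj (n : G) K ≤ N := cj_le_of_mem N K hKN n n.2
  have hxN : x ∈ N := (sup_le hKN hcN) hx'
  refine ⟨⟨x, hxN⟩, ?_, ?_⟩
  · show (⟨x, hxN⟩ : N) ∈ K.subgroupOf N ⊔ cj n (K.subgroupOf N)
    rw [cj_subgroupOf, ← Subgroup.subgroupOf_sup hKN hcN, Subgroup.mem_subgroupOf]
    exact hx'
  · show cj n (K.subgroupOf N) = cj (⟨x, hxN⟩ : N) (K.subgroupOf N)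
    rw [cj_subgroupOf, cj_subgroupOf, he']

theorem pron_of_subgroupOf (N K : Subgroup G) (hKN : K ≤ N)
    (h : Cfsg.IsPronormal (K.subgroupOf N)) (g : G) (hg : g ∈ N) :
    ∃ y ∈ K ⊔ cj g K, cj g K = cj y K := by
  obtain ⟨y, hy, he⟩ := h ⟨g, hg⟩
  have he' : cj (⟨g, hg⟩ : N) (K.subgroupOf N) = cj y (K.subgroupOf N) := he
  have hy' : y ∈ K.subgroupOf N ⊔ cj (⟨g, hg⟩ : N) (K.subgroupOf N) := hy
  have hcg : cj g K ≤ N := cj_le_of_mem N K hKN g hg
  have hcy : cj (y : G) K ≤ N := cj_le_of_mem N K hKN y y.2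
  rw [cj_subgroupOf, ← Subgroup.subgroupOf_sup hKN hcg, Subgroup.mem_subgroupOf] at hy'
  rw [cj_subgroupOf, cj_subgroupOf] at he'
  refine ⟨y, hy', ?_⟩
  have h2 := congrArg (Subgroup.map N.subtype) he'
  rwa [Subgroup.map_subgroupOf_eq_of_le hcg, Subgroup.map_subgroupOf_eq_of_le hcy] at h2

theorem fact_mid [Finite G] (T R A : Subgroup G) (p : ℕ) [Fact p.Prime] (hTR : T ≤ R)
    (hRA : R ≤ A) (hT : Nat.card T = p ^ (Nat.card A).factorization p) :
    (Nat.card R).factorization p = (Nat.card A).factorization p := by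
  have hp : p.Prime := Fact.out
  apply le_antisymm
  · exact (Nat.factorization_le_iff_dvd Nat.card_pos.ne' Nat.card_pos.ne').mpr
      (Subgroup.card_dvd_of_le hRA) p
  · apply (Nat.Prime.pow_dvd_iff_le_factorization hp Nat.card_pos.ne').mp
    rw [← hT]
    exact Subgroup.card_dvd_of_le hTR

theorem eq_of_pgroup_between [Finite G] (T Q A : Subgroup G) (p : ℕ) [Fact p.Prime]
    (hTQ : T ≤ Q) (hQA : Q ≤ A) (hQ : IsPGroup p Q)
    (hT : Nat.card T = p ^ (Nat.card A).factorization p) : Q = T := by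
  have hp : p.Prime := Fact.out
  obtain ⟨k, hk⟩ := IsPGroup.iff_card.mp hQ
  have h1 : p ^ k ∣ Nat.card A := by
    rw [← hk]
    exact Subgroup.card_dvd_of_le hQA
  have h2 : k ≤ (Nat.card A).factorization p :=
    (Nat.Prime.pow_dvd_iff_le_factorization hp Nat.card_pos.ne').mp h1
  symm
  apply Subgroup.eq_of_le_of_card_ge hTQ
  rw [hk, hT]
  exact Nat.pow_le_pow_right hp.pos h2

/-- Sylow's theorem inside a subgroup `L ≤ A`. -/
theorem sylow_cj [Finite G] (L T₁ T₂ A : Subgroup G) (p : ℕ) [Fact p.Prime] (h1 : T₁ ≤ L)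
    (h2 : T₂ ≤ L) (hLA : L ≤ A) (hc1 : Nat.card T₁ = p ^ (Nat.card A).factorization p)
    (hc2 : Nat.card T₂ = p ^ (Nat.card A).factorization p) : ∃ u ∈ L, T₂ = cj u T₁ := by
  have hf := fact_mid T₁ L A p h1 hLA hc1
  exact conj_of_card_eq_pow L T₁ T₂ p h1 h2 (by rw [hf]; exact hc1) (by rw [hf]; exact hc2)

end Cfsg.Agent.Helper22
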