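import Mathlib
import Cfsg.Prelude
import Cfsg.Agent.Helper22.Pron1

set_option autoImplicit false

namespace Cfsg.Agent.Helper22

variable {G : Type*} [Group G] [Finite G] {p : ℕ} [Fact p.Prime]

theorem pron_card_T (A : Subgroup G) (T : Subgroup G) (P₀ : Sylow p ↥A)
    (hT : (P₀ : Subgroup ↥A).map A.subtype = T) :
    Nat.card T = p ^ (Nat.card A).factorization p := by
  rw [← hT, Subgroup.card_map_of_injective A.subtype_injective]
  exact P₀.card_eq_multiplicity

theorem pron_T_le (A : Subgroup G) (T : Subgroup G) (P₀ : Sylow p ↥A)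
    (hT : (P₀ : Subgroup ↥A).map A.subtype = T) : T ≤ A := by
  rw [← hT]
  rintro _ ⟨x, -, rfl⟩
  exact x.2

/-- A Sylow subgroup of `G` containing `T` normalizes `T`. -/
theorem sylow_le_normalizer (A : Subgroup G) [A.Normal] (T : Subgroup G) (hTA : T ≤ A)
    (hcT : Nat.card T = p ^ (Nat.card A).factorization p) (P₁ : Sylow p G)
    (hTP : T ≤ (P₁ : Subgroup G)) :
    (P₁ : Subgroup G) ≤ Subgroup.normalizer (T : Set G) := by
  intro s hs
  rw [mem_normalizer_iff_cj]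
  have h1 : cj s T ≤ (P₁ : Subgroup G) ⊓ A := by
    apply le_inf
    · have h0 := cj_mono s hTP
      rwa [cj_of_mem s _ hs] at h0
    · have h0 := cj_mono s hTA
      rwa [cj_normal s A] at h0
  have h2 : (P₁ : Subgroup G) ⊓ A = T :=
    eq_of_pgroup_between T _ A p (le_inf hTP hTA) inf_le_right
      (P₁.isPGroup'.to_le inf_le_left) hcT
  rw [h2] at h1
  exact Subgroup.eq_of_le_of_card_ge h1 (by rw [card_cj])

theorem pron_exists_sylow (A : Subgroup G) [A.Normal] (T : Subgroup G) (P₀ : Sylow p ↥A)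
    (hT : (P₀ : Subgroup ↥A).map A.subtype = T) :
    ∃ P₁ : Sylow p G, T ≤ (P₁ : Subgroup G) ∧
      (P₁ : Subgroup G) ≤ Subgroup.normalizer (T : Set G) := by
  have hTp : IsPGroup p T := by
    rw [← hT]
    exact P₀.isPGroup'.map _
  obtain ⟨P₁, hP₁⟩ := hTp.exists_le_sylow
  exact ⟨P₁, hP₁, sylow_le_normalizer A T (pron_T_le A T P₀ hT) (pron_card_T A T P₀ hT) P₁ hP₁⟩

theorem pron_step_R (A : Subgroup G) [A.Normal]
    (hA : ∀ K : Subgroup ↥A, (∃ P : Sylow p ↥A, (P : Subgroup ↥A) ≤ K) → Cfsg.IsPronormal K)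
    (T : Subgroup G) (P₀ : Sylow p ↥A) (hT : (P₀ : Subgroup ↥A).map A.subtype = T)
    (R : Subgroup G) (hRA : R ≤ A) (hTR : T ≤ R) (g : G) (hg : g ∈ A) :
    ∃ y ∈ R ⊔ cj g R, cj g R = cj y R ∧ cj g T = cj y T := by
  have hcT := pron_card_T A T P₀ hT
  have hpr : Cfsg.IsPronormal (R.subgroupOf A) := by
    apply hA
    refine ⟨P₀, ?_⟩
    intro x hx
    rw [Subgroup.mem_subgroupOf]
    apply hTR
    rw [← hT]
    exact ⟨x, hx, rfl⟩
  obtain ⟨y, hy, he⟩ := pron_of_subgroupOf A R hRA hpr g hg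
  have hgRA : cj g R ≤ A := cj_le_of_mem A R hRA g hg
  have h1 : cj g T ≤ cj g R := cj_mono g hTR
  have h2 : cj y T ≤ cj g R := by
    rw [he]
    exact cj_mono y hTR
  obtain ⟨u, hu, hue⟩ := sylow_cj (cj g R) (cj y T) (cj g T) A p h2 h1 hgRA
    (by rw [card_cj]; exact hcT) (by rw [card_cj]; exact hcT)
  refine ⟨u * y, Subgroup.mul_mem _ (Subgroup.mem_sup_right hu) hy, ?_, ?_⟩
  · rw [cj_mul, ← he, cj_of_mem u _ hu]
  · rw [cj_mul, ← hue]

theorem pron_frattini (A : Subgroup G) [A.Normal] (T H : Subgroup G) (hTH : T ≤ H)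
    (hTA : T ≤ A) (hcT : Nat.card T = p ^ (Nat.card A).factorization p) (h : G) (hh : h ∈ H) :
    ∃ r ∈ H ⊓ A, r⁻¹ * h ∈ H ⊓ Subgroup.normalizer (T : Set G) := by
  have hTR : T ≤ H ⊓ A := le_inf hTH hTA
  have h1 : cj h T ≤ H ⊓ A := by
    have h0 := cj_mono h hTR
    rwa [cj_inf, cj_of_mem h H hh, cj_normal h A] at h0
  obtain ⟨r, hr, hre⟩ := sylow_cj (H ⊓ A) T (cj h T) A p hTR h1 inf_le_right hcT
    (by rw [card_cj]; exact hcT)
  refine ⟨r, hr, H.mul_mem (H.inv_mem hr.1) hh, ?_⟩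
  show r⁻¹ * h ∈ Subgroup.normalizer (T : Set G)
  rw [mem_normalizer_iff_cj, cj_mul, hre, cj_inv_cj]

omit [Finite G] [Fact p.Prime] in
theorem cj_le_of_factor (H R H₀ : Subgroup G) (z y : G) (hR : R ≤ H) (hH₀ : H₀ ≤ H)
    (hfac : ∀ h ∈ H, ∃ r ∈ R, r⁻¹ * h ∈ H₀) (h1 : cj z R = cj y R) (h2 : cj z H₀ = cj y H₀) :
    cj z H ≤ cj y H := by
  rintro _ ⟨h, hh, rfl⟩
  obtain ⟨r, hr, hr'⟩ := hfac h hh
  have e : (MulAut.conj z).toMonoidHom h = (z * r * z⁻¹) * (z * (r⁻¹ * h) * z⁻¹) := by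
    show z * h * z⁻¹ = _
    group
  rw [e]
  apply Subgroup.mul_mem
  · have h3 : z * r * z⁻¹ ∈ cj z R := conj_mem_cj z r R hr
    rw [h1] at h3
    exact cj_mono y hR h3
  · have h3 : z * (r⁻¹ * h) * z⁻¹ ∈ cj z H₀ := conj_mem_cj z _ H₀ hr'
    rw [h2] at h3
    exact cj_mono y hH₀ h3

/-- The core: for `g ∈ A`, `H` and `g H g⁻¹` are conjugate in their join. -/
theorem pron_core (A : Subgroup G) [A.Normal]
    (hA : ∀ K : Subgroup ↥A, (∃ P : Sylow p ↥A, (P : Subgroup ↥A) ≤ K) → Cfsg.IsPronormal K)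
    (T : Subgroup G) (P₀ : Sylow p ↥A) (hT : (P₀ : Subgroup ↥A).map A.subtype = T)
    [(T.subgroupOf (Subgroup.normalizer (T : Set G))).Normal]
    (hN : ∀ K : Subgroup (↥(Subgroup.normalizer (T : Set G)) ⧸
        T.subgroupOf (Subgroup.normalizer (T : Set G))),
      (∃ P : Sylow p (↥(Subgroup.normalizer (T : Set G)) ⧸
        T.subgroupOf (Subgroup.normalizer (T : Set G))),
        (P : Subgroup (↥(Subgroup.normalizer (T : Set G)) ⧸
          T.subgroupOf (Subgroup.normalizer (T : Set G)))) ≤ K) → Cfsg.IsPronormal K)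
    (H : Subgroup G) (P₁ : Sylow p G) (hPH : (P₁ : Subgroup G) ≤ H)
    (hTP : T ≤ (P₁ : Subgroup G)) (g : G) (hg : g ∈ A) :
    ∃ x ∈ H ⊔ cj g H, cj g H = cj x H := by
  have hTA : T ≤ A := pron_T_le A T P₀ hT
  have hcT := pron_card_T A T P₀ hT
  have hTH : T ≤ H := hTP.trans hPH
  have hTR : T ≤ H ⊓ A := le_inf hTH hTA
  obtain ⟨y₁, hy₁, he₁, he₂⟩ := pron_step_R A hA T P₀ hT (H ⊓ A) inf_le_right hTR g hg
  have hsub : (H ⊓ A) ⊔ cj g (H ⊓ A) ≤ H ⊔ cj g H :=
    sup_le_sup inf_le_left (cj_mono g inf_le_left)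
  apply pron_red H g y₁ (hsub hy₁)
  have hzR : cj (y₁⁻¹ * g) (H ⊓ A) = H ⊓ A := by rw [cj_mul, he₁, cj_inv_cj]
  have hzT : cj (y₁⁻¹ * g) T = T := by rw [cj_mul, he₂, cj_inv_cj]
  generalize y₁⁻¹ * g = z at hzR hzT ⊢
  have hzN : z ∈ Subgroup.normalizer (T : Set G) := (mem_normalizer_iff_cj z T).mpr hzT
  have hP₁N : (P₁ : Subgroup G) ≤ Subgroup.normalizer (T : Set G) :=
    sylow_le_normalizer A T hTA hcT P₁ hTP
  have hH₀N : H ⊓ Subgroup.normalizer (T : Set G) ≤ Subgroup.normalizer (T : Set G) :=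
    inf_le_right
  have hpr : Cfsg.IsPronormal ((H ⊓ Subgroup.normalizer (T : Set G)).subgroupOf
      (Subgroup.normalizer (T : Set G))) := by
    apply pron_of_map (QuotientGroup.mk' (T.subgroupOf (Subgroup.normalizer (T : Set G))))
    · rw [QuotientGroup.ker_mk']
      intro x hx
      rw [Subgroup.mem_subgroupOf] at hx ⊢
      exact ⟨hTH hx, x.2⟩
    · apply hN
      refine ⟨(P₁.subtype hP₁N).mapSurjective (QuotientGroup.mk'_surjective _), ?_⟩
      rw [Sylow.coe_mapSurjective, Sylow.coe_subtype]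
      apply Subgroup.map_mono
      intro x hx
      rw [Subgroup.mem_subgroupOf] at hx ⊢
      exact ⟨hPH hx, x.2⟩
  obtain ⟨y, hy, he⟩ := pron_of_subgroupOf _ _ hH₀N hpr z hzN
  have hzinv : cj z⁻¹ (H ⊓ A) = H ⊓ A := by
    conv_lhs => rw [← hzR]
    exact cj_inv_cj z _
  have hyR : cj y (H ⊓ A) = H ⊓ A := by
    rw [← mem_normalizer_iff_cj]
    have hle : (H ⊓ Subgroup.normalizer (T : Set G)) ⊔
        cj z (H ⊓ Subgroup.normalizer (T : Set G)) ≤
        Subgroup.normalizer ((H ⊓ A : Subgroup G) : Set G) := by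
      apply sup_le
      · intro k hk
        rw [mem_normalizer_iff_cj, cj_inf, cj_of_mem k H hk.1, cj_normal k A]
      · intro k hk
        rw [mem_cj] at hk
        rw [mem_normalizer_iff_cj]
        have e : cj k (H ⊓ A) = cj z (cj (z⁻¹ * k * z) (cj z⁻¹ (H ⊓ A))) := by
          rw [← cj_mul, ← cj_mul]
          congr 1
          group
        have e2 : cj (z⁻¹ * k * z) (H ⊓ A) = H ⊓ A := by
          rw [cj_inf, cj_of_mem _ H hk.1, cj_normal _ A]
        rw [e, hzinv, e2, hzR]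
    exact hle hy
  have hfac : ∀ h ∈ H, ∃ r ∈ H ⊓ A, r⁻¹ * h ∈ H ⊓ Subgroup.normalizer (T : Set G) :=
    pron_frattini A T H hTH hTA hcT
  refine ⟨y, (sup_le_sup inf_le_left (cj_mono z inf_le_left)) hy, ?_⟩
  apply le_antisymm
  · exact cj_le_of_factor H _ _ z y inf_le_left inf_le_left hfac (by rw [hzR, hyR]) he
  · exact cj_le_of_factor H _ _ y z inf_le_left inf_le_left hfac (by rw [hzR, hyR]) he.symm

/-- Forward direction: if all overgroups of Sylow `p`-subgroups of `G` are pronormal, the same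
holds in `N_G(T)/T`. -/
theorem pron_forward (A : Subgroup G) [A.Normal] (T : Subgroup G) (P₀ : Sylow p ↥A)
    (hT : (P₀ : Subgroup ↥A).map A.subtype = T)
    [(T.subgroupOf (Subgroup.normalizer (T : Set G))).Normal]
    (hG : ∀ K : Subgroup G, (∃ P : Sylow p G, (P : Subgroup G) ≤ K) → Cfsg.IsPronormal K) :
    ∀ K : Subgroup (↥(Subgroup.normalizer (T : Set G)) ⧸
        T.subgroupOf (Subgroup.normalizer (T : Set G))),
      (∃ P : Sylow p (↥(Subgroup.normalizer (T : Set G)) ⧸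
        T.subgroupOf (Subgroup.normalizer (T : Set G))),
        (P : Subgroup (↥(Subgroup.normalizer (T : Set G)) ⧸
          T.subgroupOf (Subgroup.normalizer (T : Set G)))) ≤ K) → Cfsg.IsPronormal K := by
  rintro K ⟨Sbar, hSbar⟩
  obtain ⟨P₁, hTP, hP₁N⟩ := pron_exists_sylow A T P₀ hT
  obtain ⟨S', rfl⟩ := Sylow.mapSurjective_surjective
    (QuotientGroup.mk'_surjective (T.subgroupOf (Subgroup.normalizer (T : Set G)))) p Sbar
  rw [Sylow.coe_mapSurjective] at hSbar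
  have hS'K : (S' : Subgroup ↥(Subgroup.normalizer (T : Set G))) ≤
      K.comap (QuotientGroup.mk' (T.subgroupOf (Subgroup.normalizer (T : Set G)))) :=
    Subgroup.map_le_iff_le_comap.mp hSbar
  have hKG : Cfsg.IsPronormal
      ((K.comap (QuotientGroup.mk' (T.subgroupOf (Subgroup.normalizer (T : Set G))))).map
        (Subgroup.normalizer (T : Set G)).subtype) := by
    apply hG
    have hc : Nat.card ((S' : Subgroup ↥(Subgroup.normalizer (T : Set G))).map
        (Subgroup.normalizer (T : Set G)).subtype) = p ^ (Nat.card G).factorization p := by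
      rw [Subgroup.card_map_of_injective (Subgroup.subtype_injective _),
        S'.card_eq_multiplicity]
      congr 1
      exact fact_sup_eq (P₁ : Subgroup G) (Subgroup.normalizer (T : Set G)) p hP₁N
        P₁.card_eq_multiplicity
    refine ⟨Sylow.ofCard _ hc, ?_⟩
    rw [Sylow.coe_ofCard]
    exact Subgroup.map_mono hS'K
  have h1 := pron_subgroupOf (Subgroup.normalizer (T : Set G)) _
    (by rintro _ ⟨x, -, rfl⟩; exact x.2) hKG
  have h2 : ((K.comap (QuotientGroup.mk' (T.subgroupOf (Subgroup.normalizer (T : Set G))))).map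
      (Subgroup.normalizer (T : Set G)).subtype).subgroupOf (Subgroup.normalizer (T : Set G)) =
      K.comap (QuotientGroup.mk' (T.subgroupOf (Subgroup.normalizer (T : Set G)))) :=
    Subgroup.comap_map_eq_self_of_injective (Subgroup.subtype_injective _) _
  rw [h2] at h1
  have h3 := pron_map (QuotientGroup.mk' (T.subgroupOf (Subgroup.normalizer (T : Set G))))
    (QuotientGroup.mk'_surjective _) _ h1
  rwa [Subgroup.map_comap_eq_self_of_surjective (QuotientGroup.mk'_surjective _)] at h3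

/-- Backward direction when Sylow `p`-subgroups of `G/A` are self-normalizing. -/
theorem pron_backward_selfnorm (A : Subgroup G) [A.Normal]
    (hA : ∀ K : Subgroup ↥A, (∃ P : Sylow p ↥A, (P : Subgroup ↥A) ≤ K) → Cfsg.IsPronormal K)
    (hQ : ∀ P : Sylow p (G ⧸ A),
      Subgroup.normalizer ((P : Subgroup (G ⧸ A)) : Set (G ⧸ A)) = P)
    (T : Subgroup G) (P₀ : Sylow p ↥A) (hT : (P₀ : Subgroup ↥A).map A.subtype = T)
    [(T.subgroupOf (Subgroup.normalizer (T : Set G))).Normal]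
    (hN : ∀ K : Subgroup (↥(Subgroup.normalizer (T : Set G)) ⧸
        T.subgroupOf (Subgroup.normalizer (T : Set G))),
      (∃ P : Sylow p (↥(Subgroup.normalizer (T : Set G)) ⧸
        T.subgroupOf (Subgroup.normalizer (T : Set G))),
        (P : Subgroup (↥(Subgroup.normalizer (T : Set G)) ⧸
          T.subgroupOf (Subgroup.normalizer (T : Set G)))) ≤ K) → Cfsg.IsPronormal K) :
    ∀ K : Subgroup G, (∃ P : Sylow p G, (P : Subgroup G) ≤ K) → Cfsg.IsPronormal K := by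
  rintro K ⟨P, hPK⟩
  obtain ⟨P₁, hTP, hP₁N⟩ := pron_exists_sylow A T P₀ hT
  obtain ⟨a, ha⟩ := MulAction.exists_smul_eq G P P₁
  apply pron_conj K a
  have hPH : (P₁ : Subgroup G) ≤ cj a K := by
    rw [← ha]
    exact cj_mono a hPK
  intro g
  show ∃ x ∈ cj a K ⊔ cj g (cj a K), cj g (cj a K) = cj x (cj a K)
  generalize cj a K = H at hPH ⊢
  have hcP : Nat.card (P₁ : Subgroup G) = p ^ (Nat.card (⊤ : Subgroup G)).factorization p := by
    rw [Subgroup.card_top]
    exact P₁.card_eq_multiplicity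
  obtain ⟨y, hy, hye⟩ := sylow_cj (H ⊔ cj g H) (P₁ : Subgroup G) (cj g (P₁ : Subgroup G)) ⊤ p
    (hPH.trans le_sup_left) ((cj_mono g hPH).trans le_sup_right) le_top hcP
    (by rw [card_cj]; exact hcP)
  apply pron_red H g y hy
  have hzP : cj (y⁻¹ * g) (P₁ : Subgroup G) = P₁ := by rw [cj_mul, hye, cj_inv_cj]
  generalize y⁻¹ * g = z at hzP ⊢
  have hzN : z ∈ Subgroup.normalizer ((P₁ : Subgroup G) : Set G) :=
    (mem_normalizer_iff_cj z _).mpr hzP
  have h1 : QuotientGroup.mk' A z ∈ Subgroup.normalizer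
      (((P₁ : Subgroup G).map (QuotientGroup.mk' A) : Subgroup (G ⧸ A)) : Set (G ⧸ A)) :=
    Subgroup.le_normalizer_map _ ⟨z, hzN, rfl⟩
  have h2 := hQ (P₁.mapSurjective (QuotientGroup.mk'_surjective A))
  rw [Sylow.coe_mapSurjective] at h2
  rw [h2] at h1
  obtain ⟨s, hs, hsz⟩ := h1
  have hsA : s⁻¹ * z ∈ A := QuotientGroup.eq.mp hsz
  apply pron_red H z s (Subgroup.mem_sup_left (hPH hs))
  exact pron_core A hA T P₀ hT hN H P₁ hPH hTP _ hsA

/-- Backward direction when `G/A` has the property and normalizers map onto normalizers. -/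
theorem pron_backward_quot (A : Subgroup G) [A.Normal]
    (hA : ∀ K : Subgroup ↥A, (∃ P : Sylow p ↥A, (P : Subgroup ↥A) ≤ K) → Cfsg.IsPronormal K)
    (hQ : ∀ K : Subgroup (G ⧸ A),
      (∃ P : Sylow p (G ⧸ A), (P : Subgroup (G ⧸ A)) ≤ K) → Cfsg.IsPronormal K)
    (T : Subgroup G) (P₀ : Sylow p ↥A) (hT : (P₀ : Subgroup ↥A).map A.subtype = T)
    [(T.subgroupOf (Subgroup.normalizer (T : Set G))).Normal]
    (hN : ∀ K : Subgroup (↥(Subgroup.normalizer (T : Set G)) ⧸
        T.subgroupOf (Subgroup.normalizer (T : Set G))),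
      (∃ P : Sylow p (↥(Subgroup.normalizer (T : Set G)) ⧸
        T.subgroupOf (Subgroup.normalizer (T : Set G))),
        (P : Subgroup (↥(Subgroup.normalizer (T : Set G)) ⧸
          T.subgroupOf (Subgroup.normalizer (T : Set G)))) ≤ K) → Cfsg.IsPronormal K)
    (hNorm : ∀ K : Subgroup G, (∃ P : Sylow p G, (P : Subgroup G) ≤ K) →
      (Subgroup.normalizer (K : Set G)).map (QuotientGroup.mk' A) =
        Subgroup.normalizer ((K.map (QuotientGroup.mk' A) : Subgroup (G ⧸ A)) : Set (G ⧸ A))) :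
    ∀ K : Subgroup G, (∃ P : Sylow p G, (P : Subgroup G) ≤ K) → Cfsg.IsPronormal K := by
  rintro K ⟨P, hPK⟩
  obtain ⟨P₁, hTP, hP₁N⟩ := pron_exists_sylow A T P₀ hT
  obtain ⟨a, ha⟩ := MulAction.exists_smul_eq G P P₁
  apply pron_conj K a
  have hPH : (P₁ : Subgroup G) ≤ cj a K := by
    rw [← ha]
    exact cj_mono a hPK
  intro g
  show ∃ x ∈ cj a K ⊔ cj g (cj a K), cj g (cj a K) = cj x (cj a K)
  generalize cj a K = H at hPH ⊢
  have hHbar : Cfsg.IsPronormal (H.map (QuotientGroup.mk' A)) := by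
    apply hQ
    refine ⟨P₁.mapSurjective (QuotientGroup.mk'_surjective A), ?_⟩
    rw [Sylow.coe_mapSurjective]
    exact Subgroup.map_mono hPH
  obtain ⟨ybar, hybar, hybare⟩ := hHbar (QuotientGroup.mk' A g)
  have hybar' : ybar ∈ H.map (QuotientGroup.mk' A) ⊔
      cj (QuotientGroup.mk' A g) (H.map (QuotientGroup.mk' A)) := hybar
  have hybare' : cj (QuotientGroup.mk' A g) (H.map (QuotientGroup.mk' A)) =
      cj ybar (H.map (QuotientGroup.mk' A)) := hybare
  rw [← cj_map, ← Subgroup.map_sup] at hybar'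
  obtain ⟨y, hy, rfl⟩ := hybar'
  apply pron_red H g y hy
  have hz : QuotientGroup.mk' A (y⁻¹ * g) ∈ Subgroup.normalizer
      ((H.map (QuotientGroup.mk' A) : Subgroup (G ⧸ A)) : Set (G ⧸ A)) := by
    rw [mem_normalizer_iff_cj, map_mul, cj_mul, hybare', map_inv, cj_inv_cj]
  generalize y⁻¹ * g = z at hz ⊢
  rw [← hNorm H ⟨P₁, hPH⟩] at hz
  obtain ⟨n, hn, hnz⟩ := hz
  have haA : z * n⁻¹ ∈ A := by
    have h0 : (QuotientGroup.mk' A) (z * n⁻¹) = 1 := by
      rw [map_mul, map_inv, hnz, mul_inv_cancel]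
    exact (QuotientGroup.eq_one_iff _).mp h0
  have hcz : cj z H = cj (z * n⁻¹) H := by
    have h0 : cj n⁻¹ H = H := by
      have hn' := (mem_normalizer_iff_cj n H).mp hn
      conv_lhs => rw [← hn']
      exact cj_inv_cj n H
    rw [cj_mul, h0]
  rw [hcz]
  exact pron_core A hA T P₀ hT hN H P₁ hPH hTP _ haA

omit [Finite G] [Fact p.Prime] in
/-- For a pronormal subgroup, the image of the normalizer is the normalizer of the image. -/
theorem pron_norm_image (A : Subgroup G) [A.Normal] (K : Subgroup G)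
    (hK : Cfsg.IsPronormal K) :
    (Subgroup.normalizer (K : Set G)).map (QuotientGroup.mk' A) =
      Subgroup.normalizer ((K.map (QuotientGroup.mk' A) : Subgroup (G ⧸ A)) : Set (G ⧸ A)) := by
  apply le_antisymm (Subgroup.le_normalizer_map _)
  intro gbar hgbar
  obtain ⟨g, rfl⟩ := QuotientGroup.mk'_surjective A gbar
  rw [mem_normalizer_iff_cj, ← cj_map] at hgbar
  obtain ⟨x, hx, he⟩ := hK g
  have he' : cj g K = cj x K := he
  have hx' : x ∈ K ⊔ cj g K := hx
  have h1 : QuotientGroup.mk' A x ∈ K.map (QuotientGroup.mk' A) := by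
    have h0 : QuotientGroup.mk' A x ∈ (K ⊔ cj g K).map (QuotientGroup.mk' A) := ⟨x, hx', rfl⟩
    rwa [Subgroup.map_sup, hgbar, sup_idem] at h0
  obtain ⟨k, hk, hkx⟩ := h1
  refine ⟨k * (x⁻¹ * g), ?_, ?_⟩
  · apply Subgroup.mul_mem _ (Subgroup.le_normalizer hk)
    show x⁻¹ * g ∈ Subgroup.normalizer (K : Set G)
    rw [mem_normalizer_iff_cj, cj_mul, he', cj_inv_cj]
  · rw [map_mul, hkx, ← map_mul]
    congr 1
    group

end Cfsg.Agent.Helper22
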