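import Mathlib
import Cfsg.Prelude
import Cfsg.Agent.S0001
import Cfsg.Agent.S0016
import Cfsg.Agent.S0650

set_option autoImplicit false

namespace Cfsg.Agent.Helper22

/-- Adjoining an element `t` normalizing `H` with `t ^ p ∈ H` multiplies the order by at most
`p`. -/
theorem card_sup_zpowers_le {G : Type*} [Group G] [Finite G] (H : Subgroup G) (t : G) (p : ℕ)
    (hp : 0 < p) (ht : ∀ h ∈ H, t * h * t⁻¹ ∈ H) (htp : t ^ p ∈ H) :
    Nat.card (H ⊔ Subgroup.zpowers t : Subgroup G) ≤ p * Nat.card H := by
  obtain ⟨T, hTdef⟩ : ∃ T : Subgroup G, T = H ⊔ Subgroup.zpowers t := ⟨_, rfl⟩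
  rw [← hTdef]
  have hHT : H ≤ T := le_sup_left.trans (le_of_eq hTdef.symm)
  have htT : t ∈ T :=
    (le_of_eq hTdef.symm) ((le_sup_right : Subgroup.zpowers t ≤ H ⊔ Subgroup.zpowers t)
      (Subgroup.mem_zpowers t))
  have hnorm : T ≤ Subgroup.normalizer (H : Set G) := by
    refine (le_of_eq hTdef).trans (sup_le Subgroup.le_normalizer ?_)
    rw [Subgroup.zpowers_le]
    exact S0650.mem_normalizer_of_conj H t ht
  haveI hN : (H.subgroupOf T).Normal :=
    (Subgroup.normal_subgroupOf_iff_le_normalizer hHT).mpr hnorm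
  obtain ⟨t', ht'⟩ : ∃ t' : T, t' = ⟨t, htT⟩ := ⟨_, rfl⟩
  have hgen : ∀ g : T, (QuotientGroup.mk' (H.subgroupOf T) g) ∈
      Subgroup.zpowers (QuotientGroup.mk' (H.subgroupOf T) t') := by
    have hle : H ⊔ Subgroup.zpowers t ≤ ((Subgroup.zpowers
        (QuotientGroup.mk' (H.subgroupOf T) t')).comap
        (QuotientGroup.mk' (H.subgroupOf T))).map T.subtype := by
      apply sup_le
      · intro h hh
        refine ⟨⟨h, hHT hh⟩, ?_, rfl⟩
        rw [SetLike.mem_coe, Subgroup.mem_comap]
        have h1 : QuotientGroup.mk' (H.subgroupOf T) ⟨h, hHT hh⟩ = 1 :=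
          (QuotientGroup.eq_one_iff _).mpr (by rw [Subgroup.mem_subgroupOf]; exact hh)
        rw [h1]
        exact Subgroup.one_mem _
      · rw [Subgroup.zpowers_le]
        refine ⟨t', ?_, by rw [ht']; rfl⟩
        rw [SetLike.mem_coe, Subgroup.mem_comap]
        exact Subgroup.mem_zpowers _
    intro g
    obtain ⟨k, hk, hkg⟩ := hle ((le_of_eq hTdef) g.2)
    have h1 : k = g := Subtype.ext hkg
    rw [← h1]
    exact Subgroup.mem_comap.mp hk
  have h1 : Nat.card T = Nat.card (T ⧸ H.subgroupOf T) * Nat.card (H.subgroupOf T) :=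
    Subgroup.card_eq_card_quotient_mul_card_subgroup _
  have h2 : Nat.card (H.subgroupOf T) = Nat.card H := S0001.card_subgroupOf_of_le hHT
  have h3 : Nat.card (T ⧸ H.subgroupOf T) ≤ p := by
    have htop : (⊤ : Subgroup (T ⧸ H.subgroupOf T)) ≤
        Subgroup.zpowers (QuotientGroup.mk' (H.subgroupOf T) t') := by
      intro q _
      obtain ⟨g, rfl⟩ := QuotientGroup.mk'_surjective _ q
      exact hgen g
    have h4 := Subgroup.card_le_of_le htop
    rw [Subgroup.card_top, Nat.card_zpowers] at h4
    refine h4.trans (orderOf_le_of_pow_eq_one hp ?_)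
    rw [← map_pow]
    apply (QuotientGroup.eq_one_iff _).mpr
    rw [Subgroup.mem_subgroupOf, ht']
    exact htp
  rw [h1, h2]
  exact Nat.mul_le_mul_right _ h3

/-- In a generalized quaternion group of order at least 16 there are two subgroups of the
same order, one commutative and one not. -/
theorem quaternion_two_subgroups (m : ℕ) (hm : 4 ≤ m) (heven : 2 ∣ m) :
    ∃ A B : Subgroup (QuaternionGroup m), Nat.card A = Nat.card B ∧
      (∀ x ∈ A, ∀ y ∈ A, x * y = y * x) ∧ ¬ (∀ x ∈ B, ∀ y ∈ B, x * y = y * x) := by
  haveI : NeZero m := ⟨by omega⟩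
  have h2dvd : 2 ∣ 2 * m := dvd_mul_right 2 m
  obtain ⟨c, hcdef⟩ : ∃ c : ZMod (2 * m) →+* ZMod 2, c = ZMod.castHom h2dvd (ZMod 2) := ⟨_, rfl⟩
  have hcm : c (m : ZMod (2 * m)) = 0 := by
    rw [map_natCast]
    exact (ZMod.natCast_eq_zero_iff m 2).mpr heven
  have hz2 : ∀ x y : ZMod 2, y - x = x + y := by decide
  obtain ⟨φ, hφa, hφxa⟩ : ∃ φ : QuaternionGroup m →* Multiplicative (ZMod 2),
      (∀ i, φ (QuaternionGroup.a i) = Multiplicative.ofAdd (c i)) ∧
      (∀ i, φ (QuaternionGroup.xa i) = Multiplicative.ofAdd (c i)) := by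
    refine ⟨MonoidHom.mk'
      (fun g => match g with
        | QuaternionGroup.a i => Multiplicative.ofAdd (c i)
        | QuaternionGroup.xa i => Multiplicative.ofAdd (c i)) ?_, fun i => rfl, fun i => rfl⟩
    intro g h
    rcases g with i | i <;> rcases h with j | j
    · rw [QuaternionGroup.a_mul_a]
      show Multiplicative.ofAdd (c (i + j)) = Multiplicative.ofAdd (c i) * Multiplicative.ofAdd (c j)
      rw [map_add]
      rfl
    · rw [QuaternionGroup.a_mul_xa]
      show Multiplicative.ofAdd (c (j - i)) = Multiplicative.ofAdd (c i) * Multiplicative.ofAdd (c j)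
      rw [map_sub, hz2]
      rfl
    · rw [QuaternionGroup.xa_mul_a]
      show Multiplicative.ofAdd (c (i + j)) = Multiplicative.ofAdd (c i) * Multiplicative.ofAdd (c j)
      rw [map_add]
      rfl
    · rw [QuaternionGroup.xa_mul_xa]
      show Multiplicative.ofAdd (c ((m : ZMod (2 * m)) + j - i)) =
        Multiplicative.ofAdd (c i) * Multiplicative.ofAdd (c j)
      rw [map_sub, map_add, hcm, zero_add, hz2]
      rfl
  have hsurj : Function.Surjective φ := by
    intro y
    refine ⟨QuaternionGroup.a ((ZMod.val (Multiplicative.toAdd y) : ℕ) : ZMod (2 * m)), ?_⟩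
    rw [hφa, map_natCast, ZMod.natCast_zmod_val]
    rfl
  have hcardG : Nat.card (QuaternionGroup m) = 4 * m := by
    rw [Nat.card_eq_fintype_card, QuaternionGroup.card]
  have hidx : φ.ker.index = 2 := by
    rw [Subgroup.index_ker, MonoidHom.range_eq_top_of_surjective φ hsurj, Subgroup.card_top,
      Nat.card_eq_fintype_card, Fintype.card_multiplicative, ZMod.card]
  have hcardB : Nat.card φ.ker = 2 * m := by
    have h1 := Subgroup.card_mul_index φ.ker
    rw [hidx, hcardG] at h1
    omega
  refine ⟨Subgroup.zpowers (QuaternionGroup.a 1), φ.ker, ?_, ?_, ?_⟩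
  · rw [Nat.card_zpowers, QuaternionGroup.orderOf_a_one, hcardB]
  · intro x hx y hy
    obtain ⟨i, rfl⟩ := Subgroup.mem_zpowers_iff.mp hx
    obtain ⟨j, rfl⟩ := Subgroup.mem_zpowers_iff.mp hy
    exact zpow_mul_comm _ i j
  · intro hB
    have h1 : (QuaternionGroup.a 2 : QuaternionGroup m) ∈ φ.ker := by
      rw [MonoidHom.mem_ker, hφa]
      have h2 : c 2 = 0 := by
        have h3 : c ((2 : ℕ) : ZMod (2 * m)) = ((2 : ℕ) : ZMod 2) := map_natCast c 2
        rw [Nat.cast_ofNat] at h3
        rw [h3]
        decide
      rw [h2]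
      rfl
    have h2 : (QuaternionGroup.xa 0 : QuaternionGroup m) ∈ φ.ker := by
      rw [MonoidHom.mem_ker, hφxa, map_zero]
      rfl
    have h3 := hB _ h1 _ h2
    rw [QuaternionGroup.a_mul_xa, QuaternionGroup.xa_mul_a] at h3
    have h4 : (0 : ZMod (2 * m)) - 2 = 0 + 2 := QuaternionGroup.xa.inj h3
    have h5 : ((4 : ℕ) : ZMod (2 * m)) = 0 := by
      have h6 : (4 : ZMod (2 * m)) = (0 + 2) - (0 - 2) := by ring
      rw [Nat.cast_ofNat, h6, h4, sub_self]
    have h6 := (ZMod.natCast_eq_zero_iff 4 (2 * m)).mp h5
    have h7 := Nat.le_of_dvd (by norm_num) h6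
    omega

/-- A finite `p`-group in which subgroups of the same order are isomorphic is cyclic,
elementary abelian, quaternion of order 8, or non-abelian of order `p ^ 3` and exponent `p`. -/
theorem same_order_pgroup {Q : Type*} [Group Q] [Finite Q] (p : ℕ) [hpf : Fact p.Prime]
    (hQ : IsPGroup p Q)
    (hiso : ∀ A B : Subgroup Q, Nat.card A = Nat.card B → Nonempty (A ≃* B)) :
    IsCyclic Q ∨ ((∀ a b : Q, a * b = b * a) ∧ ∀ a : Q, a ^ p = 1) ∨
      (p = 2 ∧ Nonempty (Q ≃* QuaternionGroup 2)) ∨
      (p ≠ 2 ∧ ¬ (∀ a b : Q, a * b = b * a) ∧ Nat.card Q = p ^ 3 ∧ Monoid.exponent Q = p) := by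
  classical
  have hp := hpf.out
  have hcomm_tr : ∀ A B : Subgroup Q, Nat.card A = Nat.card B →
      (∀ x ∈ A, ∀ y ∈ A, x * y = y * x) → ∀ x ∈ B, ∀ y ∈ B, x * y = y * x := by
    intro A B hc hA x hx y hy
    obtain ⟨e⟩ := hiso B A hc.symm
    have h1 := hA _ (e ⟨x, hx⟩).2 _ (e ⟨y, hy⟩).2
    have h2 : e ⟨x, hx⟩ * e ⟨y, hy⟩ = e ⟨y, hy⟩ * e ⟨x, hx⟩ := Subtype.ext h1
    rw [← map_mul, ← map_mul] at h2
    exact congrArg Subtype.val (e.injective h2)
  by_cases huniq : ∀ H K : Subgroup Q, Nat.card H = p → Nat.card K = p → H = K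
  · rcases S0016.result p hQ huniq with h | ⟨hp2, n, ⟨e⟩⟩
    · exact Or.inl h
    · rcases Nat.lt_or_ge n 2 with hn | hn
      · have hn' : n = 0 ∨ n = 1 := by omega
        rcases hn' with rfl | rfl
        · left
          have e' : Q ≃* QuaternionGroup 1 := e
          haveI := QuaternionGroup.quaternionGroup_one_isCyclic
          exact isCyclic_of_surjective e'.symm e'.symm.surjective
        · right; right; left
          have e' : Q ≃* QuaternionGroup 2 := e
          exact ⟨hp2, ⟨e'⟩⟩
      · exfalso
        have h4 : 4 ≤ 2 ^ n := by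
          calc 4 = 2 ^ 2 := by norm_num
            _ ≤ 2 ^ n := Nat.pow_le_pow_right (by norm_num) hn
        obtain ⟨A, B, hcard, hA, hB⟩ :=
          quaternion_two_subgroups (2 ^ n) h4 (dvd_pow_self 2 (by omega))
        apply hB
        have hc' : Nat.card (A.map e.symm.toMonoidHom) = Nat.card (B.map e.symm.toMonoidHom) := by
          rw [Subgroup.card_map_of_injective e.symm.injective,
            Subgroup.card_map_of_injective e.symm.injective, hcard]
        have hA' : ∀ x ∈ A.map e.symm.toMonoidHom, ∀ y ∈ A.map e.symm.toMonoidHom,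
            x * y = y * x := by
          rintro _ ⟨a, ha, rfl⟩ _ ⟨b, hb, rfl⟩
          rw [← map_mul, ← map_mul, hA a ha b hb]
        intro x hx y hy
        have h1 := hcomm_tr _ _ hc' hA' _ (Subgroup.mem_map_of_mem e.symm.toMonoidHom hx) _
          (Subgroup.mem_map_of_mem e.symm.toMonoidHom hy)
        rw [← map_mul, ← map_mul] at h1
        exact e.symm.injective h1
  · push Not at huniq
    obtain ⟨H₁, H₂, hH₁, hH₂, hne⟩ := huniq
    right
    haveI : Nontrivial Q := by
      have h1 : 1 < Nat.card Q :=
        lt_of_lt_of_le (hH₁ ▸ hp.one_lt) (Subgroup.card_le_card_group H₁)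
      exact Finite.one_lt_card_iff_nontrivial.mp h1
    haveI := hQ.center_nontrivial
    obtain ⟨kz, hkz⟩ := IsPGroup.iff_card.mp (hQ.to_subgroup (Subgroup.center Q))
    have hkz0 : kz ≠ 0 := by
      rintro rfl
      rw [pow_zero] at hkz
      exact (Finite.one_lt_card (α := Subgroup.center Q)).ne' hkz
    obtain ⟨zc, hzc⟩ := exists_prime_orderOf_dvd_card' (G := Subgroup.center Q) p
      (hkz ▸ dvd_pow_self p hkz0)
    obtain ⟨z, hzdef⟩ : ∃ z : Q, z = (zc : Q) := ⟨_, rfl⟩
    have hzo : orderOf z = p := by
      rw [hzdef, Subgroup.orderOf_coe]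
      exact hzc
    have hzcent : ∀ g : Q, g * z = z * g := fun g => hzdef ▸ Subgroup.mem_center_iff.mp zc.2 g
    have hcz : Nat.card (Subgroup.zpowers z) = p := by rw [Nat.card_zpowers, hzo]
    obtain ⟨u, hup, huz⟩ : ∃ u : Q, u ^ p = 1 ∧ u ∉ Subgroup.zpowers z := by
      have key : ∀ H : Subgroup Q, Nat.card H = p → H ≠ Subgroup.zpowers z →
          ∃ u : Q, u ^ p = 1 ∧ u ∉ Subgroup.zpowers z := by
        intro H hH hHne
        by_contra hcon
        push Not at hcon
        apply hHne
        apply Subgroup.eq_of_le_of_card_ge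
        · intro u hu
          apply hcon u
          have h1 := orderOf_dvd_natCard (⟨u, hu⟩ : H)
          rw [hH] at h1
          have h2 : (⟨u, hu⟩ : H) ^ p = 1 := orderOf_dvd_iff_pow_eq_one.mp h1
          exact congrArg Subtype.val h2
        · rw [hcz, hH]
      by_cases h1 : H₁ = Subgroup.zpowers z
      · exact key H₂ hH₂ (fun h2 => hne (h1.trans h2.symm))
      · exact key H₁ hH₁ h1
    haveI hzn : (Subgroup.zpowers z).Normal := by
      constructor
      intro n hn g
      obtain ⟨k, rfl⟩ := Subgroup.mem_zpowers_iff.mp hn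
      have hc : Commute g z := hzcent g
      rw [(hc.zpow_right k).eq, mul_inv_cancel_right]
      exact hn
    obtain ⟨E, hEdef⟩ : ∃ E : Subgroup Q, E = Subgroup.zpowers z ⊔ Subgroup.zpowers u :=
      ⟨_, rfl⟩
    have hEexp : ∀ e ∈ E, e ^ p = 1 := by
      intro e he
      rw [hEdef] at he
      obtain ⟨a, ha, b, hb, rfl⟩ := Subgroup.mem_sup_of_normal_left.mp he
      obtain ⟨i, rfl⟩ := Subgroup.mem_zpowers_iff.mp ha
      obtain ⟨j, rfl⟩ := Subgroup.mem_zpowers_iff.mp hb
      have hc : Commute (z ^ i) (u ^ j) :=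
        Commute.zpow_left (Commute.zpow_right (hzcent u).symm j) i
      rw [hc.mul_pow, ← zpow_natCast, ← zpow_mul, mul_comm, zpow_mul, zpow_natCast,
        ← zpow_natCast (u ^ j), ← zpow_mul, mul_comm j, zpow_mul, zpow_natCast, ← hzo,
        pow_orderOf_eq_one, hzo, hup, one_zpow, one_zpow, one_mul]
    have hEcard : p ^ 2 ≤ Nat.card E := by
      obtain ⟨k, hk⟩ := IsPGroup.iff_card.mp (hQ.to_subgroup E)
      have hlt : Subgroup.zpowers z < E := by
        refine lt_of_le_of_ne (hEdef ▸ le_sup_left) ?_
        intro h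
        apply huz
        rw [h, hEdef]
        exact (le_sup_right : Subgroup.zpowers u ≤ Subgroup.zpowers z ⊔ Subgroup.zpowers u)
          (Subgroup.mem_zpowers u)
      have h1 := S0001.card_lt_of_lt hlt
      rw [hcz, hk] at h1
      rw [hk]
      have h2 : 1 < k := by
        by_contra hk1
        have h3 : p ^ k ≤ p ^ 1 := Nat.pow_le_pow_right hp.pos (by omega)
        rw [pow_one] at h3
        omega
      exact Nat.pow_le_pow_right hp.pos h2
    obtain ⟨E₂, hE₂E, hE₂c⟩ :=
      Sylow.exists_subgroup_le_card_pow_prime_of_le_card hp hQ hEcard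
    have hexp : ∀ x : Q, x ^ p = 1 := by
      intro x
      by_contra hx
      obtain ⟨k, hk⟩ := (IsPGroup.iff_orderOf.mp hQ) x
      have hk2 : 2 ≤ k := by
        by_contra hlt
        apply hx
        have h1 : orderOf x ∣ p := by
          rw [hk]
          exact (pow_dvd_pow p (show k ≤ 1 by omega)).trans (by rw [pow_one])
        exact orderOf_dvd_iff_pow_eq_one.mp h1
      obtain ⟨y, hydef⟩ : ∃ y, y = x ^ (p ^ (k - 2)) := ⟨_, rfl⟩
      have hyo : orderOf y = p ^ 2 := by
        rw [hydef, orderOf_pow_of_dvd (pow_pos hp.pos _).ne'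
          (by rw [hk]; exact pow_dvd_pow p (by omega)), hk, Nat.pow_div (by omega) hp.pos]
        congr 1
        omega
      have hcy : Nat.card (Subgroup.zpowers y) = p ^ 2 := by rw [Nat.card_zpowers, hyo]
      obtain ⟨e⟩ := hiso (Subgroup.zpowers y) E₂ (hcy.trans hE₂c.symm)
      have h1 := hEexp _ (hE₂E (e ⟨y, Subgroup.mem_zpowers y⟩).2)
      have h2 : (e ⟨y, Subgroup.mem_zpowers y⟩) ^ p = 1 := Subtype.ext h1
      rw [← map_pow] at h2
      have h3 := e.injective (h2.trans (map_one e).symm)
      have h4 : y ^ p = 1 := congrArg Subtype.val h3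
      have h5 : p ^ 2 ∣ p := hyo ▸ orderOf_dvd_of_pow_eq_one h4
      have h6 := Nat.le_of_dvd hp.pos h5
      nlinarith [hp.two_le]
    by_cases hcomm : ∀ a b : Q, a * b = b * a
    · exact Or.inl ⟨hcomm, hexp⟩
    right; right
    have hp2 : p ≠ 2 := by
      intro hp2
      apply hcomm
      intro a b
      have h1 := hexp (a * b)
      have h2 := hexp a
      have h3 := hexp b
      rw [hp2, sq] at h1 h2 h3
      have ha : a⁻¹ = a := inv_eq_of_mul_eq_one_left h2
      have hb : b⁻¹ = b := inv_eq_of_mul_eq_one_left h3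
      calc a * b = (a * b)⁻¹ := (inv_eq_of_mul_eq_one_left h1).symm
        _ = b⁻¹ * a⁻¹ := mul_inv_rev a b
        _ = b * a := by rw [ha, hb]
    refine ⟨hp2, hcomm, ?_, ?_⟩
    · obtain ⟨n, hn⟩ := IsPGroup.iff_card.mp hQ
      have hn3 : 3 ≤ n := by
        by_contra hlt
        apply hcomm
        have h012 : n = 0 ∨ n = 1 ∨ n = 2 := by omega
        rcases h012 with rfl | rfl | rfl
        · haveI : Subsingleton Q :=
            (Nat.card_eq_one_iff_unique.mp (by rw [hn, pow_zero])).1
          intro a b
          rw [Subsingleton.elim a 1, Subsingleton.elim b 1]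
        · rw [pow_one] at hn
          haveI := isCyclic_of_prime_card hn
          intro a b
          exact (IsCyclic.commGroup (α := Q)).mul_comm a b
        · exact (IsPGroup.isMulCommutative_of_card_eq_prime_sq hn).is_comm.comm
      by_contra hne3
      have hn4 : 4 ≤ n := by
        rcases Nat.lt_or_ge n 4 with h | h
        · exfalso
          apply hne3
          rw [hn]
          congr 1
          omega
        · exact h
      obtain ⟨x, hxZ, hxc⟩ : ∃ x : Q, x ∉ Subgroup.center Q ∧
          ∀ g : Q, x * g * x⁻¹ * g⁻¹ ∈ Subgroup.center Q := by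
        haveI : Nontrivial (Q ⧸ Subgroup.center Q) := by
          by_contra hnt
          rw [not_nontrivial_iff_subsingleton] at hnt
          apply hcomm
          intro a b
          have h1 : a ∈ Subgroup.center Q :=
            (QuotientGroup.eq_one_iff a).mp (Subsingleton.elim _ _)
          exact (Subgroup.mem_center_iff.mp h1 b).symm
        haveI := (hQ.to_quotient (Subgroup.center Q)).center_nontrivial
        obtain ⟨⟨q, hq⟩, hq1⟩ := exists_ne (1 : Subgroup.center (Q ⧸ Subgroup.center Q))
        obtain ⟨x, rfl⟩ := QuotientGroup.mk'_surjective (Subgroup.center Q) q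
        refine ⟨x, ?_, ?_⟩
        · intro hx
          apply hq1
          apply Subtype.ext
          exact (QuotientGroup.eq_one_iff x).mpr hx
        · intro g
          rw [← QuotientGroup.eq_one_iff]
          have h1 := Subgroup.mem_center_iff.mp hq (QuotientGroup.mk' (Subgroup.center Q) g)
          show (QuotientGroup.mk' (Subgroup.center Q)) (x * g * x⁻¹ * g⁻¹) = 1
          rw [map_mul, map_mul, map_mul, map_inv, map_inv, ← h1, mul_inv_cancel_right,
            mul_inv_cancel]
      obtain ⟨y, hxy⟩ : ∃ y : Q, x * y ≠ y * x := by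
        by_contra hcon
        push Not at hcon
        exact hxZ (Subgroup.mem_center_iff.mpr (fun g => (hcon g).symm))
      obtain ⟨c, hcdef⟩ : ∃ c : Q, c = x * y * x⁻¹ * y⁻¹ := ⟨_, rfl⟩
      have hcZ : c ∈ Subgroup.center Q := hcdef ▸ hxc y
      have hccent : ∀ g : Q, g * c = c * g := fun g => Subgroup.mem_center_iff.mp hcZ g
      have hS : ∃ S : Subgroup Q, Nat.card S ≤ p ^ 3 ∧ x ∈ S ∧ y ∈ S := by
        obtain ⟨N, hNdef⟩ : ∃ N : Subgroup Q, N = Subgroup.zpowers c ⊔ Subgroup.zpowers x :=
          ⟨_, rfl⟩
        have hcN : c ∈ N :=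
          hNdef ▸ (le_sup_left : Subgroup.zpowers c ≤ Subgroup.zpowers c ⊔ Subgroup.zpowers x)
            (Subgroup.mem_zpowers c)
        have hxN : x ∈ N :=
          hNdef ▸ (le_sup_right : Subgroup.zpowers x ≤ Subgroup.zpowers c ⊔ Subgroup.zpowers x)
            (Subgroup.mem_zpowers x)
        have hN1 : Nat.card N ≤ p * p := by
          rw [hNdef]
          refine (card_sup_zpowers_le (Subgroup.zpowers c) x p hp.pos ?_
            (by rw [hexp]; exact Subgroup.one_mem _)).trans ?_
          · intro h hh
            obtain ⟨k, rfl⟩ := Subgroup.mem_zpowers_iff.mp hh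
            have hc : Commute x c := hccent x
            rw [(hc.zpow_right k).eq, mul_inv_cancel_right]
            exact hh
          · apply Nat.mul_le_mul_left
            rw [Nat.card_zpowers]
            exact orderOf_le_of_pow_eq_one hp.pos (hexp c)
        have hyN : ∀ h ∈ N, y * h * y⁻¹ ∈ N := by
          intro h hh
          have hmap : N.map (MulAut.conj y).toMonoidHom ≤ N := by
            have h1 : N.map (MulAut.conj y).toMonoidHom =
                Subgroup.zpowers ((MulAut.conj y).toMonoidHom c) ⊔
                  Subgroup.zpowers ((MulAut.conj y).toMonoidHom x) := by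
              rw [hNdef, Subgroup.map_sup, MonoidHom.map_zpowers, MonoidHom.map_zpowers]
            rw [h1]
            apply sup_le
            · rw [Subgroup.zpowers_le]
              have h2 : (MulAut.conj y).toMonoidHom c = c := by
                simp only [MulEquiv.coe_toMonoidHom, MulAut.conj_apply]
                rw [hccent y, mul_inv_cancel_right]
              rw [h2]
              exact hcN
            · rw [Subgroup.zpowers_le]
              have h2 : (MulAut.conj y).toMonoidHom x = c⁻¹ * x := by
                simp only [MulEquiv.coe_toMonoidHom, MulAut.conj_apply]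
                rw [hcdef]
                group
              rw [h2]
              exact N.mul_mem (N.inv_mem hcN) hxN
          exact hmap ⟨h, hh, rfl⟩
        refine ⟨N ⊔ Subgroup.zpowers y, ?_, ?_, ?_⟩
        · refine (card_sup_zpowers_le N y p hp.pos hyN
            (by rw [hexp]; exact Subgroup.one_mem _)).trans ?_
          calc p * Nat.card N ≤ p * (p * p) := Nat.mul_le_mul_left _ hN1
            _ = p ^ 3 := by ring
        · exact (le_sup_left : N ≤ N ⊔ Subgroup.zpowers y) hxN
        · exact (le_sup_right : Subgroup.zpowers y ≤ N ⊔ Subgroup.zpowers y)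
            (Subgroup.mem_zpowers y)
      obtain ⟨S, hScard, hxS, hyS⟩ := hS
      obtain ⟨s, hs⟩ := IsPGroup.iff_card.mp (hQ.to_subgroup S)
      have hs3 : s ≤ 3 := by
        rw [hs] at hScard
        exact (Nat.pow_le_pow_iff_right hp.one_lt).mp hScard
      obtain ⟨S', hS'card, hSS'⟩ := Sylow.exists_subgroup_card_pow_prime_le p
        (by rw [hn]; exact pow_dvd_pow p (by omega)) S hs hs3
      have hA : ∃ A : Subgroup Q, p ^ 3 ≤ Nat.card A ∧ ∀ a ∈ A, ∀ b ∈ A, a * b = b * a := by
        obtain ⟨k, hk⟩ := IsPGroup.iff_card.mp (hQ.to_subgroup (Subgroup.center Q))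
        have hZcomm : ∀ a ∈ Subgroup.center Q, ∀ b : Q, a * b = b * a :=
          fun a ha b => (Subgroup.mem_center_iff.mp ha b).symm
        have hsupcomm : ∀ (H : Subgroup Q) (t : Q), (∀ a ∈ H, ∀ b ∈ H, a * b = b * a) →
            (∀ a ∈ H, a * t = t * a) →
            ∀ a ∈ H ⊔ Subgroup.zpowers t, ∀ b ∈ H ⊔ Subgroup.zpowers t, a * b = b * a := by
          intro H t hH ht
          have h1 : H ⊔ Subgroup.zpowers t ≤ Subgroup.centralizer ((H : Set Q) ∪ {t}) := by
            apply sup_le
            · intro a ha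
              rw [Subgroup.mem_centralizer_iff]
              rintro b (hb | hb)
              · exact hH b hb a ha
              · rw [Set.mem_singleton_iff] at hb
                subst hb
                exact (ht a ha).symm
            · rw [Subgroup.zpowers_le, Subgroup.mem_centralizer_iff]
              rintro b (hb | hb)
              · exact ht b hb
              · rw [Set.mem_singleton_iff] at hb
                subst hb
                rfl
          have h2 : H ⊔ Subgroup.zpowers t ≤
              Subgroup.centralizer ((H ⊔ Subgroup.zpowers t : Subgroup Q) : Set Q) := by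
            apply sup_le
            · intro a ha
              rw [Subgroup.mem_centralizer_iff]
              intro b hb
              exact (Subgroup.mem_centralizer_iff.mp (h1 hb) a (Or.inl ha)).symm
            · rw [Subgroup.zpowers_le, Subgroup.mem_centralizer_iff]
              intro b hb
              exact (Subgroup.mem_centralizer_iff.mp (h1 hb) t (Or.inr rfl)).symm
          intro a ha b hb
          exact Subgroup.mem_centralizer_iff.mp (h2 hb) a ha
        have hgrow : ∀ (H : Subgroup Q) (t : Q) (j : ℕ), Nat.card H = p ^ j → t ∉ H →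
            p ^ (j + 1) ≤ Nat.card (H ⊔ Subgroup.zpowers t : Subgroup Q) := by
          intro H t j hj ht
          obtain ⟨j', hj'⟩ := IsPGroup.iff_card.mp (hQ.to_subgroup (H ⊔ Subgroup.zpowers t))
          have hlt : H < H ⊔ Subgroup.zpowers t := by
            refine lt_of_le_of_ne le_sup_left ?_
            intro h
            apply ht
            rw [h]
            exact (le_sup_right : Subgroup.zpowers t ≤ H ⊔ Subgroup.zpowers t)
              (Subgroup.mem_zpowers t)
          have h1 := S0001.card_lt_of_lt hlt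
          rw [hj, hj'] at h1
          rw [hj']
          exact Nat.pow_le_pow_right hp.pos ((Nat.pow_lt_pow_iff_right hp.one_lt).mp h1)
        by_cases hk3 : 3 ≤ k
        · exact ⟨Subgroup.center Q, by rw [hk]; exact Nat.pow_le_pow_right hp.pos hk3,
            fun a ha b _ => hZcomm a ha b⟩
        by_cases hk2 : k = 2
        · refine ⟨Subgroup.center Q ⊔ Subgroup.zpowers x, ?_,
            hsupcomm _ x (fun a ha b _ => hZcomm a ha b) (fun a ha => hZcomm a ha x)⟩
          have h1 := hgrow _ x k hk hxZ
          rw [hk2] at h1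
          exact h1
        have hk1 : k = 1 := by
          have h0 : k ≠ 0 := by
            rintro rfl
            rw [pow_zero] at hk
            exact (Finite.one_lt_card (α := Subgroup.center Q)).ne' hk
          omega
        obtain ⟨N₀, hN₀def⟩ : ∃ N₀ : Subgroup Q, N₀ = Subgroup.center Q ⊔ Subgroup.zpowers x :=
          ⟨_, rfl⟩
        have hN₀comm : ∀ a ∈ N₀, ∀ b ∈ N₀, a * b = b * a :=
          hN₀def ▸ hsupcomm _ x (fun a ha b _ => hZcomm a ha b) (fun a ha => hZcomm a ha x)
        have hN₀le : Nat.card N₀ ≤ p ^ 2 := by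
          rw [hN₀def]
          refine (card_sup_zpowers_le _ x p hp.pos ?_
            (by rw [hexp]; exact Subgroup.one_mem _)).trans ?_
          · intro h hh
            exact (inferInstance : (Subgroup.center Q).Normal).conj_mem h hh x
          · rw [hk, hk1]
            exact le_of_eq (by ring)
        have hN₀ge : p ^ 2 ≤ Nat.card N₀ := by
          have h1 := hgrow _ x k hk hxZ
          rw [hk1] at h1
          rw [hN₀def]
          exact h1
        have hN₀card : Nat.card N₀ = p ^ 2 := le_antisymm hN₀le hN₀ge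
        have hCcard : p ^ 3 ≤ Nat.card (Subgroup.centralizer ({x} : Set Q)) := by
          let ψ : Q →* Subgroup.center Q :=
            MonoidHom.mk' (fun g => ⟨x * g * x⁻¹ * g⁻¹, hxc g⟩) (by
              intro g h
              apply Subtype.ext
              show x * (g * h) * x⁻¹ * (g * h)⁻¹ = (x * g * x⁻¹ * g⁻¹) * (x * h * x⁻¹ * h⁻¹)
              have hcen : g⁻¹ * (x * h * x⁻¹ * h⁻¹) = (x * h * x⁻¹ * h⁻¹) * g⁻¹ :=
                Subgroup.mem_center_iff.mp (hxc h) g⁻¹
              calc x * (g * h) * x⁻¹ * (g * h)⁻¹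
                  = (x * g * x⁻¹) * ((x * h * x⁻¹ * h⁻¹) * g⁻¹) := by group
                _ = (x * g * x⁻¹) * (g⁻¹ * (x * h * x⁻¹ * h⁻¹)) := by rw [hcen]
                _ = (x * g * x⁻¹ * g⁻¹) * (x * h * x⁻¹ * h⁻¹) := by group)
          have hker : ψ.ker ≤ Subgroup.centralizer ({x} : Set Q) := by
            intro g hg
            rw [MonoidHom.mem_ker] at hg
            have h1 : x * g * x⁻¹ * g⁻¹ = 1 := congrArg Subtype.val hg
            rw [Subgroup.mem_centralizer_iff]
            intro w hw
            rw [Set.mem_singleton_iff] at hw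
            subst hw
            calc w * g = (w * g * w⁻¹ * g⁻¹) * (g * w) := by group
              _ = g * w := by rw [h1, one_mul]
          have h1 : Nat.card Q = Nat.card ψ.ker * Nat.card ψ.range := by
            rw [← Subgroup.index_ker, Subgroup.card_mul_index]
          have h2 : Nat.card ψ.range ≤ p := by
            have h3 := Subgroup.card_le_card_group ψ.range
            rw [hk, hk1, pow_one] at h3
            exact h3
          have h3 : Nat.card ψ.ker ≤ Nat.card (Subgroup.centralizer ({x} : Set Q)) :=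
            Subgroup.card_le_of_le hker
          have h4 : p ^ n ≤ Nat.card (Subgroup.centralizer ({x} : Set Q)) * p := by
            rw [← hn, h1]
            exact Nat.mul_le_mul h3 h2
          have h5 : p ^ 4 ≤ p ^ n := Nat.pow_le_pow_right hp.pos hn4
          have h6 : p ^ 4 = p ^ 3 * p := by ring
          rw [h6] at h5
          exact Nat.le_of_mul_le_mul_right (h5.trans h4) hp.pos
        obtain ⟨y₀, hy₀C, hy₀N⟩ : ∃ y₀ ∈ Subgroup.centralizer ({x} : Set Q), y₀ ∉ N₀ := by
          by_contra hcon
          push Not at hcon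
          have h1 := Subgroup.card_le_of_le
            (show Subgroup.centralizer ({x} : Set Q) ≤ N₀ from hcon)
          have h2 : p ^ 3 ≤ p ^ 2 := hCcard.trans (h1.trans hN₀le)
          exact absurd ((Nat.pow_le_pow_iff_right hp.one_lt).mp h2) (by omega)
        refine ⟨N₀ ⊔ Subgroup.zpowers y₀, hgrow N₀ y₀ 2 hN₀card hy₀N,
          hsupcomm N₀ y₀ hN₀comm ?_⟩
        have hle : N₀ ≤ Subgroup.centralizer ({y₀} : Set Q) := by
          rw [hN₀def]
          apply sup_le
          · intro a ha
            rw [Subgroup.mem_centralizer_iff]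
            intro w hw
            rw [Set.mem_singleton_iff] at hw
            subst hw
            exact (hZcomm a ha w).symm
          · rw [Subgroup.zpowers_le, Subgroup.mem_centralizer_iff]
            intro w hw
            rw [Set.mem_singleton_iff] at hw
            subst hw
            exact (Subgroup.mem_centralizer_iff.mp hy₀C x (Set.mem_singleton x)).symm
        intro a ha
        exact (Subgroup.mem_centralizer_iff.mp (hle ha) y₀ (Set.mem_singleton y₀)).symm
      obtain ⟨A, hAcard, hAcomm⟩ := hA
      obtain ⟨A', hA'A, hA'card⟩ :=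
        Sylow.exists_subgroup_le_card_pow_prime_of_le_card hp hQ hAcard
      exact hxy (hcomm_tr A' S' (hA'card.trans hS'card.symm)
        (fun a ha b hb => hAcomm a (hA'A ha) b (hA'A hb)) x (hSS' hxS) y (hSS' hyS))
    · have h1 : Monoid.exponent Q ∣ p := Monoid.exponent_dvd_of_forall_pow_eq_one hexp
      rcases (Nat.dvd_prime hp).mp h1 with h | h
      · exfalso
        apply hcomm
        have hone : ∀ a : Q, a = 1 := by
          intro a
          have h2 := Monoid.pow_exponent_eq_one a
          rw [h, pow_one] at h2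
          exact h2
        intro a b
        rw [hone a, hone b]
      · exact h

/-- Conjugate `p`-subgroups: subgroups of a Sylow subgroup of the same order are isomorphic. -/
theorem same_order_sylow {G : Type*} [Group G] [Finite G] {p : ℕ} [Fact p.Prime]
    (hC : ∀ H K : Subgroup G, IsPGroup p H → IsPGroup p K → Nat.card H = Nat.card K →
      ∃ g : G, K = H.map (MulAut.conj g).toMonoidHom) (P : Sylow p G) :
    ∀ A B : Subgroup (P : Subgroup G), Nat.card A = Nat.card B → Nonempty (A ≃* B) := by
  intro A B hcard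
  have hA : IsPGroup p (A.map (P : Subgroup G).subtype) := (P.2.to_subgroup A).map _
  have hB : IsPGroup p (B.map (P : Subgroup G).subtype) := (P.2.to_subgroup B).map _
  have hcard' : Nat.card (A.map (P : Subgroup G).subtype) =
      Nat.card (B.map (P : Subgroup G).subtype) := by
    rw [Subgroup.card_map_of_injective (Subgroup.subtype_injective _),
      Subgroup.card_map_of_injective (Subgroup.subtype_injective _), hcard]
  obtain ⟨g, hg⟩ := hC _ _ hA hB hcard'
  let e1 : A ≃* A.map (P : Subgroup G).subtype :=
    A.equivMapOfInjective _ (Subgroup.subtype_injective _)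
  let e2 : B ≃* B.map (P : Subgroup G).subtype :=
    B.equivMapOfInjective _ (Subgroup.subtype_injective _)
  let e3 : A.map (P : Subgroup G).subtype ≃*
      (A.map (P : Subgroup G).subtype).map (MulAut.conj g).toMonoidHom :=
    (A.map (P : Subgroup G).subtype).equivMapOfInjective _ (MulAut.conj g).injective
  exact ⟨(e1.trans e3).trans ((MulEquiv.subgroupCongr hg.symm).trans e2.symm)⟩

end Cfsg.Agent.Helper22
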