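import Mathlib
import Cfsg.Prelude
import Cfsg.Agent.Helper22.SameOrder

set_option autoImplicit false

namespace Cfsg.Agent.Helper22

/-- Gross: with all `p`-subgroups of the same order conjugate (`p` odd), a `p`-solvable normal
subgroup of order divisible by `p` forces abelian Sylow `p`-subgroups. -/
theorem same_order_psolvable {G : Type*} [Group G] [Finite G] {p : ℕ} [hpf : Fact p.Prime]
    (hp2 : p ≠ 2)
    (hC : ∀ H K : Subgroup G, IsPGroup p H → IsPGroup p K → Nat.card H = Nat.card K →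
      ∃ g : G, K = H.map (MulAut.conj g).toMonoidHom)
    (P : Sylow p G) (H : Subgroup G) [hHn : H.Normal] (hsolv : Cfsg.IsPSolvable p H)
    (hdiv : p ∣ Nat.card H) :
    IsMulCommutative P ∧ ((P : Subgroup G) ≤ H ∨ IsCyclic P) := by
  classical
  have hp := hpf.out
  have hpg : ∀ U : Subgroup G, Nat.card U = p → IsPGroup p U :=
    fun U hU => IsPGroup.of_card (n := 1) (by rw [hU, pow_one])
  -- common: exponent p implies P ≤ H
  have hPH_of_exp : (∀ a : P, a ^ p = 1) → (P : Subgroup G) ≤ H := by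
    intro hexp
    obtain ⟨y₀, hy₀⟩ := exists_prime_orderOf_dvd_card' (G := H) p hdiv
    have hU₀ : Nat.card (Subgroup.zpowers (y₀ : G)) = p := by
      rw [Nat.card_zpowers, Subgroup.orderOf_coe, hy₀]
    intro x hx
    by_cases hx1 : x = 1
    · rw [hx1]; exact H.one_mem
    have hxo : orderOf x = p := by
      apply orderOf_eq_prime
      · exact congrArg Subtype.val (hexp ⟨x, hx⟩)
      · exact hx1
    have hUx : Nat.card (Subgroup.zpowers x) = p := by rw [Nat.card_zpowers, hxo]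
    obtain ⟨g, hg⟩ := hC _ _ (hpg _ hU₀) (hpg _ hUx) (hU₀.trans hUx.symm)
    have hxm : x ∈ (Subgroup.zpowers (y₀ : G)).map (MulAut.conj g).toMonoidHom :=
      hg ▸ Subgroup.mem_zpowers x
    obtain ⟨u, hu, hux⟩ := hxm
    have huH : u ∈ H := by
      have hle : Subgroup.zpowers (y₀ : G) ≤ H := by
        rw [Subgroup.zpowers_le]; exact y₀.2
      exact hle hu
    rw [← hux]
    exact hHn.conj_mem u huH g
  rcases same_order_pgroup p P.2 (same_order_sylow hC P) with
    h | ⟨h1, h2⟩ | ⟨h1, h2⟩ | ⟨h1, h2, h3, h4⟩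
  · haveI := h
    exact ⟨⟨⟨fun a b => (IsCyclic.commGroup (α := P)).mul_comm a b⟩⟩, Or.inr h⟩
  · exact ⟨⟨⟨fun a b => h1 a b⟩⟩, Or.inl (hPH_of_exp h2)⟩
  · exact absurd h1 hp2
  · exfalso
    have hexp : ∀ a : P, a ^ p = 1 := by
      intro a
      have h5 : (a : (P : Subgroup G)) ^ Monoid.exponent (P : Subgroup G) = 1 :=
        Monoid.pow_exponent_eq_one _
      rw [h4] at h5
      exact h5
    have hPH := hPH_of_exp hexp
    -- the center of P has order p
    haveI : Nontrivial P := by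
      have h5 : 1 < Nat.card P := by
        rw [h3]
        exact Nat.one_lt_pow (by norm_num) hp.one_lt
      exact Finite.one_lt_card_iff_nontrivial.mp h5
    haveI := P.2.center_nontrivial
    obtain ⟨k, hk⟩ := IsPGroup.iff_card.mp (P.2.to_subgroup (Subgroup.center P))
    have hk1 : k = 1 := by
      have h0 : k ≠ 0 := by
        rintro rfl
        rw [pow_zero] at hk
        exact (Finite.one_lt_card (α := Subgroup.center P)).ne' hk
      have hle3 : k ≤ 3 := by
        have h5 := Subgroup.card_le_card_group (Subgroup.center P)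
        rw [hk, h3] at h5
        exact (Nat.pow_le_pow_iff_right hp.one_lt).mp h5
      have hne3 : k ≠ 3 := by
        rintro rfl
        apply h2
        have h5 : Subgroup.center P = ⊤ := by
          apply Subgroup.eq_top_of_card_eq
          rw [hk, h3]
        intro a b
        have h6 : a ∈ Subgroup.center P := h5 ▸ Subgroup.mem_top a
        exact (Subgroup.mem_center_iff.mp h6 b).symm
      have hne2 : k ≠ 2 := by
        rintro rfl
        apply h2
        have h5 : Nat.card (P ⧸ Subgroup.center P) = p := by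
          have h6 := Subgroup.card_eq_card_quotient_mul_card_subgroup (Subgroup.center P)
          rw [hk, h3] at h6
          have h7 : p ^ 3 = p * p ^ 2 := by ring
          rw [h7] at h6
          exact (Nat.eq_of_mul_eq_mul_right (pow_pos hp.pos 2) h6).symm
        haveI : IsCyclic (P ⧸ Subgroup.center P) := isCyclic_of_prime_card h5
        exact commutative_of_cyclic_center_quotient (QuotientGroup.mk' (Subgroup.center P))
          (by rw [QuotientGroup.ker_mk'])
      omega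
    rw [hk1, pow_one] at hk
    obtain ⟨Zg, hZgdef⟩ : ∃ Zg : Subgroup G,
        Zg = (Subgroup.center P).map (P : Subgroup G).subtype := ⟨_, rfl⟩
    have hZgcard : Nat.card Zg = p := by
      rw [hZgdef, Subgroup.card_map_of_injective (Subgroup.subtype_injective _), hk]
    have hnZ : ∀ n ∈ Subgroup.normalizer ((P : Subgroup G) : Set G), ∀ z ∈ Zg,
        n * z * n⁻¹ ∈ Zg := by
      intro n hn z hz
      rw [hZgdef] at hz ⊢
      obtain ⟨z', hz', rfl⟩ := hz
      have hmem : n * (z' : G) * n⁻¹ ∈ (P : Subgroup G) :=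
        (Subgroup.mem_normalizer_iff.mp hn _).mp z'.2
      refine ⟨⟨n * (z' : G) * n⁻¹, hmem⟩, ?_, rfl⟩
      rw [SetLike.mem_coe, Subgroup.mem_center_iff]
      intro x
      apply Subtype.ext
      have hx' : n⁻¹ * (x : G) * n⁻¹⁻¹ ∈ (P : Subgroup G) :=
        (Subgroup.mem_normalizer_iff.mp (Subgroup.inv_mem _ hn) _).mp x.2
      have h5 := Subgroup.mem_center_iff.mp hz' ⟨_, hx'⟩
      have h6 : n⁻¹ * (x : G) * n⁻¹⁻¹ * (z' : G) = (z' : G) * (n⁻¹ * (x : G) * n⁻¹⁻¹) :=
        congrArg Subtype.val h5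
      show (x : G) * (n * (z' : G) * n⁻¹) = n * (z' : G) * n⁻¹ * (x : G)
      calc (x : G) * (n * (z' : G) * n⁻¹)
          = n * (n⁻¹ * (x : G) * n⁻¹⁻¹ * (z' : G)) * n⁻¹ := by group
        _ = n * ((z' : G) * (n⁻¹ * (x : G) * n⁻¹⁻¹)) * n⁻¹ := by rw [h6]
        _ = n * (z' : G) * n⁻¹ * (x : G) := by group
    have hfr : H ⊔ Subgroup.normalizer ((P : Subgroup G) : Set G) = ⊤ := by
      rw [sup_comm]
      exact Sylow.normalizer_sup_eq_top' P hPH
    have hconj : ∀ U : Subgroup G, Nat.card U = p →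
        ∃ h ∈ H, ∀ x, x ∈ U ↔ ∃ z ∈ Zg, h * z * h⁻¹ = x := by
      intro U hU
      obtain ⟨g, hg⟩ := hC _ _ (hpg _ hZgcard) (hpg _ hU) (hZgcard.trans hU.symm)
      have hgt : g ∈ H ⊔ Subgroup.normalizer ((P : Subgroup G) : Set G) := by
        rw [hfr]; exact Subgroup.mem_top g
      obtain ⟨h, hh, n, hn, rfl⟩ := Subgroup.mem_sup_of_normal_left.mp hgt
      refine ⟨h, hh, ?_⟩
      intro x
      rw [hg]
      constructor
      · rintro ⟨z, hz, rfl⟩
        refine ⟨n * z * n⁻¹, hnZ n hn z hz, ?_⟩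
        simp only [MulEquiv.coe_toMonoidHom, MulAut.conj_apply]
        group
      · rintro ⟨z, hz, rfl⟩
        refine ⟨n⁻¹ * z * n⁻¹⁻¹, hnZ n⁻¹ (Subgroup.inv_mem _ hn) z hz, ?_⟩
        simp only [MulEquiv.coe_toMonoidHom, MulAut.conj_apply]
        group
    have hCL : ∀ Y : Subgroup G, (∀ h ∈ H, ∀ y ∈ Y, h * y * h⁻¹ ∈ Y) →
        (∃ y ∈ Y, orderOf y = p) → (P : Subgroup G) ≤ Y := by
      intro Y hY ⟨y, hyY, hyo⟩
      have hUy : Nat.card (Subgroup.zpowers y) = p := by rw [Nat.card_zpowers, hyo]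
      obtain ⟨h, hh, hiff⟩ := hconj _ hUy
      have hZY : Zg ≤ Y := by
        intro z hz
        have h5 : h * z * h⁻¹ ∈ Subgroup.zpowers y := (hiff _).mpr ⟨z, hz, rfl⟩
        have h6 : h * z * h⁻¹ ∈ Y := by
          have hle : Subgroup.zpowers y ≤ Y := by
            rw [Subgroup.zpowers_le]; exact hyY
          exact hle h5
        have h7 := hY h⁻¹ (H.inv_mem hh) _ h6
        have h8 : h⁻¹ * (h * z * h⁻¹) * h⁻¹⁻¹ = z := by group
        rwa [h8] at h7
      intro x hx
      by_cases hx1 : x = 1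
      · rw [hx1]; exact Y.one_mem
      have hxo : orderOf x = p := by
        apply orderOf_eq_prime
        · exact congrArg Subtype.val (hexp ⟨x, hx⟩)
        · exact hx1
      have hUx : Nat.card (Subgroup.zpowers x) = p := by rw [Nat.card_zpowers, hxo]
      obtain ⟨h', hh', hiff'⟩ := hconj _ hUx
      obtain ⟨z, hz, hzx⟩ := (hiff' x).mp (Subgroup.mem_zpowers x)
      rw [← hzx]
      exact hY h' hh' z (hZY hz)
    -- the chain
    obtain ⟨n, Hc, h0, hl, hmono, hnorm, hstep⟩ := hsolv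
    have hex : ∃ j : Fin n, ¬ p ∣ Nat.card (Hc j.castSucc) ∧ p ∣ Nat.card (Hc j.succ) := by
      by_contra hcon
      push Not at hcon
      have hall : ∀ i : Fin (n + 1), ¬ p ∣ Nat.card (Hc i) := by
        intro i
        induction i using Fin.induction with
        | zero =>
          rw [h0, Subgroup.card_bot]
          exact fun h => hp.one_lt.ne' (Nat.dvd_one.mp h)
        | succ j ih => exact hcon j ih
      apply hall (Fin.last n)
      rw [hl, Subgroup.card_top]
      exact hdiv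
    obtain ⟨j, hj1, hj2⟩ := hex
    obtain ⟨K₁, hK₁def⟩ : ∃ K₁ : Subgroup H, K₁ = Hc j.castSucc := ⟨_, rfl⟩
    obtain ⟨W, hWdef⟩ : ∃ W : Subgroup H, W = Hc j.succ := ⟨_, rfl⟩
    rw [← hK₁def] at hj1
    rw [← hWdef] at hj2
    haveI hK₁n : K₁.Normal := hK₁def ▸ hnorm _
    haveI hWn : W.Normal := hWdef ▸ hnorm _
    have hKW : K₁ ≤ W := by
      rw [hK₁def, hWdef]
      exact hmono (Fin.castSucc_lt_succ).le
    have hstep' := hstep j
    rw [← hK₁def, ← hWdef] at hstep'
    have hrel : K₁.relIndex W = Nat.card (W.map (QuotientGroup.mk' K₁)) := by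
      have h5 := Subgroup.relIndex_ker W (QuotientGroup.mk' K₁)
      rwa [QuotientGroup.ker_mk'] at h5
    have hcardW := S0001.card_map_mk_mul_card hKW
    have hpWbar : p ∣ Nat.card (W.map (QuotientGroup.mk' K₁)) := by
      rw [← hcardW] at hj2
      exact (hp.dvd_mul.mp hj2).resolve_right hj1
    obtain ⟨m, hm⟩ : ∃ m : ℕ, Nat.card (W.map (QuotientGroup.mk' K₁)) = p ^ m := by
      rcases hstep' with ⟨m, hm⟩ | hcop
      · exact ⟨m, hrel ▸ hm⟩
      · exfalso
        rw [hrel] at hcop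
        exact (Nat.Prime.coprime_iff_not_dvd hp).mp hcop.symm hpWbar
    obtain ⟨Wb, hWbdef⟩ : ∃ Wb : Subgroup (H ⧸ K₁), Wb = W.map (QuotientGroup.mk' K₁) :=
      ⟨_, rfl⟩
    rw [← hWbdef] at hm hpWbar
    haveI hWbn : Wb.Normal :=
      hWbdef ▸ Subgroup.Normal.map hWn _ (QuotientGroup.mk'_surjective K₁)
    have hWbp : IsPGroup p Wb := IsPGroup.of_card hm
    haveI : Nontrivial Wb := by
      have h5 : 1 < Nat.card Wb :=
        lt_of_lt_of_le hp.one_lt (Nat.le_of_dvd Nat.card_pos hpWbar)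
      exact Finite.one_lt_card_iff_nontrivial.mp h5
    haveI := hWbp.center_nontrivial
    obtain ⟨⟨wc, hwc⟩, hwc1⟩ := exists_ne (1 : Subgroup.center Wb)
    obtain ⟨Zb, hZbdef⟩ : ∃ Zb : Subgroup (H ⧸ K₁),
        Zb = Wb ⊓ Subgroup.centralizer (Wb : Set (H ⧸ K₁)) := ⟨_, rfl⟩
    haveI hZbn : Zb.Normal := hZbdef ▸ inferInstance
    have hwZb : (wc : H ⧸ K₁) ∈ Zb := by
      rw [hZbdef]
      refine Subgroup.mem_inf.mpr ⟨wc.2, ?_⟩
      rw [Subgroup.mem_centralizer_iff]
      intro v hv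
      have h5 := Subgroup.mem_center_iff.mp hwc ⟨v, hv⟩
      exact congrArg Subtype.val h5
    have hwne : (wc : H ⧸ K₁) ≠ 1 := by
      intro h
      apply hwc1
      apply Subtype.ext
      apply Subtype.ext
      exact h
    have hwo : p ∣ orderOf (wc : H ⧸ K₁) := by
      obtain ⟨a, ha⟩ := (IsPGroup.iff_orderOf.mp hWbp) wc
      rw [Subgroup.orderOf_coe, ha]
      have ha0 : a ≠ 0 := by
        rintro rfl
        rw [pow_zero] at ha
        apply hwne
        have h5 : wc = 1 := orderOf_eq_one_iff.mp ha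
        rw [h5]
        rfl
      exact dvd_pow_self p ha0
    -- the two H-invariant subgroups
    have hinv : ∀ Y' : Subgroup H, Y'.Normal →
        ∀ h ∈ H, ∀ y ∈ Y'.map H.subtype, h * y * h⁻¹ ∈ Y'.map H.subtype := by
      rintro Y' hY' h hh _ ⟨y', hy', rfl⟩
      exact ⟨(⟨h, hh⟩ : H) * y' * (⟨h, hh⟩ : H)⁻¹, hY'.conj_mem y' hy' ⟨h, hh⟩, rfl⟩
    have hP1 : (P : Subgroup G) ≤ W.map H.subtype := by
      apply hCL _ (hinv W hWn)
      obtain ⟨y, hy⟩ := exists_prime_orderOf_dvd_card' (G := W) p hj2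
      refine ⟨((y : H) : G), ⟨(y : H), y.2, rfl⟩, ?_⟩
      rw [Subgroup.orderOf_coe, Subgroup.orderOf_coe, hy]
    have hP2 : (P : Subgroup G) ≤ (Zb.comap (QuotientGroup.mk' K₁)).map H.subtype := by
      apply hCL _ (hinv _ (hZbn.comap _))
      obtain ⟨w', hw'⟩ := QuotientGroup.mk'_surjective K₁ (wc : H ⧸ K₁)
      have h5 : p ∣ orderOf w' := hwo.trans (hw' ▸ orderOf_map_dvd (QuotientGroup.mk' K₁) w')
      obtain ⟨d, hd⟩ := h5
      have hpos : 0 < orderOf w' := orderOf_pos w'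
      have hd0 : d ≠ 0 := by
        rintro rfl
        rw [mul_zero] at hd
        omega
      have h6 : orderOf (w' ^ d) = p := by
        rw [orderOf_pow_of_dvd hd0 ⟨p, by rw [hd, mul_comm]⟩, hd]
        exact Nat.mul_div_cancel _ (Nat.pos_of_ne_zero hd0)
      refine ⟨((w' ^ d : H) : G), ⟨w' ^ d, ?_, rfl⟩, ?_⟩
      · rw [SetLike.mem_coe, Subgroup.mem_comap, map_pow, hw']
        exact Zb.pow_mem hwZb d
      · rw [Subgroup.orderOf_coe, h6]
    apply h2
    intro a b
    obtain ⟨a', ha', haa⟩ := hP2 a.2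
    obtain ⟨b', hb', hbb⟩ := hP1 b.2
    have ha'' : QuotientGroup.mk' K₁ a' ∈ Zb := Subgroup.mem_comap.mp ha'
    rw [hZbdef] at ha''
    have hcz := Subgroup.mem_centralizer_iff.mp (Subgroup.mem_inf.mp ha'').2
      (QuotientGroup.mk' K₁ b') (hWbdef ▸ Subgroup.mem_map_of_mem _ hb')
    have hcK : a' * b' * a'⁻¹ * b'⁻¹ ∈ K₁ := by
      rw [← QuotientGroup.eq_one_iff]
      show (QuotientGroup.mk' K₁) (a' * b' * a'⁻¹ * b'⁻¹) = 1
      rw [map_mul, map_mul, map_mul, map_inv, map_inv, ← hcz, mul_inv_cancel_right,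
        mul_inv_cancel]
    have hcP : ((a' * b' * a'⁻¹ * b'⁻¹ : H) : G) ∈ (P : Subgroup G) := by
      have h5 : ((a' * b' * a'⁻¹ * b'⁻¹ : H) : G) = (a : G) * b * (a : G)⁻¹ * (b : G)⁻¹ := by
        rw [← haa, ← hbb]
        rfl
      rw [h5]
      exact Subgroup.mul_mem _ (Subgroup.mul_mem _ (Subgroup.mul_mem _ a.2 b.2)
        (Subgroup.inv_mem _ a.2)) (Subgroup.inv_mem _ b.2)
    have hc1 : a' * b' * a'⁻¹ * b'⁻¹ = 1 := by
      have h5 : orderOf (a' * b' * a'⁻¹ * b'⁻¹) ∣ Nat.card K₁ := by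
        have h6 := orderOf_dvd_natCard (⟨_, hcK⟩ : K₁)
        rwa [Subgroup.orderOf_mk] at h6
      obtain ⟨e, he⟩ := (IsPGroup.iff_orderOf.mp P.2) ⟨_, hcP⟩
      rw [Subgroup.orderOf_mk, Subgroup.orderOf_coe] at he
      have h7 : orderOf (a' * b' * a'⁻¹ * b'⁻¹) = 1 := by
        apply Nat.eq_one_of_dvd_coprimes _ (he ▸ dvd_rfl : orderOf (a' * b' * a'⁻¹ * b'⁻¹) ∣ p ^ e) h5
        exact Nat.Coprime.pow_left e ((Nat.Prime.coprime_iff_not_dvd hp).mpr hj1)
      exact orderOf_eq_one_iff.mp h7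
    have hab : a' * b' = b' * a' := by
      calc a' * b' = (a' * b' * a'⁻¹ * b'⁻¹) * (b' * a') := by group
        _ = b' * a' := by rw [hc1, one_mul]
    apply Subtype.ext
    show (a : G) * b = b * a
    rw [← haa, ← hbb]
    exact congrArg Subtype.val hab

end Cfsg.Agent.Helper22
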