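import Mathlib
import Cfsg.Agent.Helper22.GLDer5

set_option autoImplicit false

namespace Cfsg.Agent.Helper22

open Matrix

universe u

section SpStd

variable {F : Type*} [Field F]

/-- The standard symplectic form on `ι ⊕ ι → F` (up to sign). -/
def spStd (ι : Type*) [Fintype ι] (v w : ι ⊕ ι → F) : F :=
  ∑ i, (v (Sum.inl i) * w (Sum.inr i) - v (Sum.inr i) * w (Sum.inl i))

theorem toBilin'_J_apply (ι : Type*) [Fintype ι] [DecidableEq ι] (v w : ι ⊕ ι → F) :
    Matrix.toBilin' (Matrix.J ι F) v w = - spStd ι v w := by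
  rw [Matrix.toBilin'_apply, spStd, Fintype.sum_sum_type]
  simp only [Fintype.sum_sum_type, Matrix.J, Matrix.fromBlocks_apply₁₁, Matrix.fromBlocks_apply₁₂,
    Matrix.fromBlocks_apply₂₁, Matrix.fromBlocks_apply₂₂, Matrix.zero_apply, Matrix.neg_apply,
    Matrix.one_apply, mul_zero, zero_mul, Finset.sum_const_zero, zero_add, add_zero,
    mul_neg, mul_ite, mul_one, ite_mul, neg_mul, Finset.sum_neg_distrib, Finset.sum_ite_eq,
    Finset.mem_univ, if_true]
  rw [Finset.sum_sub_distrib]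
  ring

theorem mem_sp_iff (ι : Type*) [Fintype ι] [DecidableEq ι] (P : Matrix (ι ⊕ ι) (ι ⊕ ι) F) :
    P ∈ Matrix.symplecticGroup ι F ↔
      ∀ v w : ι ⊕ ι → F, spStd ι (P *ᵥ v) (P *ᵥ w) = spStd ι v w := by
  rw [SymplecticGroup.mem_iff']
  have hcomp := Matrix.toBilin'_comp (Matrix.J ι F) P P
  constructor
  · intro h v w
    rw [h] at hcomp
    have h2 := congrArg (fun B : LinearMap.BilinForm F (ι ⊕ ι → F) => B v w) hcomp
    simp only [LinearMap.BilinForm.comp_apply, Matrix.toLin'_apply, toBilin'_J_apply] at h2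
    exact neg_injective h2
  · intro h
    apply Matrix.toBilin'.injective
    rw [← hcomp]
    apply LinearMap.ext₂
    intro v w
    rw [LinearMap.BilinForm.comp_apply, Matrix.toLin'_apply, Matrix.toLin'_apply,
      toBilin'_J_apply, toBilin'_J_apply, h]

/-- A faithful linear representation preserving the standard form gives an embedding into the
symplectic group. -/
theorem sympRep_of_linear {W : Type*} [Group W] {V : Type*} [AddCommGroup V] [Module F V]
    (ι : Type*) [Fintype ι] [DecidableEq ι]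
    (Φ : V ≃ₗ[F] (ι ⊕ ι → F)) (ρ : W →* Module.End F V) (hρ : Function.Injective ρ)
    (hpres : ∀ (w : W) (v v' : V), spStd ι (Φ (ρ w v)) (Φ (ρ w v')) = spStd ι (Φ v) (Φ v')) :
    ∃ γ : W →* Matrix.symplecticGroup ι F, Function.Injective γ := by
  let μ : W →* Matrix (ι ⊕ ι) (ι ⊕ ι) F :=
    (MonoidHomClass.toMonoidHom (LinearMap.toMatrixAlgEquiv' :
      Module.End F (ι ⊕ ι → F) ≃ₐ[F] Matrix (ι ⊕ ι) (ι ⊕ ι) F)).comp
      ((MonoidHomClass.toMonoidHom Φ.conjRingEquiv).comp ρ)
  have hμ : ∀ w, μ w ∈ Matrix.symplecticGroup ι F := by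
    intro w
    rw [mem_sp_iff]
    intro v v'
    have h1 : ∀ x : ι ⊕ ι → F, (μ w) *ᵥ x = Φ (ρ w (Φ.symm x)) := by
      intro x
      have e0 : μ w = LinearMap.toMatrix' (Φ.conjRingEquiv (ρ w)) := rfl
      rw [e0, ← Matrix.toLin'_apply, Matrix.toLin'_toMatrix']
      rfl
    rw [h1, h1, hpres, LinearEquiv.apply_symm_apply, LinearEquiv.apply_symm_apply]
  refine ⟨μ.codRestrict (Matrix.symplecticGroup ι F) hμ, ?_⟩
  intro a b hab
  have h1 : μ a = μ b := congrArg Subtype.val hab
  have h2 : Φ.conjRingEquiv (ρ a) = Φ.conjRingEquiv (ρ b) :=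
    (LinearMap.toMatrixAlgEquiv' :
      Module.End F (ι ⊕ ι → F) ≃ₐ[F] Matrix (ι ⊕ ι) (ι ⊕ ι) F).injective h1
  exact hρ (Φ.conjRingEquiv.injective h2)

/-- The symplectic group acting on `ι ⊕ ι → F`. -/
noncomputable def spLin (ι : Type*) [Fintype ι] [DecidableEq ι] :
    Matrix.symplecticGroup ι F →* Module.End F (ι ⊕ ι → F) :=
  (MonoidHomClass.toMonoidHom
    (Matrix.toLinAlgEquiv' : Matrix (ι ⊕ ι) (ι ⊕ ι) F ≃ₐ[F] Module.End F (ι ⊕ ι → F))).comp
    (Matrix.symplecticGroup ι F).subtype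

theorem spLin_apply (ι : Type*) [Fintype ι] [DecidableEq ι] (g : Matrix.symplecticGroup ι F)
    (v : ι ⊕ ι → F) : spLin ι g v = (g : Matrix (ι ⊕ ι) (ι ⊕ ι) F) *ᵥ v := rfl

theorem spLin_injective (ι : Type*) [Fintype ι] [DecidableEq ι] :
    Function.Injective (spLin (F := F) ι) := by
  intro a b h
  exact Subtype.ext ((Matrix.toLinAlgEquiv' :
    Matrix (ι ⊕ ι) (ι ⊕ ι) F ≃ₐ[F] Module.End F (ι ⊕ ι → F)).injective h)

theorem spLin_pres (ι : Type*) [Fintype ι] [DecidableEq ι] (g : Matrix.symplecticGroup ι F)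
    (v w : ι ⊕ ι → F) : spStd ι (spLin ι g v) (spLin ι g w) = spStd ι v w := by
  rw [spLin_apply, spLin_apply]
  exact (mem_sp_iff ι g.1).mp g.2 v w

/-- Regrouping of coordinates for the wreath step. -/
def wrΦ (C ι : Type*) : (C → (ι ⊕ ι → F)) ≃ₗ[F] ((C × ι) ⊕ (C × ι) → F) where
  toFun φ := Sum.elim (fun x => φ x.1 (Sum.inl x.2)) (fun x => φ x.1 (Sum.inr x.2))
  map_add' := by
    intro φ ψ
    funext x
    rcases x with x | x <;> rfl
  map_smul' := by
    intro c φ
    funext x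
    rcases x with x | x <;> rfl
  invFun g := fun y => Sum.elim (fun i => g (Sum.inl (y, i))) (fun i => g (Sum.inr (y, i)))
  left_inv := by
    intro φ
    funext y x
    rcases x with x | x <;> rfl
  right_inv := by
    intro g
    funext x
    rcases x with ⟨y, i⟩ | ⟨y, i⟩ <;> rfl

theorem spStd_wr (C ι : Type*) [Fintype C] [Fintype ι] (φ ψ : C → (ι ⊕ ι → F)) :
    spStd (C × ι) (wrΦ C ι φ) (wrΦ C ι ψ) = ∑ y, spStd ι (φ y) (ψ y) := by
  unfold spStd
  rw [Fintype.sum_prod_type]
  rfl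

theorem sympRep_wreath {W : Type*} [Group W] (C : Type*) [Group C] [Fintype C] [DecidableEq C]
    (ι : Type*) [Fintype ι] [DecidableEq ι] [Nonempty ι]
    (γ : W →* Matrix.symplecticGroup ι F) (hγ : Function.Injective γ) :
    ∃ γ' : W ≀ᵣ C →* Matrix.symplecticGroup (C × ι) F, Function.Injective γ' := by
  haveI : Nontrivial (ι ⊕ ι → F) := Function.nontrivial
  apply sympRep_of_linear (C × ι) (wrΦ C ι) (wreathRep (Q := C) ((spLin ι).comp γ))
    (wreathRep_injective _ ((spLin_injective ι).comp hγ))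
  intro a φ ψ
  rw [spStd_wr, spStd_wr]
  have h1 : ∀ y : C, spStd ι (wreathRep (Q := C) ((spLin ι).comp γ) a φ y)
      (wreathRep (Q := C) ((spLin ι).comp γ) a ψ y) =
      spStd ι (φ (a.right⁻¹ * y)) (ψ (a.right⁻¹ * y)) := fun y => spLin_pres ι _ _ _
  rw [Finset.sum_congr rfl (fun y _ => h1 y)]
  exact Equiv.sum_comp (Equiv.mulLeft a.right⁻¹) (fun y => spStd ι (φ y) (ψ y))

/-- Regrouping of coordinates for the padding step. -/
def padΦ {ι κ ι' : Type*} (e : ι ⊕ κ ≃ ι') :
    ((ι ⊕ ι → F) × (κ ⊕ κ → F)) ≃ₗ[F] (ι' ⊕ ι' → F) where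
  toFun ut := Sum.elim
    (fun i' => Sum.elim (fun i => ut.1 (Sum.inl i)) (fun k => ut.2 (Sum.inl k)) (e.symm i'))
    (fun i' => Sum.elim (fun i => ut.1 (Sum.inr i)) (fun k => ut.2 (Sum.inr k)) (e.symm i'))
  map_add' := by
    intro x y
    funext z
    rcases z with z | z
    · simp only [Sum.elim_inl, Pi.add_apply]
      generalize e.symm z = s
      rcases s with s | s <;> rfl
    · simp only [Sum.elim_inr, Pi.add_apply]
      generalize e.symm z = s
      rcases s with s | s <;> rfl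
  map_smul' := by
    intro c x
    funext z
    rcases z with z | z
    · simp only [Sum.elim_inl, Pi.smul_apply]
      generalize e.symm z = s
      rcases s with s | s <;> rfl
    · simp only [Sum.elim_inr, Pi.smul_apply]
      generalize e.symm z = s
      rcases s with s | s <;> rfl
  invFun g :=
    (Sum.elim (fun i => g (Sum.inl (e (Sum.inl i)))) (fun i => g (Sum.inr (e (Sum.inl i)))),
     Sum.elim (fun k => g (Sum.inl (e (Sum.inr k)))) (fun k => g (Sum.inr (e (Sum.inr k)))))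
  left_inv := by
    rintro ⟨u, t⟩
    apply Prod.ext
    · funext x
      rcases x with x | x <;> simp
    · funext x
      rcases x with x | x <;> simp
  right_inv := by
    intro g
    funext z
    rcases z with z | z
    · obtain ⟨s, rfl⟩ := e.surjective z
      rcases s with s | s <;> simp
    · obtain ⟨s, rfl⟩ := e.surjective z
      rcases s with s | s <;> simp

theorem spStd_pad {ι κ ι' : Type*} [Fintype ι] [Fintype κ] [Fintype ι'] (e : ι ⊕ κ ≃ ι')
    (u u' : ι ⊕ ι → F) (t t' : κ ⊕ κ → F) :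
    spStd ι' (padΦ e (u, t)) (padΦ e (u', t')) = spStd ι u u' + spStd κ t t' := by
  unfold spStd
  rw [← Equiv.sum_comp e, Fintype.sum_sum_type]
  simp [padΦ]

theorem sympRep_pad {W : Type*} [Group W] (ι κ ι' : Type*) [Fintype ι] [DecidableEq ι]
    [Fintype κ] [Fintype ι'] [DecidableEq ι'] (e : ι ⊕ κ ≃ ι')
    (γ : W →* Matrix.symplecticGroup ι F) (hγ : Function.Injective γ) :
    ∃ γ' : W →* Matrix.symplecticGroup ι' F, Function.Injective γ' := by
  let ρ' : W →* Module.End F ((ι ⊕ ι → F) × (κ ⊕ κ → F)) :=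
    { toFun := fun w => LinearMap.prodMap (spLin ι (γ w)) LinearMap.id
      map_one' := by
        rw [map_one, map_one]
        apply LinearMap.ext
        rintro ⟨x, y⟩
        rfl
      map_mul' := by
        intro a c
        rw [map_mul, map_mul]
        apply LinearMap.ext
        rintro ⟨x, y⟩
        rfl }
  have hρ' : Function.Injective ρ' := by
    intro a c hac
    apply hγ
    apply spLin_injective ι
    apply LinearMap.ext
    intro x
    have h1 := congrArg
      (fun T : Module.End F ((ι ⊕ ι → F) × (κ ⊕ κ → F)) => (T (x, 0)).1) hac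
    exact h1
  apply sympRep_of_linear ι' (padΦ e) ρ' hρ'
  rintro w ⟨u, t⟩ ⟨u', t'⟩
  show spStd ι' (padΦ e (spLin ι (γ w) u, t)) (padΦ e (spLin ι (γ w) u', t')) = _
  rw [spStd_pad, spStd_pad, spLin_pres]

end SpStd

end Cfsg.Agent.Helper22
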