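import Mathlib
import Cfsg.Agent.Helper22.SpDer1

set_option autoImplicit false

namespace Cfsg.Agent.Helper22

open Matrix
open scoped commutatorElement

universe u

/-- A group generated by `a, b` with `a² = b² = z` central of order dividing 2 and
`ba = zab` is a 2-group. -/
theorem q8_closure_pgroup {G : Type*} [Group G] (a b z : G) (hz : ∀ g : G, z * g = g * z)
    (hz2 : z * z = 1) (ha : a * a = z) (hb : b * b = z) (hba : b * a = z * (a * b)) :
    IsPGroup 2 (Subgroup.closure ({a, b} : Set G)) := by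
  have hzc : ∀ (i : ℕ) (g : G), z ^ i * g = g * z ^ i := by
    intro i g
    exact ((show Commute z g from hz g).pow_left i).eq
  have hainv : a⁻¹ = z * a := by
    apply inv_eq_of_mul_eq_one_right
    rw [← mul_assoc, ← hz a, mul_assoc, ha, hz2]
  have hbinv : b⁻¹ = z * b := by
    apply inv_eq_of_mul_eq_one_right
    rw [← mul_assoc, ← hz b, mul_assoc, hb, hz2]
  have L1 : ∀ j : ℕ, b * a ^ j = z ^ j * a ^ j * b := by
    intro j
    induction j with
    | zero => simp
    | succ j ih =>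
      calc b * a ^ (j + 1) = (b * a ^ j) * a := by rw [pow_succ, mul_assoc]
        _ = z ^ j * a ^ j * (b * a) := by rw [ih, mul_assoc]
        _ = z ^ j * (a ^ j * z) * (a * b) := by rw [hba]; simp only [mul_assoc]
        _ = z ^ j * (z * a ^ j) * (a * b) := by rw [hz (a ^ j)]
        _ = z ^ (j + 1) * a ^ (j + 1) * b := by rw [pow_succ, pow_succ]; simp only [mul_assoc]
  have hA : ∀ i j k : ℕ, a * (z ^ i * a ^ j * b ^ k) = z ^ i * a ^ (j + 1) * b ^ k := by
    intro i j k
    rw [← mul_assoc, ← mul_assoc, ← hzc i a, mul_assoc (z ^ i) a, ← pow_succ']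
  have hB : ∀ i j k : ℕ, b * (z ^ i * a ^ j * b ^ k) = z ^ (i + j) * a ^ j * b ^ (k + 1) := by
    intro i j k
    calc b * (z ^ i * a ^ j * b ^ k) = (b * z ^ i) * a ^ j * b ^ k := by simp only [mul_assoc]
      _ = z ^ i * (b * a ^ j) * b ^ k := by rw [← hzc i b]; simp only [mul_assoc]
      _ = z ^ i * (z ^ j * a ^ j * b) * b ^ k := by rw [L1]
      _ = z ^ (i + j) * a ^ j * b ^ (k + 1) := by rw [pow_add, pow_succ']; simp only [mul_assoc]
  have L2 : ∀ k j : ℕ, b ^ k * a ^ j = z ^ (k * j) * a ^ j * b ^ k := by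
    intro k j
    induction k with
    | zero => simp
    | succ k ih =>
      calc b ^ (k + 1) * a ^ j = b * (b ^ k * a ^ j) := by rw [pow_succ', mul_assoc]
        _ = b * (z ^ (k * j) * a ^ j * b ^ k) := by rw [ih]
        _ = z ^ (k * j + j) * a ^ j * b ^ (k + 1) := hB (k * j) j k
        _ = z ^ ((k + 1) * j) * a ^ j * b ^ (k + 1) := by rw [Nat.succ_mul]
  have key : ∀ x ∈ Subgroup.closure ({a, b} : Set G),
      ∃ i j k : ℕ, x = z ^ i * a ^ j * b ^ k := by
    intro x hx
    induction hx using Subgroup.closure_induction_left with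
    | one => exact ⟨0, 0, 0, by simp⟩
    | mul_left x hx y hy ih =>
      obtain ⟨i, j, k, hy'⟩ := ih
      rcases Set.mem_insert_iff.mp hx with hxa | hxb
      · exact ⟨i, j + 1, k, by rw [hxa, hy', hA]⟩
      · have hxb' : x = b := Set.mem_singleton_iff.mp hxb
        exact ⟨i + j, j, k + 1, by rw [hxb', hy', hB]⟩
    | inv_mul_cancel x hx y hy ih =>
      obtain ⟨i, j, k, hy'⟩ := ih
      rcases Set.mem_insert_iff.mp hx with hxa | hxb
      · exact ⟨i + 1, j + 1, k, by
          rw [hxa, hy', hainv, mul_assoc, hA, ← mul_assoc, ← mul_assoc, ← pow_succ']⟩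
      · have hxb' : x = b := Set.mem_singleton_iff.mp hxb
        exact ⟨i + j + 1, j, k + 1, by
          rw [hxb', hy', hbinv, mul_assoc, hB, ← mul_assoc, ← mul_assoc, ← pow_succ']⟩
  have hx2 : ∀ i j k : ℕ, (z ^ i * a ^ j * b ^ k) * (z ^ i * a ^ j * b ^ k) =
      z ^ (i + i + k * j + j + k) := by
    intro i j k
    have e1 : a ^ j * a ^ j = z ^ j := by rw [← (Commute.refl a).mul_pow, ha]
    have e2 : b ^ k * b ^ k = z ^ k := by rw [← (Commute.refl b).mul_pow, hb]
    calc (z ^ i * a ^ j * b ^ k) * (z ^ i * a ^ j * b ^ k)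
        = z ^ i * (a ^ j * (b ^ k * z ^ i)) * (a ^ j * b ^ k) := by simp only [mul_assoc]
      _ = z ^ i * (a ^ j * (z ^ i * b ^ k)) * (a ^ j * b ^ k) := by rw [← hzc i (b ^ k)]
      _ = z ^ i * ((a ^ j * z ^ i) * (b ^ k * a ^ j)) * b ^ k := by simp only [mul_assoc]
      _ = z ^ i * ((z ^ i * a ^ j) * (z ^ (k * j) * a ^ j * b ^ k)) * b ^ k := by
          rw [← hzc i (a ^ j), L2]
      _ = z ^ i * z ^ i * ((a ^ j * z ^ (k * j)) * a ^ j) * (b ^ k * b ^ k) := by
          simp only [mul_assoc]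
      _ = z ^ i * z ^ i * ((z ^ (k * j) * a ^ j) * a ^ j) * (b ^ k * b ^ k) := by
          rw [← hzc (k * j) (a ^ j)]
      _ = z ^ i * z ^ i * z ^ (k * j) * (a ^ j * a ^ j) * (b ^ k * b ^ k) := by
          simp only [mul_assoc]
      _ = z ^ (i + i + k * j + j + k) := by rw [e1, e2]; simp only [pow_add]
  have hzz : ∀ m : ℕ, z ^ m * z ^ m = 1 := by
    intro m
    rw [← pow_add, ← two_mul, pow_mul, pow_two, hz2, one_pow]
  intro g
  obtain ⟨i, j, k, hg⟩ := key g.1 g.2
  have h4 : g.1 ^ 4 = 1 := by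
    rw [show (4 : ℕ) = 2 + 2 from rfl, pow_add, pow_two, hg, hx2, hzz]
  refine ⟨2, Subtype.ext ?_⟩
  rw [Subgroup.coe_pow, Subgroup.coe_one]
  exact h4

/-- For `|F|` odd, the symplectic group over a nonempty index type contains a nonabelian
2-subgroup (a quaternion group). -/
theorem exists_q8_sp {F : Type*} [Field F] [Fintype F] (hodd : Odd (Fintype.card F))
    (ι : Type*) [Fintype ι] [DecidableEq ι] [Nonempty ι] :
    ∃ D : Subgroup (Matrix.symplecticGroup ι F), IsPGroup 2 D ∧ derivedSeries D 1 ≠ ⊥ := by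
  classical
  have h2 : (2 : F) ≠ 0 := by
    apply Ring.two_ne_zero
    intro h
    have := FiniteField.even_card_of_char_two h
    rcases hodd with ⟨m, hm⟩
    omega
  obtain ⟨p, hp⟩ := CharP.exists F
  haveI := hp
  have hpp : p.Prime := CharP.char_is_prime F p
  haveI : NeZero p := ⟨hpp.ne_zero⟩
  obtain ⟨a', b', hab'⟩ := CharP.sq_add_sq F p (-1)
  have hab : (a' : F) ^ 2 + (b' : F) ^ 2 = -1 := by simpa using hab'
  generalize (a' : F) = a at hab
  generalize (b' : F) = b at hab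
  let Bm : Matrix (ι ⊕ ι) (ι ⊕ ι) F :=
    Matrix.fromBlocks (a • (1 : Matrix ι ι F)) (b • (1 : Matrix ι ι F))
      (b • (1 : Matrix ι ι F)) ((-a) • (1 : Matrix ι ι F))
  have e1 : ∀ c : F, c = 1 → c • (1 : Matrix ι ι F) = 1 := by
    intro c hc
    rw [hc, one_smul]
  have em : ∀ c : F, c = -1 → c • (1 : Matrix ι ι F) = -1 := by
    intro c hc
    rw [hc, neg_smul, one_smul]
  have e0 : ∀ c : F, c = 0 → c • (1 : Matrix ι ι F) = 0 := by
    intro c hc
    rw [hc, zero_smul]
  have hBm : Bm ∈ Matrix.symplecticGroup ι F := by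
    rw [SymplecticGroup.fromBlocks_mem_iff]
    refine ⟨?_, ?_, ?_⟩
    · simp
      exact smul_comm _ _ _
    · simp
      exact smul_comm _ _ _
    · simp only [Matrix.transpose_smul, Matrix.transpose_one, Matrix.smul_mul, Matrix.mul_smul,
        Matrix.one_mul, smul_smul, ← sub_smul]
      exact e1 _ (by linear_combination -hab)
  have hneg1 : (-1 : Matrix (ι ⊕ ι) (ι ⊕ ι) F) = Matrix.fromBlocks (-1) 0 0 (-1) := by
    rw [← Matrix.fromBlocks_one, Matrix.fromBlocks_neg, neg_zero]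
  let A' : Matrix.symplecticGroup ι F := ⟨Matrix.J ι F, SymplecticGroup.J_mem ι F⟩
  let B' : Matrix.symplecticGroup ι F := ⟨Bm, hBm⟩
  let Z' : Matrix.symplecticGroup ι F := ⟨-1, SymplecticGroup.neg_mem (Submonoid.one_mem _)⟩
  have hZc : ∀ g : Matrix.symplecticGroup ι F, Z' * g = g * Z' := by
    intro g
    apply Subtype.ext
    show (-1 : Matrix (ι ⊕ ι) (ι ⊕ ι) F) * g.1 = g.1 * (-1)
    simp
  have hZ2 : Z' * Z' = 1 := by
    apply Subtype.ext
    show (-1 : Matrix (ι ⊕ ι) (ι ⊕ ι) F) * (-1) = 1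
    simp
  have hA2 : A' * A' = Z' := Subtype.ext (Matrix.J_squared ι F)
  have hB2 : B' * B' = Z' := by
    apply Subtype.ext
    show Bm * Bm = -1
    rw [hneg1, Matrix.fromBlocks_multiply]
    congr 1
    · simp only [Matrix.smul_mul, Matrix.mul_smul, Matrix.one_mul, smul_smul, ← add_smul]
      exact em _ (by linear_combination hab)
    · simp only [Matrix.smul_mul, Matrix.mul_smul, Matrix.one_mul, smul_smul, ← add_smul]
      exact e0 _ (by ring)
    · simp only [Matrix.smul_mul, Matrix.mul_smul, Matrix.one_mul, smul_smul, ← add_smul]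
      exact e0 _ (by ring)
    · simp only [Matrix.smul_mul, Matrix.mul_smul, Matrix.one_mul, smul_smul, ← add_smul]
      exact em _ (by linear_combination hab)
  have hBA : B' * A' = Z' * (A' * B') := by
    apply Subtype.ext
    show Bm * Matrix.J ι F = -1 * (Matrix.J ι F * Bm)
    simp [Bm, Matrix.J, Matrix.fromBlocks_multiply, Matrix.fromBlocks_neg]
  refine ⟨Subgroup.closure {A', B'}, q8_closure_pgroup A' B' Z' hZc hZ2 hA2 hB2 hBA, ?_⟩
  intro h0
  have hA'D : A' ∈ Subgroup.closure ({A', B'} : Set (Matrix.symplecticGroup ι F)) :=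
    Subgroup.subset_closure (Set.mem_insert _ _)
  have hB'D : B' ∈ Subgroup.closure ({A', B'} : Set (Matrix.symplecticGroup ι F)) :=
    Subgroup.subset_closure (Set.mem_insert_of_mem _ rfl)
  have hc : ⁅(⟨A', hA'D⟩ : ↥(Subgroup.closure ({A', B'} : Set (Matrix.symplecticGroup ι F)))),
      (⟨B', hB'D⟩ : ↥(Subgroup.closure ({A', B'} : Set (Matrix.symplecticGroup ι F))))⁆ ∈
      derivedSeries ↥(Subgroup.closure ({A', B'} : Set (Matrix.symplecticGroup ι F))) 1 := by
    rw [derivedSeries_succ, derivedSeries_zero]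
    exact Subgroup.commutator_mem_commutator (Subgroup.mem_top _) (Subgroup.mem_top _)
  rw [h0, Subgroup.mem_bot, commutatorElement_eq_one_iff_commute] at hc
  have hc' : A' * B' = B' * A' := congrArg Subtype.val hc.eq
  rw [hBA] at hc'
  have hZ1 : Z' = 1 := by
    have h3 : 1 * (A' * B') = Z' * (A' * B') := by rw [one_mul]; exact hc'
    exact (mul_right_cancel h3).symm
  have h5 : (-1 : Matrix (ι ⊕ ι) (ι ⊕ ι) F) = 1 := congrArg Subtype.val hZ1
  obtain ⟨i⟩ := ‹Nonempty ι›
  have h6 := congrFun (congrFun h5 (Sum.inl i)) (Sum.inl i)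
  rw [Matrix.neg_apply, Matrix.one_apply_eq] at h6
  apply h2
  linear_combination -h6

/-- The iterated wreath products `Q₈ ≀ C₂ ≀ ⋯ ≀ C₂` embed in symplectic groups. -/
theorem exists_sp_wreath {F : Type u} [Field F] [Fintype F] (hodd : Odd (Fintype.card F)) :
    ∀ j : ℕ, ∃ (W : Type u) (_ : Group W) (_ : Finite W) (ι : Type) (_ : Fintype ι)
      (_ : DecidableEq ι) (_ : Nonempty ι) (γ : W →* Matrix.symplecticGroup ι F),
      IsPGroup 2 W ∧ derivedSeries W (j + 1) ≠ ⊥ ∧ Fintype.card ι = 2 ^ j ∧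
        Function.Injective γ := by
  classical
  intro j
  induction j with
  | zero =>
    obtain ⟨D, hD, hD1⟩ := exists_q8_sp hodd (Fin 1)
    exact ⟨D, inferInstance, inferInstance, Fin 1, inferInstance, inferInstance, inferInstance,
      D.subtype, hD, hD1, by simp, Subgroup.subtype_injective D⟩
  | succ j ih =>
    obtain ⟨W, i1, i2, ι, i3, i4, i5, γ, hW, hder, hcard, hγ⟩ := ih
    have hCcard : Fintype.card (Multiplicative (ZMod 2)) = 2 := by
      rw [Fintype.card_multiplicative, ZMod.card]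
    obtain ⟨γ', hγ'⟩ := sympRep_wreath (Multiplicative (ZMod 2)) ι γ hγ
    refine ⟨W ≀ᵣ Multiplicative (ZMod 2), inferInstance, inferInstance,
      Multiplicative (ZMod 2) × ι, inferInstance, inferInstance, inferInstance, γ', ?_, ?_, ?_,
      hγ'⟩
    · obtain ⟨m, hm⟩ := IsPGroup.iff_card.mp hW
      apply IsPGroup.of_card (n := m * 2 + 1)
      rw [RegularWreathProduct.card, hm, Nat.card_eq_fintype_card, hCcard, ← pow_mul, ← pow_succ]
    · exact wreath_derived (fun a b => mul_comm a b) (Multiplicative.ofAdd (1 : ZMod 2))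
        (by decide) (j + 1) hder
    · rw [Fintype.card_prod, hcard, hCcard, pow_succ, mul_comm]

/-- The `⌊log₂ (2n)⌋`-th derived subgroup of a Sylow 2-subgroup of `Sp_{2n}(F)`, `|F|` odd, is
nontrivial. -/
theorem sp_sylow_derived_ne_bot {F : Type u} [Field F] [Fintype F]
    (hodd : Odd (Fintype.card F)) (n : ℕ) (hn : 1 ≤ n)
    (R : Sylow 2 (Matrix.symplecticGroup (Fin n) F)) :
    derivedSeries ↥(R : Subgroup (Matrix.symplecticGroup (Fin n) F)) (Nat.log 2 (2 * n)) ≠ ⊥ := by
  classical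
  have hk1 : 0 < Nat.log 2 (2 * n) := Nat.log_pos (by norm_num) (by omega)
  obtain ⟨j, hj⟩ : ∃ j, Nat.log 2 (2 * n) = j + 1 := ⟨Nat.log 2 (2 * n) - 1, by omega⟩
  have h2j : 2 ^ j ≤ n := by
    have h1 := Nat.pow_log_le_self 2 (show 2 * n ≠ 0 by omega)
    rw [hj, pow_succ] at h1
    omega
  obtain ⟨W, i1, i2, ι, i3, i4, i5, γ, hW, hder, hcard, hγ⟩ := exists_sp_wreath hodd j
  have hc : Fintype.card (ι ⊕ Fin (n - 2 ^ j)) = n := by
    rw [Fintype.card_sum, hcard, Fintype.card_fin]
    omega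
  obtain ⟨γ', hγ'⟩ := sympRep_pad ι (Fin (n - 2 ^ j)) (Fin n) (Fintype.equivFinOfCardEq hc) γ hγ
  have hrange : IsPGroup 2 γ'.range := hW.of_equiv (MonoidHom.ofInjective hγ')
  obtain ⟨P', hP'⟩ := hrange.exists_le_sylow
  let φ : W →* ↥(R : Subgroup (Matrix.symplecticGroup (Fin n) F)) :=
    (P'.equiv R).toMonoidHom.comp ((Subgroup.inclusion hP').comp γ'.rangeRestrict)
  have hφ : Function.Injective φ := by
    apply (MulEquiv.injective _).comp
    apply (Subgroup.inclusion_injective hP').comp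
    exact MonoidHom.rangeRestrict_injective_iff.mpr hγ'
  rw [hj]
  obtain ⟨w, hw1⟩ := (Subgroup.ne_bot_iff_exists_ne_one.mp hder)
  intro h0
  have h1 : φ w ∈ derivedSeries ↥(R : Subgroup (Matrix.symplecticGroup (Fin n) F)) (j + 1) :=
    map_derivedSeries_le_derivedSeries φ (j + 1) (Subgroup.mem_map_of_mem φ w.2)
  rw [h0, Subgroup.mem_bot] at h1
  have h2 : (w : W) = 1 := hφ (h1.trans (map_one φ).symm)
  exact hw1 (Subtype.ext h2)

/-- The `(⌊log₂ (2n)⌋ + 1)`-st derived subgroup of a Sylow 2-subgroup of `Sp_{2n}(F)` is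
trivial. -/
theorem sp_sylow_derived_le {F : Type*} [Field F] [Fintype F] (n : ℕ)
    (R : Sylow 2 (Matrix.symplecticGroup (Fin n) F)) :
    derivedSeries ↥(R : Subgroup (Matrix.symplecticGroup (Fin n) F))
      (Nat.log 2 (2 * n) + 1) = ⊥ := by
  classical
  let μ : ↥(R : Subgroup (Matrix.symplecticGroup (Fin n) F)) →*
      Matrix (Fin (n + n)) (Fin (n + n)) F :=
    (MonoidHomClass.toMonoidHom
      (Matrix.reindexRingEquiv F (finSumFinEquiv : Fin n ⊕ Fin n ≃ Fin (n + n)))).comp
      ((Matrix.symplecticGroup (Fin n) F).subtype.comp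
        (R : Subgroup (Matrix.symplecticGroup (Fin n) F)).subtype)
  have hμ : Function.Injective μ := by
    intro a c hac
    have h1 : ((a : Matrix.symplecticGroup (Fin n) F) : Matrix (Fin n ⊕ Fin n) (Fin n ⊕ Fin n) F) =
        ((c : Matrix.symplecticGroup (Fin n) F) : Matrix (Fin n ⊕ Fin n) (Fin n ⊕ Fin n) F) :=
      (Matrix.reindexRingEquiv F (finSumFinEquiv : Fin n ⊕ Fin n ≃ Fin (n + n))).injective hac
    exact Subtype.ext (Subtype.ext h1)
  have hinj : Function.Injective μ.toHomUnits := by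
    intro a c hac
    apply hμ
    have h1 := congrArg Units.val hac
    rwa [MonoidHom.coe_toHomUnits, MonoidHom.coe_toHomUnits] at h1
  have h := gl_derived 2 R.isPGroup' F (n + n) μ.toHomUnits hinj
  rwa [← two_mul] at h

end Cfsg.Agent.Helper22
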