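import Mathlib
import Cfsg.Agent.Helper22.ConjSmul

set_option autoImplicit false
open scoped Pointwise

namespace Cfsg.Agent.Helper22
open Subgroup

/-- In a finite nilpotent group every subgroup is subnormal. -/
theorem isSubnormal_of_nilpotent {X : Type*} [Group X] [Finite X] [Group.IsNilpotent X]
    (K : Subgroup X) : K.IsSubnormal := by
  induction K using WellFoundedGT.induction with
  | ind K ih =>
    by_cases hKt : K = ⊤
    · subst hKt; exact IsSubnormal.top
    · have hlt := Group.normalizerCondition_of_isNilpotent K (lt_top_iff_ne_top.mpr hKt)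
      exact IsSubnormal.step K (normalizer (K : Set X)) le_normalizer (ih _ hlt) Subgroup.normal_in_normalizer

theorem mem_normalizer_iff_conj_smul {G : Type*} [Group G] (R : Subgroup G) (x : G) :
    x ∈ normalizer R ↔ MulAut.conj x • R = R := by
  rw [Subgroup.mem_normalizer_iff'', SetLike.ext_iff]
  simp only [mem_conj_smul_iff]
  exact forall_congr' (fun _ => Iff.comm)

/-- The intersection of the maximal `p`-subgroups of `L`. -/
def pcoreIn (p : ℕ) {X : Type*} [Group X] (L : Subgroup X) : Subgroup X :=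
  sInf {S | Maximal (fun Q : Subgroup X => IsPGroup p Q ∧ Q ≤ L) S}

section pcore
variable (p : ℕ) [Fact p.Prime] {X : Type*} [Group X] [Finite X]

theorem pcoreIn_prop (L : Subgroup X) : IsPGroup p (pcoreIn p L) ∧ pcoreIn p L ≤ L := by
  obtain ⟨S, -, hS⟩ := Finite.exists_le_maximal
    (p := fun Q : Subgroup X => IsPGroup p Q ∧ Q ≤ L) (a := ⊥) ⟨IsPGroup.of_bot, bot_le⟩
  have hle : pcoreIn p L ≤ S := sInf_le hS
  exact ⟨hS.1.1.to_le hle, hle.trans hS.1.2⟩

theorem le_pcoreIn (L K : Subgroup X) (hK : IsPGroup p K) (hKL : K ≤ L) (hN : L ≤ normalizer K) :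
    K ≤ pcoreIn p L := by
  apply le_sInf
  intro S hS
  have h1 : IsPGroup p (K ⊔ S : Subgroup X) :=
    IsPGroup.to_sup_of_normal_left' hK hS.1.1 (hS.1.2.trans hN)
  have h2 := hS.2 (y := K ⊔ S) ⟨h1, sup_le hKL hS.1.2⟩ le_sup_right
  exact le_sup_left.trans h2

theorem maximal_conj (L : Subgroup X) (x : X) (hx : MulAut.conj x • L = L) (S : Subgroup X)
    (hS : Maximal (fun Q : Subgroup X => IsPGroup p Q ∧ Q ≤ L) S) :
    Maximal (fun Q : Subgroup X => IsPGroup p Q ∧ Q ≤ L) (MulAut.conj x • S) := by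
  have hx' : (MulAut.conj x)⁻¹ • L = L := by
    conv_lhs => rw [← hx]
    rw [inv_smul_smul]
  refine ⟨⟨hS.1.1.of_equiv (Subgroup.equivSMul (MulAut.conj x) S), ?_⟩, ?_⟩
  · rw [← hx]
    exact Subgroup.pointwise_smul_le_pointwise_smul_iff.mpr hS.1.2
  · intro Q hQ hle
    rw [Subgroup.pointwise_smul_subset_iff] at hle
    rw [Subgroup.subset_pointwise_smul_iff]
    refine hS.2 ⟨hQ.1.of_equiv (Subgroup.equivSMul (MulAut.conj x)⁻¹ Q), ?_⟩ hle
    rw [← hx']
    exact Subgroup.pointwise_smul_le_pointwise_smul_iff.mpr hQ.2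

theorem conj_pcoreIn_le (L : Subgroup X) (x : X) (hx : MulAut.conj x • L = L) :
    MulAut.conj x • pcoreIn p L ≤ pcoreIn p L := by
  have hx' : MulAut.conj x⁻¹ • L = L := by
    conv_lhs => rw [← hx]
    rw [map_inv, inv_smul_smul]
  apply le_sInf
  intro S hS
  rw [Subgroup.pointwise_smul_subset_iff, ← map_inv]
  exact sInf_le (maximal_conj p L x⁻¹ hx' S hS)

theorem normalizer_le_normalizer_pcoreIn (L : Subgroup X) :
    normalizer (L : Set X) ≤ normalizer ((pcoreIn p L : Subgroup X) : Set X) := by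
  intro x hx
  have hx1 := (mem_normalizer_iff_conj_smul L x).mp hx
  have hx2 := (mem_normalizer_iff_conj_smul L x⁻¹).mp (inv_mem hx)
  rw [mem_normalizer_iff_conj_smul]
  apply le_antisymm (conj_pcoreIn_le p L x hx1)
  have := conj_pcoreIn_le p L x⁻¹ hx2
  rwa [map_inv, Subgroup.pointwise_smul_subset_iff, inv_inv] at this

theorem pcoreIn_le_of_isSubnormal (L : Subgroup X) (hL : L.IsSubnormal) :
    pcoreIn p L ≤ pcoreIn p (⊤ : Subgroup X) := by
  induction hL with
  | top => exact le_rfl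
  | step H K h_le hSubn hN ih =>
    refine le_trans ?_ ih
    apply le_pcoreIn p K _ (pcoreIn_prop p H).1 ((pcoreIn_prop p H).2.trans h_le)
    rw [normal_subgroupOf_iff_le_normalizer h_le] at hN
    exact hN.trans (normalizer_le_normalizer_pcoreIn p H)

/-- A subnormal `p`-subgroup lies in a normal `p`-subgroup. -/
theorem exists_normal_pgroup_of_isSubnormal (K : Subgroup X) (hK : IsPGroup p K)
    (hsn : K.IsSubnormal) : ∃ N : Subgroup X, N.Normal ∧ IsPGroup p N ∧ K ≤ N := by
  refine ⟨pcoreIn p (⊤ : Subgroup X), ?_, (pcoreIn_prop p _).1, ?_⟩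
  · rw [← normalizer_eq_top_iff, eq_top_iff]
    refine le_trans ?_ (normalizer_le_normalizer_pcoreIn p (⊤ : Subgroup X))
    rw [normalizer_eq_top_iff.mpr inferInstance]
  · exact (le_pcoreIn p K K hK le_rfl le_normalizer).trans (pcoreIn_le_of_isSubnormal p K hsn)

end pcore

/-- Characterisation of the subnormaliser of a `p`-subgroup. -/
theorem subnormal_iff_exists_pgroup (p : ℕ) [Fact p.Prime] {G : Type*} [Group G] [Finite G]
    (H : Subgroup G) (hH : IsPGroup p H) (g : G) :
    (H.subgroupOf (H ⊔ Subgroup.zpowers g)).IsSubnormal ↔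
      ∃ R : Subgroup G, IsPGroup p R ∧ H ≤ R ∧ g ∈ normalizer R := by
  constructor
  · intro hsn
    obtain ⟨N, hNn, hNp, hle⟩ := exists_normal_pgroup_of_isSubnormal p
      (H.subgroupOf (H ⊔ Subgroup.zpowers g)) hH.comap_subtype hsn
    refine ⟨N.map (H ⊔ Subgroup.zpowers g).subtype, hNp.map _, ?_, ?_⟩
    · intro h hh
      exact ⟨⟨h, le_sup_left (a := H) hh⟩, hle (mem_subgroupOf.mpr hh), rfl⟩
    · have hg : g ∈ H ⊔ Subgroup.zpowers g := le_sup_right (a := H) (Subgroup.mem_zpowers g)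
      apply Subgroup.le_normalizer_map (H ⊔ Subgroup.zpowers g).subtype
      refine ⟨⟨g, hg⟩, ?_, rfl⟩
      rw [normalizer_eq_top_iff.mpr hNn]
      exact Subgroup.mem_top _
  · rintro ⟨R, hR, hHR, hg⟩
    have hX : H ⊔ Subgroup.zpowers g ≤ normalizer R :=
      sup_le (hHR.trans le_normalizer) ((Subgroup.zpowers_le).mpr hg)
    haveI hn : (R.subgroupOf (H ⊔ Subgroup.zpowers g)).Normal :=
      normal_subgroupOf_of_le_normalizer hX
    have hRp : IsPGroup p (R.subgroupOf (H ⊔ Subgroup.zpowers g)) := hR.comap_subtype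
    haveI : Group.IsNilpotent (R.subgroupOf (H ⊔ Subgroup.zpowers g)) := hRp.isNilpotent
    have hle : H.subgroupOf (H ⊔ Subgroup.zpowers g) ≤ R.subgroupOf (H ⊔ Subgroup.zpowers g) :=
      Subgroup.comap_mono hHR
    exact IsSubnormal.trans hle (isSubnormal_of_nilpotent _) hn.isSubnormal

end Cfsg.Agent.Helper22
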