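import Mathlib
import Cfsg.Agent.Helper22.PGroupNorm

set_option autoImplicit false
open scoped Pointwise

namespace Cfsg.Agent.Helper22
open Subgroup

variable {G : Type*} [Group G]

/-- elementwise form of the TI property -/
theorem ti_elt (P : Subgroup G)
    (hTI : ∀ g : G, g ∉ normalizer (P : Set G) → P ⊓ (MulAut.conj g • P) = ⊥) :
    ∀ g b : G, b ∈ P → b ≠ 1 → g * b * g⁻¹ ∈ P → g ∈ normalizer (P : Set G) := by
  intro g b hb hb1 hgb
  by_contra hg
  have h1 := hTI g hg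
  have h2 : g * b * g⁻¹ ∈ P ⊓ (MulAut.conj g • P) := by
    refine Subgroup.mem_inf.mpr ⟨hgb, ?_⟩
    rw [Subgroup.mem_pointwise_smul_iff_inv_smul_mem]
    have e : (MulAut.conj g)⁻¹ • (g * b * g⁻¹) = b := by
      simp only [MulAut.smul_def, ← map_inv, MulAut.conj_apply]
      group
    rw [e]; exact hb
  rw [h1, Subgroup.mem_bot] at h2
  apply hb1
  have : b = g⁻¹ * (g * b * g⁻¹) * g := by group
  rw [this, h2]; group

theorem ti_of_elt (P : Subgroup G)
    (h : ∀ g b : G, b ∈ P → b ≠ 1 → g * b * g⁻¹ ∈ P → g ∈ normalizer (P : Set G)) :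
    ∀ g : G, g ∉ normalizer (P : Set G) → P ⊓ (MulAut.conj g • P) = ⊥ := by
  intro g hg
  rw [eq_bot_iff]
  intro a ha
  obtain ⟨ha1, ha2⟩ := Subgroup.mem_inf.mp ha
  rw [Subgroup.mem_pointwise_smul_iff_inv_smul_mem] at ha2
  have ha2' : g⁻¹ * a * g ∈ P := by simpa [MulAut.smul_def] using ha2
  rw [Subgroup.mem_bot]
  by_contra ha0
  apply hg
  apply h g (g⁻¹ * a * g) ha2'
  · intro h1
    apply ha0
    have : a = g * (g⁻¹ * a * g) * g⁻¹ := by group
    rw [this, h1]; group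
  · have : g * (g⁻¹ * a * g) * g⁻¹ = a := by group
    rw [this]; exact ha1

/-- the elementwise TI property passes to conjugates -/
theorem ti_elt_conj [Finite G] (P : Subgroup G)
    (h : ∀ g b : G, b ∈ P → b ≠ 1 → g * b * g⁻¹ ∈ P → g ∈ normalizer (P : Set G))
    (P1 : Subgroup G) (c : G) (hc : ∀ z : G, z ∈ P1 ↔ c⁻¹ * z * c ∈ P) :
    ∀ g b : G, b ∈ P1 → b ≠ 1 → g * b * g⁻¹ ∈ P1 → g ∈ normalizer (P1 : Set G) := by
  intro g b hb hb1 hgb
  rw [hc] at hb hgb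
  have h1 : c⁻¹ * g * c ∈ normalizer (P : Set G) := by
    apply h (c⁻¹ * g * c) (c⁻¹ * b * c) hb
    · intro h0
      apply hb1
      have : b = c * (c⁻¹ * b * c) * c⁻¹ := by group
      rw [this, h0]; group
    · have : c⁻¹ * g * c * (c⁻¹ * b * c) * (c⁻¹ * g * c)⁻¹ = c⁻¹ * (g * b * g⁻¹) * c := by group
      rw [this]; exact hgb
  apply mem_normalizer_of_forall_conj_mem
  intro r hr
  rw [hc] at hr ⊢
  have := conj_mem_of_mem_normalizer h1 hr
  have e : c⁻¹ * g * c * (c⁻¹ * r * c) * (c⁻¹ * g * c)⁻¹ = c⁻¹ * (g * r * g⁻¹) * c := by group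
  rwa [e] at this

theorem sylow_smul_mem_iff [Finite G] {p : ℕ} [Fact p.Prime] (P : Sylow p G) (h z : G) :
    z ∈ ((h • P : Sylow p G) : Subgroup G) ↔ h⁻¹ * z * h ∈ (P : Subgroup G) := by
  rw [Sylow.coe_subgroup_smul, Subgroup.mem_pointwise_smul_iff_inv_smul_mem]
  simp [MulAut.smul_def]

end Cfsg.Agent.Helper22
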